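import Mathlib.LinearAlgebra.Trace
import Mathlib.LinearAlgebra.Projection
import Mathlib.LinearAlgebra.Determinant
import Mathlib.LinearAlgebra.Dimension.Finrank
import Mathlib.LinearAlgebra.FiniteDimensional.Lemmas
import Mathlib.Tactic
import Mathlib.LinearAlgebra.Matrix.SpecialLinearGroup
import Mathlib.Data.ZMod.Basic
import Cfsg.Agent.H614.AMod.EightF_m3
import Mathlib.LinearAlgebra.BilinearForm.Properties
import Cfsg.Agent.H906.Cover_m3
import Cfsg.Agent.S2086
import Cfsg.Agent.ClassicalGeometry.AutPSL.Main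
import Cfsg.Agent.H6.M11.Main11
import Cfsg.Agent.H933.O10.Base_m3
import Cfsg.Agent.H905.JDMain_mg
import Cfsg.Agent.H434.LD.PSp45_m3
import Cfsg.Agent.H24.M12.Pow
import Cfsg.Agent.H175.LD.Core33
import Cfsg.Agent.H924.D5F_m3
import Cfsg.Agent.H114.TyTwo_m3
import Cfsg.Agent.H879.Nine.Ctx_m3
import Cfsg.Agent.H464.L2StageOne_m3
import Cfsg.Agent.H924.SympForm
import Cfsg.Prelude.Def_Spor_Suz
import Cfsg.Prelude.Def_G2
import Cfsg.Prelude.Def_Spor_Mathieu
import Cfsg.Agent.FastGrp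
import Cfsg.Agent.Prune
set_option linter.all false

section
prune_inst 0x7fffedfbbbf879dfdfff7e7faededffdffbb3fffe6fff9cb7fe069ff0b9f4b00cdc5fbad8bea93fe1fb6421410f87b43f9ffeeffe86bdc7ffffd5ff41ffbffdffdf7b508519c88b40fbc0ffe03f0778e7f3fffffffffffffffffffffffffffbeffbfffffffff

-- part: H915/L33Sys
section
prune_inst 0x4040782200000000001002000000480001000040000000600f060349822000402000060004040a02080008000060011000200200000000000000000000000000000011000000000000000000000000000000000000000000000000000004000000000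
set_option linter.all false
open scoped Cfsg.Agent.FastGrp

/-- Laplace expansion which skips zero entries -/
private noncomputable def detL_1e0e7 {R : Type*} [CommRing R] [DecidableEq R] (n : ℕ) : Matrix (Fin n) (Fin n) R → R :=
  @Nat.rec (fun n => Matrix (Fin n) (Fin n) R → R) (fun _ => 1) (fun n ih M =>
    ∑ j : Fin (n + 1), if M 0 j = 0 then 0 else (-1) ^ (j : ℕ) * M 0 j * ih (M.submatrix Fin.succ j.succAbove)) n

private theorem detL_eq_1e0e7 {R : Type*} [CommRing R] [DecidableEq R] {n : ℕ} (M : Matrix (Fin n) (Fin n) R) :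
    M.det = detL_1e0e7 n M := by
  induction n with
  | zero => exact Matrix.det_fin_zero
  | succ n ih =>
    rw [Matrix.det_succ_row_zero]
    refine Finset.sum_congr rfl fun j _ => ?_
    by_cases h : M 0 j = 0
    · rw [if_pos h, h, mul_zero, zero_mul]
    · rw [if_neg h, ih]
      rfl


-- part: H915/IdemRank
section
/-!
# Ranks and traces of idempotents, averages over elements of order 3 (helper915)
-/

set_option autoImplicit false
set_option linter.unusedSectionVars false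

namespace Cfsg.Agent.H915.Idem

open Module

variable {F : Type*} [Field F] {V : Type*} [AddCommGroup V] [Module F V] [FiniteDimensional F V]

/-- the rank -/
noncomputable def rk (e : End F V) : ℕ := finrank F (LinearMap.range e)

theorem rk_one : rk (1 : End F V) = finrank F V := by
  unfold rk
  have : LinearMap.range (1 : End F V) = ⊤ := LinearMap.range_id
  rw [this, finrank_top]

theorem rk_zero : rk (0 : End F V) = 0 := by
  unfold rk
  rw [LinearMap.range_zero, finrank_bot]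

theorem eq_zero_of_rk {e : End F V} (h : rk e = 0) : e = 0 := by
  unfold rk at h
  rw [Submodule.finrank_eq_zero] at h
  exact LinearMap.range_eq_bot.1 h

theorem mem_range_iff {e : End F V} (he : e * e = e) (v : V) : v ∈ LinearMap.range e ↔ e v = v := by
  constructor
  · rintro ⟨w, rfl⟩
    exact LinearMap.congr_fun he w
  · intro h
    exact ⟨v, h⟩

/-- orthogonal idempotents -/
theorem rk_add {e f : End F V} (he : e * e = e) (hf : f * f = f) (hef : e * f = 0) (hfe : f * e = 0) :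
    rk (e + f) = rk e + rk f := by
  unfold rk
  have h1 : LinearMap.range (e + f) = LinearMap.range e ⊔ LinearMap.range f := by
    apply le_antisymm
    · rintro _ ⟨v, rfl⟩
      exact Submodule.add_mem_sup ⟨v, rfl⟩ ⟨v, rfl⟩
    · apply sup_le
      · rintro _ ⟨v, rfl⟩
        refine ⟨e v, ?_⟩
        have h1 : f (e v) = 0 := LinearMap.congr_fun hfe v
        have h2 : e (e v) = e v := LinearMap.congr_fun he v
        rw [LinearMap.add_apply, h1, h2, add_zero]
      · rintro _ ⟨v, rfl⟩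
        refine ⟨f v, ?_⟩
        have h1 : e (f v) = 0 := LinearMap.congr_fun hef v
        have h2 : f (f v) = f v := LinearMap.congr_fun hf v
        rw [LinearMap.add_apply, h1, h2, zero_add]
  have h2 : LinearMap.range e ⊓ LinearMap.range f = ⊥ := by
    rw [eq_bot_iff]
    rintro v ⟨h3, h4⟩
    rw [SetLike.mem_coe, mem_range_iff he] at h3
    rw [SetLike.mem_coe, mem_range_iff hf] at h4
    have h5 : e (f v) = 0 := LinearMap.congr_fun hef v
    rw [h4, h3] at h5
    rw [h5]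
    exact Submodule.zero_mem _
  have h3 := Submodule.finrank_sup_add_finrank_inf_eq (LinearMap.range e) (LinearMap.range f)
  rw [h2, finrank_bot, add_zero] at h3
  rw [h1, h3]

/-- conjugate endomorphisms have the same rank -/
theorem rk_conj {e f u u' : End F V} (h1 : u' * u = 1) (h2 : u * u' = 1) (h : u * e = f * u) : rk e = rk f := by
  unfold rk
  let E : V ≃ₗ[F] V := LinearEquiv.ofLinearMap u u' h2 h1
  have h3 : LinearMap.range f = (LinearMap.range e).map (E : V →ₗ[F] V) := by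
    ext v
    constructor
    · rintro ⟨w, rfl⟩
      refine ⟨e (u' w), ⟨_, rfl⟩, ?_⟩
      have h4 : u (e (u' w)) = f (u (u' w)) := LinearMap.congr_fun h (u' w)
      have h5 : u (u' w) = w := LinearMap.congr_fun h2 w
      rw [h5] at h4
      exact h4
    · rintro ⟨_, ⟨w, rfl⟩, rfl⟩
      refine ⟨u w, ?_⟩
      exact (LinearMap.congr_fun h w).symm
  rw [h3]
  exact (LinearEquiv.finrank_eq (E.submoduleMap (LinearMap.range e)))

/-- trace of an idempotent -/
theorem trace_idem {e : End F V} (he : e * e = e) : LinearMap.trace F V e = rk e := by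
  have h : LinearMap.IsProj (LinearMap.range e) e :=
    ⟨fun x => ⟨x, rfl⟩, fun x hx => (mem_range_iff he x).1 hx⟩
  exact h.trace

theorem trace_comm (a b : End F V) : LinearMap.trace F V (a * b) = LinearMap.trace F V (b * a) :=
  LinearMap.trace_mul_comm F a b

/-- trace of a conjugate -/
theorem trace_conj' {e f u u' : End F V} (h1 : u' * u = 1) (h2 : u * u' = 1) (h : u * e = f * u) :
    LinearMap.trace F V e = LinearMap.trace F V f := by
  have h3 : e = u' * (f * u) := by rw [← h, ← mul_assoc, h1, one_mul]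
  rw [h3, trace_comm, mul_assoc, h2, mul_one]

/-- `h` inverts `g` on the range of `Q` and `1 + g + g² = 0` there: the trace of `h Q` vanishes -/
theorem trace_zero {g h Q : End F V} (h3 : (3 : F) ≠ 0) (hg : g * g * g = 1) (hgQ : g * Q = Q * g)
    (hhg : h * g * Q = g * g * h * Q) (hQ0 : (1 + g + g * g) * Q = 0) : LinearMap.trace F V (h * Q) = 0 := by
  have k0 : g * h * g * Q = h * Q := by
    rw [mul_assoc g h g, mul_assoc, hhg]
    simp only [← mul_assoc]
    rw [hg, one_mul]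
  have k1 : LinearMap.trace F V (h * Q) = LinearMap.trace F V (h * g * Q) := by
    have s1 : g * (h * Q) * (g * g) = h * g * Q := by
      have s2 : g * (h * Q) * (g * g) = (g * h * g * Q) * g := by
        have s3 : Q * g = g * Q := hgQ.symm
        simp only [mul_assoc]
        rw [← mul_assoc Q g g, s3, mul_assoc g Q g, s3, ← mul_assoc g g Q]
      rw [s2, k0, mul_assoc, ← hgQ, ← mul_assoc]
    have s2 : LinearMap.trace F V (g * (h * Q) * (g * g)) = LinearMap.trace F V (h * Q) := by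
      rw [trace_comm]
      congr 1
      simp only [← mul_assoc]
      rw [hg, one_mul]
    rw [← s2, s1]
  have k2 : LinearMap.trace F V (h * g * Q) = LinearMap.trace F V (h * (g * g) * Q) := by
    have s1 : g * (h * g * Q) * (g * g) = h * (g * g) * Q := by
      have s4 : g * (h * g * Q) = h * Q := by rw [← k0]; simp only [mul_assoc]
      rw [s4]
      have s3 : Q * g = g * Q := hgQ.symm
      rw [mul_assoc h Q, ← mul_assoc Q g g, s3, mul_assoc g Q g, s3, ← mul_assoc g g Q, ← mul_assoc]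
    have s2 : LinearMap.trace F V (g * (h * g * Q) * (g * g)) = LinearMap.trace F V (h * g * Q) := by
      rw [trace_comm]
      congr 1
      simp only [← mul_assoc]
      rw [hg, one_mul]
    rw [← s2, s1]
  have k3 : LinearMap.trace F V (h * Q) + LinearMap.trace F V (h * g * Q) +
      LinearMap.trace F V (h * (g * g) * Q) = 0 := by
    rw [← map_add, ← map_add]
    have s1 : h * Q + h * g * Q + h * (g * g) * Q = h * ((1 + g + g * g) * Q) := by noncomm_ring
    rw [s1, hQ0, mul_zero, map_zero]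
  rw [← k2, ← k1] at k3
  have k4 : (3 : F) * LinearMap.trace F V (h * Q) = 0 := by linear_combination k3
  exact (mul_eq_zero.1 k4).resolve_left h3

/-- the rank of `Q` is even -/
theorem rk_even {g h h' Q : End F V} (h2 : (2 : F) ≠ 0) (h3 : (3 : F) ≠ 0) (hQ : Q * Q = Q) (hg : g * g * g = 1)
    (hgQ : g * Q = Q * g) (hh : h' * h = 1) (hhQ : h * Q = Q * h) (hhQ' : h' * Q = Q * h')
    (hhg : h * g * Q = g * g * h * Q) (hQ0 : (1 + g + g * g) * Q = 0) : Even (rk Q) := by
  let X := LinearMap.range Q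
  have hgX : ∀ x ∈ X, (g - g * g) x ∈ X := by
    rintro _ ⟨v, rfl⟩
    refine ⟨(g - g * g) v, ?_⟩
    have e1 : (g - g * g) * Q = Q * (g - g * g) := by
      rw [sub_mul, mul_sub, mul_assoc g g Q, hgQ, ← mul_assoc g Q g, hgQ, ← mul_assoc Q g g]
    exact (LinearMap.congr_fun e1 v).symm
  have hhX : ∀ x ∈ X, h x ∈ X := by
    rintro _ ⟨v, rfl⟩
    exact ⟨h v, (LinearMap.congr_fun hhQ v).symm⟩
  have hhX' : ∀ x ∈ X, h' x ∈ X := by
    rintro _ ⟨v, rfl⟩
    exact ⟨h' v, (LinearMap.congr_fun hhQ' v).symm⟩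
  let j : X →ₗ[F] X := (g - g * g).restrict hgX
  let k : X →ₗ[F] X := LinearMap.restrict h hhX
  let k' : X →ₗ[F] X := LinearMap.restrict h' hhX'
  have hk : k' * k = 1 := by
    ext x
    exact LinearMap.congr_fun hh x.1
  have hj : j * j = (-3 : F) • (1 : X →ₗ[F] X) := by
    apply LinearMap.ext
    rintro ⟨_, ⟨v, rfl⟩⟩
    apply Subtype.ext
    have e1 : (g - g * g) * (g - g * g) * Q = (-3 : F) • Q := by
      have e3 : g * g * g * g = g := by rw [hg, one_mul]
      have e4 : (g - g * g) * (g - g * g) = g * g - g * g * g - g * g * g + g * g * g * g := by noncomm_ring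
      have e5 : (g - g * g) * (g - g * g) = (1 + g + g * g) - (1 + 1 + 1) := by
        rw [e4, e3, hg]
        abel
      rw [e5, sub_mul, hQ0, zero_sub, add_mul, add_mul, one_mul, neg_smul]
      congr 1
      module
    exact LinearMap.congr_fun e1 v
  have hkj : k * j = -(j * k) := by
    apply LinearMap.ext
    rintro ⟨_, ⟨v, rfl⟩⟩
    apply Subtype.ext
    have e1 : h * (g - g * g) * Q = -((g - g * g) * h * Q) := by
      have e2 : h * (g * g) * Q = g * h * Q := by
        have e3 : h * (g * g) * Q = (h * g * Q) * g := by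
          rw [mul_assoc (h * g) Q g, ← hgQ]
          simp only [mul_assoc]
        rw [e3, hhg, mul_assoc (g * g * h) Q g, ← hgQ]
        have e4 : g * g * h * (g * Q) = g * g * (h * g * Q) := by simp only [mul_assoc]
        rw [e4, hhg]
        have e5 : g * g * (g * g * h * Q) = (g * g * g) * (g * h * Q) := by simp only [mul_assoc]
        rw [e5, hg, one_mul]
      rw [mul_sub, sub_mul, e2, hhg, sub_mul, sub_mul]
      abel
    exact LinearMap.congr_fun e1 v
  have hdet : LinearMap.det k * LinearMap.det j = (-1) ^ (rk Q) * (LinearMap.det j * LinearMap.det k) := by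
    have e1 := congrArg LinearMap.det hkj
    rw [map_mul] at e1
    rw [e1]
    have e2 : -(j * k) = (-1 : F) • (j * k) := (neg_one_smul F (j * k)).symm
    rw [e2, LinearMap.det_smul, map_mul]
    rfl
  have hj0 : LinearMap.det j ≠ 0 := by
    intro h0
    have e1 := congrArg LinearMap.det hj
    rw [map_mul, h0, zero_mul, LinearMap.det_smul, map_one, mul_one] at e1
    exact pow_ne_zero _ (neg_ne_zero.2 h3) e1.symm
  have hk0 : LinearMap.det k ≠ 0 := by
    intro h0
    have e1 := congrArg LinearMap.det hk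
    rw [map_mul, h0, mul_zero, map_one] at e1
    exact zero_ne_one e1
  have h4 : ((-1 : F)) ^ (rk Q) = 1 := by
    have e1 : (LinearMap.det j * LinearMap.det k) * ((-1) ^ (rk Q) - 1) = 0 := by
      linear_combination -hdet
    have e2 := (mul_eq_zero.1 e1).resolve_left (mul_ne_zero hj0 hk0)
    linear_combination e2
  by_contra hodd
  rw [Nat.not_even_iff_odd] at hodd
  rw [hodd.neg_one_pow] at h4
  apply h2
  linear_combination -h4

/-- on a two-dimensional space, maps commuting with a non-scalar map commute -/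
theorem comm_of_rk_two {A S T Q : End F V} (hQ : Q * Q = Q) (h2 : rk Q = 2) (hA : A * Q = Q * A) (hS : S * Q = Q * S)
    (hT : T * Q = Q * T) (hAS : A * S * Q = S * A * Q) (hAT : A * T * Q = T * A * Q)
    (hns : ¬ ∃ c : F, A * Q = c • Q) : S * T * Q = T * S * Q := by
  -- a cyclic vector
  obtain ⟨x, hx, hxi⟩ : ∃ x, Q x = x ∧ LinearIndependent F ![x, A x] := by
    by_contra hcon
    push Not at hcon
    apply hns
    -- every vector of the range is an eigenvector
    have h3 : ∀ x, Q x = x → x ≠ 0 → ∃ c : F, A x = c • x := by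
      intro x hx hx0
      have h4 := hcon x hx
      rw [LinearIndependent.pair_iff' hx0] at h4
      push Not at h4
      obtain ⟨c, hc⟩ := h4
      exact ⟨c, hc.symm⟩
    have hne : ∃ x, Q x = x ∧ x ≠ 0 := by
      have h4 : LinearMap.range Q ≠ ⊥ := by
        intro h5
        unfold rk at h2
        rw [h5, finrank_bot] at h2
        exact absurd h2 (by norm_num)
      obtain ⟨x, hx, hx0⟩ := Submodule.exists_mem_ne_zero_of_ne_bot h4
      exact ⟨x, (mem_range_iff hQ x).1 hx, hx0⟩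
    obtain ⟨x, hx, hx0⟩ := hne
    obtain ⟨c, hc⟩ := h3 x hx hx0
    refine ⟨c, ?_⟩
    apply LinearMap.ext
    intro v
    change A (Q v) = c • Q v
    have hy : Q (Q v) = Q v := LinearMap.congr_fun hQ v
    set y := Q v with hydef
    by_cases hy0 : y = 0
    · rw [hy0, map_zero, smul_zero]
    obtain ⟨d, hd⟩ := h3 y hy hy0
    by_cases hxy : x + y = 0
    · have h4 : y = -x := by rw [eq_neg_iff_add_eq_zero, add_comm]; exact hxy
      rw [h4, map_neg, hc, smul_neg]
    obtain ⟨e, he⟩ := h3 (x + y) (by rw [map_add, hx, hy]) hxy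
    rw [map_add, hc, hd, smul_add] at he
    by_cases hde : d = c
    · rw [hd, hde]
    · -- c x + d y = e x + e y
      have h4 : (c - e) • x = (e - d) • y := by
        rw [sub_smul, sub_smul, sub_eq_sub_iff_add_eq_add, he, add_comm]
      by_cases hce : c = e
      · rw [hce, sub_self, zero_smul] at h4
        have h5 := (smul_eq_zero.1 h4.symm).resolve_right hy0
        rw [hd]
        rw [hce, ← sub_eq_zero.1 h5]
      · have h5 : x = ((c - e)⁻¹ * (e - d)) • y := by
          rw [mul_smul, ← h4, smul_smul, inv_mul_cancel₀ (sub_ne_zero.2 hce), one_smul]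
        have h6 : A x = d • x := by
          rw [h5, map_smul, hd, smul_comm]
        rw [hc] at h6
        have h7 : (c - d) • x = 0 := by rw [sub_smul, h6, sub_self]
        have h8 := (smul_eq_zero.1 h7).resolve_right hx0
        exact absurd (sub_eq_zero.1 h8).symm hde
  have hAx : Q (A x) = A x := by
    have h3 := LinearMap.congr_fun hA x
    have h4 : A (Q x) = Q (A x) := h3
    rw [hx] at h4
    exact h4.symm
  -- span
  have hspan : ∀ v, Q v = v → ∃ a b : F, v = a • x + b • A x := by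
    intro v hv
    have h3 : Submodule.span F (Set.range ![x, A x]) = LinearMap.range Q := by
      apply Submodule.eq_of_le_of_finrank_eq
      · rw [Submodule.span_le]
        rintro _ ⟨i, rfl⟩
        fin_cases i
        · exact (mem_range_iff hQ x).2 hx
        · exact (mem_range_iff hQ (A x)).2 hAx
      · rw [finrank_span_eq_card hxi]
        unfold rk at h2
        rw [h2]
        rfl
    have h4 : v ∈ Submodule.span F (Set.range ![x, A x]) := by
      rw [h3]
      exact (mem_range_iff hQ v).2 hv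
    rw [Matrix.range_cons, Matrix.range_cons, Matrix.range_empty, Set.union_empty, Set.singleton_union,
      Submodule.mem_span_pair] at h4
    obtain ⟨a, b, hab⟩ := h4
    exact ⟨a, b, hab.symm⟩
  have hc : ∀ S : End F V, S * Q = Q * S → A * S * Q = S * A * Q → ∃ a b : F, S * Q = (a • 1 + b • A) * Q := by
    intro S hS hAS
    have h3 : Q (S x) = S x := by
      have h4 : S (Q x) = Q (S x) := LinearMap.congr_fun hS x
      rw [hx] at h4
      exact h4.symm
    obtain ⟨a, b, hab⟩ := hspan _ h3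
    refine ⟨a, b, ?_⟩
    apply LinearMap.ext
    intro v
    have hv : Q (Q v) = Q v := LinearMap.congr_fun hQ v
    obtain ⟨s, t, hst⟩ := hspan _ hv
    change S (Q v) = a • (Q v) + b • A (Q v)
    have h5 : S (A x) = A (S x) := by
      have h6 : A (S (Q x)) = S (A (Q x)) := LinearMap.congr_fun hAS x
      rw [hx] at h6
      exact h6.symm
    rw [hst, map_add, map_smul, map_smul, h5, hab]
    simp only [map_add, map_smul]
    module
  obtain ⟨a, b, h3⟩ := hc S hS hAS
  obtain ⟨c, d, h4⟩ := hc T hT hAT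
  have k1 : S * T * Q = (a • 1 + b • A) * (c • 1 + d • A) * Q := by
    rw [mul_assoc S T Q, hT, ← mul_assoc, h3, mul_assoc, ← hT, h4, ← mul_assoc]
  have k2 : T * S * Q = (c • 1 + d • A) * (a • 1 + b • A) * Q := by
    rw [mul_assoc T S Q, hS, ← mul_assoc, h4, mul_assoc, ← hS, h3, ← mul_assoc]
  rw [k1, k2]
  congr 1
  simp only [add_mul, mul_add, smul_mul_assoc, mul_smul_comm, one_mul, mul_one]
  module

end Cfsg.Agent.H915.Idem
end

-- part: H915/Avg3
section
/-!
# Averages over elements of order 3 and pairs of commuting elements of order 3 (helper915)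

`av F g = (1 + g + g²) / 3`. For commuting `a, b` of order 3: the four subgroups of `⟨a, b⟩` of order 3 give four orthogonal
idempotents `av g - av a * av b`, with sum `1 - av a * av b` (`Pair.sum`, `Pair.rk`).
-/

set_option autoImplicit false
set_option linter.unusedSectionVars false

namespace Cfsg.Agent.H915.Idem

section ring

variable (F : Type*) [Field F] {R : Type*} [Ring R] [Algebra F R]

/-- the average over the group of order 3 generated by `g` -/
def av (g : R) : R := (3 : F)⁻¹ • (1 + g + g * g)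

variable {F}

theorem av_conj {u g g' : R} (h : u * g = g' * u) : u * av F g = av F g' * u := by
  unfold av
  rw [mul_smul_comm, smul_mul_assoc]
  congr 1
  rw [mul_add, mul_add, add_mul, add_mul, mul_one, one_mul, h, ← mul_assoc u g g, h, mul_assoc g' u g, h,
    ← mul_assoc]

theorem av_comm {x g : R} (h : x * g = g * x) : x * av F g = av F g * x := av_conj h

theorem three_av (h3 : (3 : F) ≠ 0) (g : R) : (3 : F) • av F g = 1 + g + g * g := by
  unfold av
  rw [smul_smul, mul_inv_cancel₀ h3, one_smul]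

theorem mul_av {g : R} (hg : g * g * g = 1) : g * av F g = av F g := by
  unfold av
  rw [mul_smul_comm]
  congr 1
  rw [mul_add, mul_add, mul_one, ← mul_assoc, hg]
  abel

theorem av_mul {g : R} (hg : g * g * g = 1) : av F g * g = av F g := by
  rw [← av_comm rfl, mul_av hg]

theorem av_mul_av_of {g h k : R} (h1 : av F g * h = av F g * k) (h2 : k * h = h * k) :
    av F g * av F h = av F g * av F k := by
  have h3 : av F g * (h * h) = av F g * (k * k) := by
    rw [← mul_assoc, h1, mul_assoc, h2, ← mul_assoc, h1, mul_assoc]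
  unfold av at h1 h3 ⊢
  rw [mul_smul_comm, mul_smul_comm]
  congr 1
  rw [mul_add, mul_add, mul_add, mul_add, h1, h3]

theorem av_one (h3 : (3 : F) ≠ 0) : av F (1 : R) = 1 := by
  unfold av
  have : (1 + 1 + 1 * 1 : R) = (3 : F) • (1 : R) := by
    rw [one_mul]
    module
  rw [this, smul_smul, inv_mul_cancel₀ h3, one_smul]

theorem av_idem (h3 : (3 : F) ≠ 0) {g : R} (hg : g * g * g = 1) : av F g * av F g = av F g := by
  have h1 : av F g * av F g = av F g * av F (1 : R) := av_mul_av_of (by rw [av_mul hg, mul_one]) (by rw [one_mul, mul_one])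
  rw [h1, av_one h3, mul_one]

theorem av_sq {g : R} (hg : g * g * g = 1) : av F (g * g) = av F g := by
  unfold av
  congr 1
  have : g * g * (g * g) = g := by rw [← mul_assoc, hg, one_mul]
  rw [this]
  abel

theorem sum_mul_compl (h3 : (3 : F) ≠ 0) {g : R} (hg : g * g * g = 1) : (1 + g + g * g) * (1 - av F g) = 0 := by
  rw [← three_av h3 g, smul_mul_assoc, mul_sub, mul_one, av_idem h3 hg, sub_self, smul_zero]

end ring

/-- two commuting elements of order 3 -/
structure Pair {R : Type*} [Ring R] (a b : R) : Prop where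
  ha : a * a * a = 1
  hb : b * b * b = 1
  hab : a * b = b * a

namespace Pair

variable {F : Type*} [Field F] {R : Type*} [Ring R] [Algebra F R] {a b : R}

theorem symm (h : Pair a b) : Pair b a := ⟨h.hb, h.ha, h.hab.symm⟩

theorem hm (h : Pair a b) : (a * b) * (a * b) * (a * b) = 1 := by
  have e1 : (a * b) * (a * b) = (a * a) * (b * b) := by
    rw [mul_assoc, ← mul_assoc b a b, ← h.hab, mul_assoc, ← mul_assoc]
  have e2 : b * b * a = a * (b * b) := by rw [mul_assoc, ← h.hab, ← mul_assoc, ← h.hab, mul_assoc]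
  rw [e1, mul_assoc, ← mul_assoc (b * b) a b, e2, mul_assoc a (b * b) b, h.hb, mul_one, h.ha]

theorem bb_a (h : Pair a b) : b * b * a = a * (b * b) := by rw [mul_assoc, ← h.hab, ← mul_assoc, ← h.hab, mul_assoc]

theorem hn (h : Pair a b) : (a * (b * b)) * (a * (b * b)) * (a * (b * b)) = 1 := by
  have h1 : Pair a (b * b) := ⟨h.ha, by
    rw [← mul_assoc (b * b) b b, h.hb, one_mul, ← mul_assoc, h.hb], h.bb_a.symm⟩
  exact h1.hm

/-- the average over `⟨a, b⟩` -/
theorem e_comm (h : Pair a b) : av F a * av F b = av F b * av F a := av_comm (av_comm h.hab.symm).symm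

theorem a_m (h : Pair a b) : av F a * av F (a * b) = av F a * av F b := by
  apply av_mul_av_of
  · rw [← mul_assoc, av_mul h.ha]
  · rw [← mul_assoc, ← h.hab]

theorem a_n (h : Pair a b) : av F a * av F (a * (b * b)) = av F a * av F b := by
  rw [← av_sq (F := F) h.hb]
  apply av_mul_av_of
  · rw [← mul_assoc, av_mul h.ha]
  · rw [← mul_assoc (b * b) a, h.bb_a]

theorem b_m (h : Pair a b) : av F b * av F (a * b) = av F a * av F b := by
  rw [h.hab, h.symm.a_m, h.e_comm]

theorem b_n (h : Pair a b) : av F b * av F (a * (b * b)) = av F a * av F b := by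
  rw [h.e_comm]
  apply av_mul_av_of
  · rw [← h.bb_a, mul_assoc, ← mul_assoc, av_mul h.hb, ← mul_assoc, av_mul h.hb]
  · rw [mul_assoc a (b * b) a, h.bb_a]

theorem m_b (h : Pair a b) : av F (a * b) * av F b = av F a * av F b := by
  rw [← h.b_m]
  exact (av_comm (av_comm (by rw [← mul_assoc, ← h.hab])).symm)

theorem m_n (h : Pair a b) : av F (a * b) * av F (a * (b * b)) = av F a * av F b := by
  rw [← h.m_b]
  apply av_mul_av_of
  · rw [← mul_assoc a b b, ← mul_assoc, av_mul h.hm]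
  · rw [← mul_assoc b a, ← h.hab, mul_assoc, mul_assoc, mul_assoc]

theorem m_a (h : Pair a b) : av F (a * b) * av F a = av F a * av F b := by
  rw [← h.a_m]
  exact (av_comm (av_comm (by rw [mul_assoc, h.hab])).symm)

theorem n_a (h : Pair a b) : av F (a * (b * b)) * av F a = av F a * av F b := by
  rw [← h.a_n]
  exact (av_comm (av_comm (by rw [mul_assoc, h.bb_a])).symm)

theorem n_b (h : Pair a b) : av F (a * (b * b)) * av F b = av F a * av F b := by
  rw [← h.b_n]
  exact (av_comm (av_comm (by rw [← mul_assoc, ← h.hab, mul_assoc, mul_assoc, mul_assoc])).symm)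

theorem n_m (h : Pair a b) : av F (a * (b * b)) * av F (a * b) = av F a * av F b := by
  rw [← h.m_n]
  refine (av_comm (av_comm ?_).symm)
  rw [← mul_assoc a b b, mul_assoc (a * b) b (a * b), ← mul_assoc (a * b) (a * b) b]
  rw [← mul_assoc b a b, ← h.hab, mul_assoc]

/-- the average `e` -/
theorem e_idem (h3 : (3 : F) ≠ 0) (h : Pair a b) : (av F a * av F b) * (av F a * av F b) = av F a * av F b := by
  rw [mul_assoc, ← mul_assoc (av F b), ← h.e_comm, mul_assoc (av F a) (av F b), av_idem h3 h.hb, ← mul_assoc,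
    av_idem h3 h.ha]

theorem sum (h3 : (3 : F) ≠ 0) (h : Pair a b) : (1 : R) = av F a * av F b + (av F a - av F a * av F b) +
    (av F b - av F a * av F b) + (av F (a * b) - av F a * av F b) + (av F (a * (b * b)) - av F a * av F b) := by
  have e1 : (3 : F) • (av F a * av F b) = (3 : F)⁻¹ • ((1 + a + a * a) * (1 + b + b * b)) := by
    rw [← three_av h3 a, ← three_av h3 b, smul_mul_smul_comm, smul_smul, ← mul_assoc, inv_mul_cancel₀ h3, one_mul]
  have e2 : (3 : F)⁻¹ • (1 + 1 + 1 : R) = 1 := by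
    have : (1 + 1 + 1 : R) = (3 : F) • (1 : R) := by module
    rw [this, smul_smul, inv_mul_cancel₀ h3, one_smul]
  have e3 : (a * b) * (a * b) = a * a * (b * b) := by
    rw [mul_assoc, ← mul_assoc b a b, ← h.hab, mul_assoc a b b, ← mul_assoc]
  have e4 : (a * (b * b)) * (a * (b * b)) = a * a * b := by
    rw [mul_assoc, ← mul_assoc (b * b) a, h.bb_a, mul_assoc a (b * b), ← mul_assoc (b * b) b b, h.hb, one_mul, ← mul_assoc]
  have k1 : av F a + av F b + av F (a * b) + av F (a * (b * b)) = 1 + (3 : F) • (av F a * av F b) := by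
    rw [e1]
    have e5 : av F a + av F b + av F (a * b) + av F (a * (b * b)) =
        (3 : F)⁻¹ • ((1 + 1 + 1 : R) + (1 + a + a * a) * (1 + b + b * b)) := by
      unfold av
      rw [e3, e4, ← smul_add, ← smul_add, ← smul_add]
      congr 1
      noncomm_ring
    rw [e5, smul_add, e2]
  have k2 : (3 : F) • (av F a * av F b) = av F a * av F b + av F a * av F b + av F a * av F b := by module
  rw [k2] at k1
  have k3 : av F a * av F b + (av F a - av F a * av F b) + (av F b - av F a * av F b) +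
      (av F (a * b) - av F a * av F b) + (av F (a * (b * b)) - av F a * av F b) =
      (av F a + av F b + av F (a * b) + av F (a * (b * b))) -
      (av F a * av F b + av F a * av F b + av F a * av F b) := by abel
  rw [k3, k1]
  abel

/-- the complement `av g - e` is idempotent when `av g * e = e = e * av g` -/
theorem compl_idem {e f : R} (he : e * e = e) (hf : f * f = f) (h1 : f * e = e) (h2 : e * f = e) :
    (f - e) * (f - e) = f - e := by
  rw [sub_mul, mul_sub, mul_sub, hf, h1, h2, he]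
  abel

theorem compl_orth {e f g : R} (he : e * e = e) (h1 : f * e = e) (h2 : e * g = e) (h3 : f * g = e) :
    (f - e) * (g - e) = 0 := by
  rw [sub_mul, mul_sub, mul_sub, h3, h1, h2, he]
  abel

theorem a_e (h3 : (3 : F) ≠ 0) (h : Pair a b) : av F a * (av F a * av F b) = av F a * av F b := by
  rw [← mul_assoc, av_idem h3 h.ha]

theorem e_a (h3 : (3 : F) ≠ 0) (h : Pair a b) : (av F a * av F b) * av F a = av F a * av F b := by
  rw [h.e_comm, mul_assoc, av_idem h3 h.ha]

theorem b_e (h3 : (3 : F) ≠ 0) (h : Pair a b) : av F b * (av F a * av F b) = av F a * av F b := by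
  rw [h.e_comm, h.symm.a_e h3]

theorem e_b (h3 : (3 : F) ≠ 0) (h : Pair a b) : (av F a * av F b) * av F b = av F a * av F b := by
  rw [mul_assoc, av_idem h3 h.hb]

theorem m_e (h : Pair a b) (h3 : (3 : F) ≠ 0) : av F (a * b) * (av F a * av F b) = av F a * av F b := by
  rw [← mul_assoc, h.m_a, h.e_b h3]

theorem e_m (h : Pair a b) (h3 : (3 : F) ≠ 0) : (av F a * av F b) * av F (a * b) = av F a * av F b := by
  rw [mul_assoc, h.b_m, h.a_e h3]

theorem n_e (h : Pair a b) (h3 : (3 : F) ≠ 0) : av F (a * (b * b)) * (av F a * av F b) = av F a * av F b := by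
  rw [← mul_assoc, h.n_a, h.e_b h3]

theorem e_n (h : Pair a b) (h3 : (3 : F) ≠ 0) : (av F a * av F b) * av F (a * (b * b)) = av F a * av F b := by
  rw [mul_assoc, h.b_n, h.a_e h3]

end Pair

section rank

variable {F : Type*} [Field F] {V : Type*} [AddCommGroup V] [Module F V] [FiniteDimensional F V] {a b : Module.End F V}

/-- the dimension formula -/
theorem Pair.rk (h3 : (3 : F) ≠ 0) (h : Pair a b) : Module.finrank F V = rk (av F a * av F b) +
    rk (av F a - av F a * av F b) + rk (av F b - av F a * av F b) + rk (av F (a * b) - av F a * av F b) +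
    rk (av F (a * (b * b)) - av F a * av F b) := by
  have hm3 := h.hm
  have hn3 := h.hn
  have he := h.e_idem h3
  have ia := compl_idem he (av_idem h3 h.ha) (h.a_e h3) (h.e_a h3)
  have ib := compl_idem he (av_idem h3 h.hb) (h.b_e h3) (h.e_b h3)
  have im := compl_idem he (av_idem h3 h.hm) (h.m_e h3) (h.e_m h3)
  have iN := compl_idem he (av_idem h3 h.hn) (h.n_e h3) (h.e_n h3)
  have oab := compl_orth he (h.a_e h3) (h.e_b h3) rfl
  have oba := compl_orth he (h.b_e h3) (h.e_a h3) h.e_comm.symm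
  have oam := compl_orth he (h.a_e h3) (h.e_m h3) h.a_m
  have oma := compl_orth he (h.m_e h3) (h.e_a h3) h.m_a
  have oan := compl_orth he (h.a_e h3) (h.e_n h3) h.a_n
  have ona := compl_orth he (h.n_e h3) (h.e_a h3) h.n_a
  have obm := compl_orth he (h.b_e h3) (h.e_m h3) h.b_m
  have omb := compl_orth he (h.m_e h3) (h.e_b h3) h.m_b
  have obn := compl_orth he (h.b_e h3) (h.e_n h3) h.b_n
  have onb := compl_orth he (h.n_e h3) (h.e_b h3) h.n_b
  have omn := compl_orth he (h.m_e h3) (h.e_n h3) h.m_n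
  have onm := compl_orth he (h.n_e h3) (h.e_m h3) h.n_m
  set e := av F a * av F b with hedef
  set A := av F a - e with hA
  set B := av F b - e with hB
  set M := av F (a * b) - e with hM
  set N := av F (a * (b * b)) - e with hN
  have ea : e * A = 0 := by rw [hA, mul_sub, he, hedef, h.e_a h3, sub_self]
  have eb : e * B = 0 := by rw [hB, mul_sub, he, hedef, h.e_b h3, sub_self]
  have em : e * M = 0 := by rw [hM, mul_sub, he, hedef, h.e_m h3, sub_self]
  have en : e * N = 0 := by rw [hN, mul_sub, he, hedef, h.e_n h3, sub_self]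
  have ae : A * e = 0 := by rw [hA, sub_mul, he, hedef, h.a_e h3, sub_self]
  have be : B * e = 0 := by rw [hB, sub_mul, he, hedef, h.b_e h3, sub_self]
  have me : M * e = 0 := by rw [hM, sub_mul, he, hedef, h.m_e h3, sub_self]
  have ne : N * e = 0 := by rw [hN, sub_mul, he, hedef, h.n_e h3, sub_self]
  have hs := h.sum h3
  rw [← hedef, ← hA, ← hB, ← hM, ← hN] at hs
  have s1 : (e + A) * (e + A) = e + A := by rw [add_mul, mul_add, mul_add, he, ea, ae, ia]; abel
  have s2 : (e + A + B) * (e + A + B) = e + A + B := by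
    rw [add_mul (e + A), mul_add (e + A), mul_add B, s1, add_mul e A B, eb, oab, mul_add B e A, be, oba, ib]; abel
  have s3 : (e + A + B + M) * (e + A + B + M) = e + A + B + M := by
    rw [add_mul (e + A + B), mul_add (e + A + B), mul_add M, s2, add_mul (e + A) B M, add_mul e A M, em, oam, obm,
      mul_add M (e + A) B, mul_add M e A, me, oma, omb, im]; abel
  rw [← rk_one (F := F) (V := V), hs]
  rw [rk_add s3 iN (by rw [add_mul, add_mul, add_mul, en, oan, obn, omn]; abel)
    (by rw [mul_add, mul_add, mul_add, ne, ona, onb, onm]; abel)]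
  rw [rk_add s2 im (by rw [add_mul, add_mul, em, oam, obm]; abel) (by rw [mul_add, mul_add, me, oma, omb]; abel)]
  rw [rk_add s1 ib (by rw [add_mul, eb, oab]; abel) (by rw [mul_add, be, oba]; abel)]
  rw [rk_add he ia ea ae]

/-- trace decomposition -/
theorem Pair.trace (h3 : (3 : F) ≠ 0) (h : Pair a b) (x : Module.End F V) : LinearMap.trace F V x =
    LinearMap.trace F V (x * (av F a * av F b)) + LinearMap.trace F V (x * (av F a - av F a * av F b)) +
    LinearMap.trace F V (x * (av F b - av F a * av F b)) + LinearMap.trace F V (x * (av F (a * b) - av F a * av F b)) +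
    LinearMap.trace F V (x * (av F (a * (b * b)) - av F a * av F b)) := by
  rw [← map_add, ← map_add, ← map_add, ← map_add, ← mul_add, ← mul_add, ← mul_add, ← mul_add, ← h.sum h3, mul_one]

end rank

end Cfsg.Agent.H915.Idem
end

-- part: H915/L33Half
section
/-!
# Modules of dimension 12: the radical `3²` of a parabolic subgroup of `SL₃(3)` (helper915)
-/

set_option autoImplicit false
set_option linter.unusedSectionVars false

namespace Cfsg.Agent.H915.Idem

open Module

variable {F : Type*} [Field F] {V : Type*} [AddCommGroup V] [Module F V] [FiniteDimensional F V]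

/-- relations of one half: `a = x₁₂`, `b = x₁₃`, `c = x₂₃`, `h = h₁` inverts `a`, `b`, `k = h₃` centralises `a` and inverts
`b`, `c`, and `s` interchanges `⟨a⟩` and `⟨b⟩`. -/
structure Half (a b c h k s : End F V) : Prop where
  ab : Pair a b
  hc : c * c * c = 1
  cb : c * b = b * c
  ac : a * c = c * a * b
  hh : h * h = 1
  kk : k * k = 1
  ha : h * a = a * a * h
  hb : h * b = b * b * h
  ka : k * a = a * k
  kb : k * b = b * b * k
  kc : k * c = c * c * k
  ss : s * s = 1
  sa : s * av F a = av F b * s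
  sb : s * av F b = av F a * s

namespace Half

variable {a b c h k s : End F V} (H : Half a b c h k s)

include H

theorem ca : c * a = a * (b * b) * c := by
  have e1 : c * a = c * a * b * (b * b) := by rw [mul_assoc (c * a) b, ← mul_assoc b b b, H.ab.hb, mul_one]
  rw [e1, ← H.ac, mul_assoc a c, ← mul_assoc c b b, H.cb, mul_assoc b c b, H.cb, ← mul_assoc b b c, ← mul_assoc]

theorem cn : c * (a * (b * b)) = a * b * c := by
  have e1 : c * (b * b) = b * b * c := by rw [← mul_assoc, H.cb, mul_assoc, H.cb, ← mul_assoc]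
  rw [← mul_assoc, H.ca, mul_assoc _ c, e1]
  have e2 : a * (b * b) * (b * b * c) = a * (b * b * b) * b * c := by simp only [mul_assoc]
  rw [e2, H.ab.hb, mul_one]

theorem c_e : c * (av F a * av F b) = (av F a * av F b) * c := by
  rw [← mul_assoc, av_conj H.ca, mul_assoc, av_comm H.cb, ← mul_assoc, H.ab.n_b]

theorem h_a : h * av F a = av F a * h := by rw [av_conj H.ha, av_sq H.ab.ha]
theorem h_b : h * av F b = av F b * h := by rw [av_conj H.hb, av_sq H.ab.hb]
theorem k_b : k * av F b = av F b * k := by rw [av_conj H.kb, av_sq H.ab.hb]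
theorem k_a : k * av F a = av F a * k := av_comm H.ka

theorem h_e : h * (av F a * av F b) = (av F a * av F b) * h := by
  rw [← mul_assoc, H.h_a, mul_assoc, H.h_b, ← mul_assoc]
theorem k_e : k * (av F a * av F b) = (av F a * av F b) * k := by
  rw [← mul_assoc, H.k_a, mul_assoc, H.k_b, ← mul_assoc]
theorem s_e : s * (av F a * av F b) = (av F a * av F b) * s := by
  rw [← mul_assoc, H.sa, mul_assoc, H.sb, ← mul_assoc, H.ab.e_comm]

/-- ranks of the four complements agree -/
theorem rk_eq : rk (av F a - av F a * av F b) = rk (av F b - av F a * av F b) ∧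
    rk (av F (a * b) - av F a * av F b) = rk (av F b - av F a * av F b) ∧
    rk (av F (a * (b * b)) - av F a * av F b) = rk (av F b - av F a * av F b) := by
  have hcc : (c * c) * c = 1 := H.hc
  have hcc' : c * (c * c) = 1 := by rw [← mul_assoc]; exact H.hc
  have k1 : rk (av F a - av F a * av F b) = rk (av F b - av F a * av F b) :=
    rk_conj H.ss H.ss (by rw [mul_sub, sub_mul, H.sa, H.s_e])
  have k2 : rk (av F a - av F a * av F b) = rk (av F (a * (b * b)) - av F a * av F b) :=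
    rk_conj hcc hcc' (by rw [mul_sub, sub_mul, av_conj H.ca, H.c_e])
  have k3 : rk (av F (a * (b * b)) - av F a * av F b) = rk (av F (a * b) - av F a * av F b) :=
    rk_conj hcc hcc' (by rw [mul_sub, sub_mul, av_conj H.cn, H.c_e])
  exact ⟨k1, by rw [← k3, ← k2, k1], by rw [← k2, k1]⟩

theorem Qidem (h3 : (3 : F) ≠ 0) : (av F b - av F a * av F b) * (av F b - av F a * av F b) = av F b - av F a * av F b :=
  Pair.compl_idem (H.ab.e_idem h3) (av_idem h3 H.ab.hb) (H.ab.b_e h3) (H.ab.e_b h3)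

theorem a_Q : a * (av F b - av F a * av F b) = (av F b - av F a * av F b) * a := by
  rw [mul_sub, sub_mul, av_comm H.ab.hab, ← mul_assoc, mul_av H.ab.ha, mul_assoc (av F a), ← av_comm H.ab.hab, ← mul_assoc,
    av_mul H.ab.ha]

theorem b_Q : b * (av F b - av F a * av F b) = av F b - av F a * av F b := by
  rw [mul_sub, mul_av H.ab.hb, H.ab.e_comm, ← mul_assoc, mul_av H.ab.hb]

theorem sum_Q (h3 : (3 : F) ≠ 0) : (1 + a + a * a) * (av F b - av F a * av F b) = 0 := by
  have e1 : av F b - av F a * av F b = (1 - av F a) * av F b := by rw [sub_mul, one_mul]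
  rw [e1, ← mul_assoc, sum_mul_compl h3 H.ab.ha, zero_mul]

theorem even (h2 : (2 : F) ≠ 0) (h3 : (3 : F) ≠ 0) : Even (rk (av F b - av F a * av F b)) := by
  have hQ : h * (av F b - av F a * av F b) = (av F b - av F a * av F b) * h := by
    rw [mul_sub, sub_mul, H.h_b, H.h_e]
  exact rk_even h2 h3 (H.Qidem h3) H.ab.ha H.a_Q H.hh hQ hQ (by rw [H.ha]) (H.sum_Q h3)

/-- **ranks** -/
theorem ranks (h2 : (2 : F) ≠ 0) (h3 : (3 : F) ≠ 0) (h12 : finrank F V = 12) (hne : a ≠ 1) :
    rk (av F a * av F b) = 4 ∧ rk (av F b - av F a * av F b) = 2 := by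
  have k1 := H.ab.rk h3
  obtain ⟨e1, e2, e3⟩ := H.rk_eq
  rw [e1, e2, e3, h12] at k1
  obtain ⟨m, hm⟩ := H.even h2 h3
  rw [hm] at k1
  have hm1 : m ≤ 1 := by omega
  interval_cases m
  · exfalso
    have z := eq_zero_of_rk (e := av F b - av F a * av F b) (by rw [hm])
    have za := eq_zero_of_rk (e := av F a - av F a * av F b) (by rw [e1, hm])
    have zm := eq_zero_of_rk (e := av F (a * b) - av F a * av F b) (by rw [e2, hm])
    have zn := eq_zero_of_rk (e := av F (a * (b * b)) - av F a * av F b) (by rw [e3, hm])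
    have hs := H.ab.sum h3
    rw [z, za, zm, zn, add_zero, add_zero, add_zero, add_zero] at hs
    apply hne
    have e4 : a * (av F a * av F b) = av F a * av F b := by rw [← mul_assoc, mul_av H.ab.ha]
    rw [← hs, mul_one] at e4
    exact e4
  · exact ⟨by omega, by omega⟩

/-- `c` acts trivially on the range of `Q` -/
theorem c_Q (h2 : (2 : F) ≠ 0) (h3 : (3 : F) ≠ 0) (h12 : finrank F V = 12) (hne : a ≠ 1) :
    c * (av F b - av F a * av F b) = av F b - av F a * av F b := by
  obtain ⟨-, hr⟩ := H.ranks h2 h3 h12 hne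
  have hQi := H.Qidem h3
  have haQ := H.a_Q
  have hbQ := H.b_Q
  have hsQ := H.sum_Q h3
  have hcQ : c * (av F b - av F a * av F b) = (av F b - av F a * av F b) * c := by
    rw [mul_sub, sub_mul, av_comm H.cb, H.c_e]
  have hkQ : k * (av F b - av F a * av F b) = (av F b - av F a * av F b) * k := by
    rw [mul_sub, sub_mul, H.k_b, H.k_e]
  have hhQ : h * (av F b - av F a * av F b) = (av F b - av F a * av F b) * h := by
    rw [mul_sub, sub_mul, H.h_b, H.h_e]
  set Q := av F b - av F a * av F b with hQdef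
  have hQ0 : Q ≠ 0 := by
    intro h0
    rw [h0, rk_zero] at hr
    exact absurd hr (by norm_num)
  have hns : ¬ ∃ x : F, a * Q = x • Q := by
    rintro ⟨x, hx⟩
    -- h a Q = a a h Q
    have e1 : h * a * Q = a * a * h * Q := by rw [H.ha]
    have e2 : h * a * Q = x • (h * Q) := by rw [mul_assoc, hx, mul_smul_comm]
    have e3 : a * a * h * Q = (x * x) • (h * Q) := by
      rw [mul_assoc (a * a), hhQ, ← mul_assoc, mul_assoc a a Q, hx, mul_smul_comm, hx, smul_smul, smul_mul_assoc, ← hhQ]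
    rw [e2, e3] at e1
    have e4 : x • Q = (x * x) • Q := by
      have e5 := congrArg (fun y => h * y) e1
      simp only [mul_smul_comm, ← mul_assoc, H.hh, one_mul] at e5
      exact e5
    have e5 : (x - x * x) • Q = 0 := by rw [sub_smul, e4, sub_self]
    have e6 : x - x * x = 0 := (smul_eq_zero.1 e5).resolve_right hQ0
    have e7 : (1 + x + x * x) • Q = 0 := by
      have e8 : (1 + a + a * a) * Q = (1 + x + x * x) • Q := by
        rw [add_mul, add_mul, one_mul, hx, mul_assoc, hx, mul_smul_comm, hx, smul_smul, add_smul, add_smul, one_smul]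
      rw [← e8, hsQ]
    have e8 : 1 + x + x * x = 0 := (smul_eq_zero.1 e7).resolve_right hQ0
    have e9 : x * (1 - x) = 0 := by linear_combination e6
    rcases mul_eq_zero.1 e9 with h0 | h0
    · rw [h0] at e8
      norm_num at e8
    · have : x = 1 := by linear_combination -h0
      rw [this] at e8
      apply h3
      linear_combination e8
  have e1 : c * k * Q = k * c * Q := by
    refine comm_of_rk_two hQi hr haQ hcQ hkQ ?_ ?_ hns
    · rw [H.ac, mul_assoc (c * a) b Q, hbQ]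
    · rw [← H.ka]
  have e2 : k * c * Q = c * c * k * Q := by rw [H.kc]
  rw [e2] at e1
  -- c k Q = c c k Q
  have e3 : k * Q = c * k * Q := by
    have e4 := congrArg (fun y => c * c * y) e1
    simp only [← mul_assoc] at e4
    rw [H.hc, one_mul, one_mul] at e4
    exact e4
  have e4 : Q * k = c * Q * k := by rw [← hkQ, e3, mul_assoc c k Q, hkQ, ← mul_assoc]
  have e5 := congrArg (fun y => y * k) e4
  simp only [mul_assoc, H.kk, mul_one] at e5
  exact e5.symm

end Half

end Cfsg.Agent.H915.Idem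
end

-- part: H915/L33Full
section
/-!
# Modules of dimension 12 of `SL₃(3)`: a vector fixed by the stabiliser of a point (helper915)
-/

set_option autoImplicit false
set_option linter.unusedSectionVars false

namespace Cfsg.Agent.H915.Idem

open Module

variable {F : Type*} [Field F] {V : Type*} [AddCommGroup V] [Module F V] [FiniteDimensional F V]

theorem av_fix_right (h3 : (3 : F) ≠ 0) {x g : End F V} (h : x * g = x) : x * av F g = x := by
  unfold av
  rw [mul_smul_comm, mul_add, mul_add, mul_one, ← mul_assoc, h, h]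
  have : x + x + x = (3 : F) • x := by module
  rw [this, smul_smul, inv_mul_cancel₀ h3, one_smul]

theorem av_fix_left (h3 : (3 : F) ≠ 0) {x g : End F V} (h : g * x = x) : av F g * x = x := by
  unfold av
  rw [smul_mul_assoc, add_mul, add_mul, one_mul, mul_assoc, h, h]
  have : x + x + x = (3 : F) • x := by module
  rw [this, smul_smul, inv_mul_cancel₀ h3, one_smul]

theorem tz (h3 : (3 : F) ≠ 0) {g h x e : End F V} (hg : g * g * g = 1) (hx : g * x = x * g) (he : g * e = e * g)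
    (hh : h * g = g * g * h) (k1 : av F g * x = e) (k2 : av F g * e = e) :
    LinearMap.trace F V (h * (x - e)) = 0 := by
  refine trace_zero h3 hg (by rw [mul_sub, sub_mul, hx, he]) (by rw [hh]) ?_
  rw [← three_av h3 g, smul_mul_assoc, mul_sub, k1, k2, sub_self, smul_zero]

theorem corner {R : Type*} [Ring R] {B Q P : R} (hB : B * B = B) (hQ : Q * Q = Q) (hP : P * P = P) (bQ : B * Q = Q)
    (Qb : Q * B = Q) (bP : B * P = P) (Pb : P * B = P) (o1 : Q * P = 0) (o2 : P * Q = 0) :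
    (B - Q - P) * (B - Q - P) = B - Q - P ∧ (B - Q - P) * P = 0 ∧ P * (B - Q - P) = 0 := by
  refine ⟨?_, ?_, ?_⟩
  · have e1 : (B - Q - P) * (B - Q - P) = B * B - B * Q - B * P - (Q * B - Q * Q - Q * P) - (P * B - P * Q - P * P) := by
      noncomm_ring
    rw [e1, hB, bQ, bP, Qb, hQ, o1, Pb, o2, hP]
    abel
  · rw [sub_mul, sub_mul, bP, o1, hP]
    abel
  · rw [mul_sub, mul_sub, Pb, o2, hP]
    abel

/-- all the relations -/
structure Full (a b c h1 h2 h3 s t g g' : End F V) : Prop where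
  H : Half a b c h1 h3 s
  H' : Half c (b * b) a h3 h1 t
  h22 : h2 * h2 = 1
  h12 : h1 * h2 = h3
  h21 : h2 * h1 = h3
  h2a : h2 * a = a * a * h2
  h2b : h2 * b = b * h2
  h2c : h2 * c = c * c * h2
  h1c : h1 * c = c * h1
  sh1 : s * h1 = h1 * s
  sh2 : s * h2 = h3 * s
  sh3 : s * h3 = h2 * s
  th1 : t * h1 = h2 * t
  gg : g' * g = 1
  gg' : g * g' = 1
  sg : s * g = g * h2
  ga : g * av F a = av F (a * b) * g
  gb : g * av F b = av F (a * (b * b)) * g
  scs : s * c * s = c * s * h2 * c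
  sccs : s * (c * c) * s = c * c * s * h3 * (c * c)

namespace Full

variable {a b c h1 h2 h3 s t g g' : End F V} (K : Full a b c h1 h2 h3 s t g g')

include K

/-- the pair `c, b` -/
theorem pcb : Pair c b := ⟨K.H.hc, K.H.ab.hb, K.H.cb⟩

theorem avbb : av F (b * b) = av F b := av_sq K.H.ab.hb

variable (n2 : (2 : F) ≠ 0) (n3 : (3 : F) ≠ 0) (h12' : finrank F V = 12) (hne : a ≠ 1) (hne' : c ≠ 1)

theorem cQ (n2 : (2 : F) ≠ 0) (n3 : (3 : F) ≠ 0) (h12' : finrank F V = 12) (hne : a ≠ 1) :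
    c * (av F b - av F a * av F b) = av F b - av F a * av F b := K.H.c_Q n2 n3 h12' hne

theorem Qc (n2 : (2 : F) ≠ 0) (n3 : (3 : F) ≠ 0) (h12' : finrank F V = 12) (hne : a ≠ 1) :
    (av F b - av F a * av F b) * c = av F b - av F a * av F b := by
  rw [sub_mul, ← av_comm K.H.cb, ← K.H.c_e, ← mul_sub, K.cQ n2 n3 h12' hne]

theorem aQ' (n2 : (2 : F) ≠ 0) (n3 : (3 : F) ≠ 0) (h12' : finrank F V = 12) (hne' : c ≠ 1) :
    a * (av F b - av F c * av F b) = av F b - av F c * av F b := by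
  have h := K.H'.c_Q n2 n3 h12' hne'
  rw [K.avbb] at h
  exact h

theorem Q'a (n2 : (2 : F) ≠ 0) (n3 : (3 : F) ≠ 0) (h12' : finrank F V = 12) (hne' : c ≠ 1) :
    (av F b - av F c * av F b) * a = av F b - av F c * av F b := by
  have h := K.H'.c_e
  rw [K.avbb] at h
  rw [sub_mul, ← av_comm K.H.ab.hab, ← h, ← mul_sub, K.aQ' n2 n3 h12' hne']

/-- the projection onto the fixed vectors of the Sylow 3-subgroup -/
def C (F : Type*) [Field F] {V : Type*} [AddCommGroup V] [Module F V] (a b c : End F V) : End F V :=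
  av F b - (av F b - av F a * av F b) - (av F b - av F c * av F b)

omit K in
theorem e_eq : av F a * av F b = C F a b c + (av F b - av F c * av F b) := by unfold C; abel
omit K in
theorem e'_eq : av F c * av F b = C F a b c + (av F b - av F a * av F b) := by unfold C; abel

theorem QQ' (n2 : (2 : F) ≠ 0) (n3 : (3 : F) ≠ 0) (h12' : finrank F V = 12) (hne : a ≠ 1) :
    (av F b - av F a * av F b) * (av F b - av F c * av F b) = 0 := by
  have e1 : (av F b - av F a * av F b) * av F b = av F b - av F a * av F b := by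
    rw [sub_mul, av_idem n3 K.H.ab.hb, K.H.ab.e_b n3]
  rw [mul_sub, ← mul_assoc, av_fix_right n3 (K.Qc n2 n3 h12' hne), e1, sub_self]

theorem Q'Q (n2 : (2 : F) ≠ 0) (n3 : (3 : F) ≠ 0) (h12' : finrank F V = 12) (hne' : c ≠ 1) :
    (av F b - av F c * av F b) * (av F b - av F a * av F b) = 0 := by
  have e1 : (av F b - av F c * av F b) * av F b = av F b - av F c * av F b := by
    rw [sub_mul, av_idem n3 K.H.ab.hb, K.pcb.e_b n3]
  rw [mul_sub, ← mul_assoc, av_fix_right n3 (K.Q'a n2 n3 h12' hne'), e1, sub_self]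

theorem Cfacts (n2 : (2 : F) ≠ 0) (n3 : (3 : F) ≠ 0) (h12' : finrank F V = 12) (hne : a ≠ 1) (hne' : c ≠ 1) :
    C F a b c * C F a b c = C F a b c ∧ C F a b c * (av F b - av F c * av F b) = 0 ∧
      (av F b - av F c * av F b) * C F a b c = 0 ∧ rk (C F a b c) = 2 ∧ rk (av F b - av F c * av F b) = 2 := by
  have hQ := K.H.Qidem n3
  have hQ' := Pair.compl_idem (K.pcb.e_idem n3) (av_idem n3 K.H.ab.hb) (K.pcb.b_e n3) (K.pcb.e_b n3)
  have o1 := K.QQ' n2 n3 h12' hne
  have o2 := K.Q'Q n2 n3 h12' hne'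
  have bQ : av F b * (av F b - av F a * av F b) = av F b - av F a * av F b := by
    rw [mul_sub, av_idem n3 K.H.ab.hb, K.H.ab.b_e n3]
  have Qb : (av F b - av F a * av F b) * av F b = av F b - av F a * av F b := by
    rw [sub_mul, av_idem n3 K.H.ab.hb, K.H.ab.e_b n3]
  have bQ' : av F b * (av F b - av F c * av F b) = av F b - av F c * av F b := by
    rw [mul_sub, av_idem n3 K.H.ab.hb, K.pcb.b_e n3]
  have Q'b : (av F b - av F c * av F b) * av F b = av F b - av F c * av F b := by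
    rw [sub_mul, av_idem n3 K.H.ab.hb, K.pcb.e_b n3]
  obtain ⟨r1, r2⟩ := K.H.ranks n2 n3 h12' hne
  obtain ⟨r3, r4⟩ := K.H'.ranks n2 n3 h12' hne'
  rw [K.avbb] at r3 r4
  have ee := e_eq (F := F) (a := a) (b := b) (c := c)
  have hCdef : C F a b c = av F b - (av F b - av F a * av F b) - (av F b - av F c * av F b) := rfl
  have hb2 := av_idem n3 K.H.ab.hb
  obtain ⟨c1, c2, c3⟩ := corner hb2 hQ hQ' bQ Qb bQ' Q'b o1 o2
  rw [← hCdef] at c1 c2 c3
  refine ⟨c1, c2, c3, ?_, r4⟩
  have h := rk_add c1 hQ' c2 c3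
  rw [← ee, r1, r4] at h
  omega

/-- traces of the torus on `C` -/
theorem traces (n3 : (3 : F) ≠ 0) :
    LinearMap.trace F V (h1 * C F a b c) = LinearMap.trace F V (h2 * C F a b c) ∧
    LinearMap.trace F V (h2 * C F a b c) = LinearMap.trace F V (h3 * C F a b c) ∧
    LinearMap.trace F V (h2 * (av F a * av F b)) = LinearMap.trace F V (h2 * C F a b c) := by
  have P := K.H.ab
  have P' := K.pcb
  -- commutations
  have am : a * av F (a * b) = av F (a * b) * a := av_comm (by rw [mul_assoc a b a, ← P.hab])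
  have an : a * av F (a * (b * b)) = av F (a * (b * b)) * a := av_comm (by rw [mul_assoc a (b * b) a, P.bb_a])
  have bm : b * av F (a * b) = av F (a * b) * b := av_comm (by rw [← mul_assoc, ← P.hab])
  have bn : b * av F (a * (b * b)) = av F (a * (b * b)) * b :=
    av_comm (by rw [← mul_assoc, ← P.hab, mul_assoc, mul_assoc, mul_assoc])
  have aa : a * av F a = av F a * a := av_comm rfl
  have ab : a * av F b = av F b * a := av_comm P.hab
  have ba : b * av F a = av F a * b := av_comm P.hab.symm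
  have bb : b * av F b = av F b * b := av_comm rfl
  have ae : a * (av F a * av F b) = (av F a * av F b) * a := by rw [← mul_assoc, aa, mul_assoc, ab, ← mul_assoc]
  have be : b * (av F a * av F b) = (av F a * av F b) * b := by rw [← mul_assoc, ba, mul_assoc, bb, ← mul_assoc]
  have cc : c * av F c = av F c * c := av_comm rfl
  have cb : c * av F b = av F b * c := av_comm P'.hab
  have bc : b * av F c = av F c * b := av_comm P'.hab.symm
  have ce' : c * (av F c * av F b) = (av F c * av F b) * c := by rw [← mul_assoc, cc, mul_assoc, cb, ← mul_assoc]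
  have be' : b * (av F c * av F b) = (av F c * av F b) * b := by rw [← mul_assoc, bc, mul_assoc, bb, ← mul_assoc]
  have cm' : c * av F (c * b) = av F (c * b) * c := av_comm (by rw [mul_assoc c b c, ← P'.hab])
  have cn' : c * av F (c * (b * b)) = av F (c * (b * b)) * c := av_comm (by rw [mul_assoc c (b * b) c, P'.bb_a])
  -- h1
  have t1 : LinearMap.trace F V h1 = LinearMap.trace F V (h1 * (av F a * av F b)) := by
    rw [P.trace n3 h1, tz n3 P.hb ba be K.H.hb P.e_comm.symm (P.b_e n3), tz n3 P.ha ab ae K.H.ha rfl (P.a_e n3),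
      tz n3 P.hb bm be K.H.hb P.b_m (P.b_e n3), tz n3 P.hb bn be K.H.hb P.b_n (P.b_e n3)]
    simp only [add_zero]
  have t2 : LinearMap.trace F V h2 = LinearMap.trace F V (h2 * (av F a * av F b)) +
      LinearMap.trace F V (h2 * (av F a - av F a * av F b)) := by
    rw [P.trace n3 h2, tz n3 P.ha ab ae K.h2a rfl (P.a_e n3), tz n3 P.ha am ae K.h2a P.a_m (P.a_e n3),
      tz n3 P.ha an ae K.h2a P.a_n (P.a_e n3)]
    simp only [add_zero]
  have t3 : LinearMap.trace F V h3 = LinearMap.trace F V (h3 * (av F a * av F b)) +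
      LinearMap.trace F V (h3 * (av F b - av F a * av F b)) := by
    rw [P.trace n3 h3, tz n3 P.hb ba be K.H.kb P.e_comm.symm (P.b_e n3),
      tz n3 P.hb bm be K.H.kb P.b_m (P.b_e n3), tz n3 P.hb bn be K.H.kb P.b_n (P.b_e n3)]
    simp only [add_zero]
  have t2' : LinearMap.trace F V h2 = LinearMap.trace F V (h2 * (av F c * av F b)) +
      LinearMap.trace F V (h2 * (av F c - av F c * av F b)) := by
    rw [P'.trace n3 h2, tz n3 P'.ha cb ce' K.h2c rfl (P'.a_e n3), tz n3 P'.ha cm' ce' K.h2c P'.a_m (P'.a_e n3),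
      tz n3 P'.ha cn' ce' K.h2c P'.a_n (P'.a_e n3)]
    simp only [add_zero]
  have z2 : LinearMap.trace F V (h2 * (av F b - av F c * av F b)) = 0 := tz n3 P'.ha cb ce' K.h2c rfl (P'.a_e n3)
  have z3 : LinearMap.trace F V (h3 * (av F b - av F c * av F b)) = 0 := tz n3 P'.ha cb ce' K.H.kc rfl (P'.a_e n3)
  have z2' : LinearMap.trace F V (h2 * (av F b - av F a * av F b)) = 0 := tz n3 P.ha ab ae K.h2a rfl (P.a_e n3)
  have e := e_eq (F := F) (a := a) (b := b) (c := c)
  have e' := e'_eq (F := F) (a := a) (b := b) (c := c)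
  have u1 : LinearMap.trace F V (h1 * (av F a * av F b)) =
      LinearMap.trace F V (h1 * C F a b c) + LinearMap.trace F V (h1 * (av F b - av F c * av F b)) := by
    rw [← map_add, ← mul_add, ← e]
  have u2 : LinearMap.trace F V (h2 * (av F a * av F b)) = LinearMap.trace F V (h2 * C F a b c) := by
    rw [e, mul_add, map_add, z2, add_zero]
  have u3 : LinearMap.trace F V (h3 * (av F a * av F b)) = LinearMap.trace F V (h3 * C F a b c) := by
    rw [e, mul_add, map_add, z3, add_zero]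
  have u2' : LinearMap.trace F V (h2 * (av F c * av F b)) = LinearMap.trace F V (h2 * C F a b c) := by
    rw [e', mul_add, map_add, z2', add_zero]
  have s1 : LinearMap.trace F V h2 = LinearMap.trace F V h3 := trace_conj' K.H.ss K.H.ss K.sh2
  have s2 : LinearMap.trace F V (h2 * (av F a - av F a * av F b)) =
      LinearMap.trace F V (h3 * (av F b - av F a * av F b)) :=
    trace_conj' K.H.ss K.H.ss (by
      rw [← mul_assoc, K.sh2, mul_assoc, mul_assoc, mul_sub, sub_mul, K.H.sa, K.H.s_e])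
  have s3 : LinearMap.trace F V h1 = LinearMap.trace F V h2 := trace_conj' K.H'.ss K.H'.ss K.th1
  have tb : t * av F b = av F c * t := by
    have h := K.H'.sb
    rw [K.avbb] at h
    exact h
  have te : t * (av F c * av F b) = (av F c * av F b) * t := by
    have h := K.H'.s_e
    rw [K.avbb] at h
    exact h
  have s4 : LinearMap.trace F V (h1 * (av F b - av F c * av F b)) =
      LinearMap.trace F V (h2 * (av F c - av F c * av F b)) :=
    trace_conj' K.H'.ss K.H'.ss (by
      rw [← mul_assoc, K.th1, mul_assoc, mul_assoc, mul_sub, sub_mul, tb, te])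
  refine ⟨?_, ?_, u2⟩
  · -- c1 = c2
    have : LinearMap.trace F V (h1 * C F a b c) + LinearMap.trace F V (h1 * (av F b - av F c * av F b)) =
        LinearMap.trace F V (h2 * C F a b c) + LinearMap.trace F V (h2 * (av F c - av F c * av F b)) := by
      rw [← u1, ← t1, s3, t2', u2']
    rw [s4] at this
    exact add_right_cancel this
  · have : LinearMap.trace F V (h2 * C F a b c) + LinearMap.trace F V (h2 * (av F a - av F a * av F b)) =
        LinearMap.trace F V (h3 * C F a b c) + LinearMap.trace F V (h3 * (av F b - av F a * av F b)) := by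
      rw [← u2, ← t2, s1, t3, u3]
    rw [s2] at this
    exact add_right_cancel this

end Full

end Cfsg.Agent.H915.Idem
end

-- part: H915/L33Fix
section
/-!
# Modules of dimension 12 of `SL₃(3)`: a vector fixed by the stabiliser of a point, II (helper915)
-/

set_option autoImplicit false
set_option linter.unusedSectionVars false

namespace Cfsg.Agent.H915.Idem

open Module

variable {F : Type*} [Field F] {V : Type*} [AddCommGroup V] [Module F V] [FiniteDimensional F V]

theorem cast_inj_two (n2 : (2 : F) ≠ 0) {x y : ℕ} (hx : x ≤ 2) (hy : y ≤ 2) (h : (x : F) = y) : x = y := by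
  interval_cases x <;> interval_cases y <;> try rfl
  · exact absurd h (by norm_num)
  · exact absurd (by simpa only [_root_.Nat.cast_ofNat, _root_.Nat.cast_zero] using h.symm) n2
  · exact absurd h (by norm_num)
  · exfalso
    have h1 : (1 : F) = 2 := by simpa using h
    have h2 : (1 : F) = 0 := by linear_combination -h1
    exact one_ne_zero h2
  · exact absurd (by simpa using h) n2
  · exfalso
    have h1 : (2 : F) = 1 := by simpa using h
    have h2 : (1 : F) = 0 := by linear_combination h1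
    exact one_ne_zero h2

/-- commuting involutions `x`, `y`, `x y` with the same trace on a two-dimensional space are trivial -/
theorem torus_trivial (n2 : (2 : F) ≠ 0) {x y C : End F V} (hC : C * C = C) (hr : rk C = 2) (hxx : x * x = 1)
    (hyy : y * y = 1) (hxy : x * y = y * x) (hx : x * C = C * x) (hy : y * C = C * y)
    (t1 : LinearMap.trace F V (x * C) = LinearMap.trace F V (y * C))
    (t2 : LinearMap.trace F V (y * C) = LinearMap.trace F V (x * y * C)) : x * C = C ∧ y * C = C := by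
  have hh : (2 : F)⁻¹ * 2 = 1 := inv_mul_cancel₀ n2
  set u := (2 : F)⁻¹ • (C - x * C) with hu
  set w := (2 : F)⁻¹ • (C - y * C) with hw
  have xC : x * C = C - (2 : F) • u := by rw [hu, smul_smul, mul_inv_cancel₀ n2, one_smul]; abel
  have yC : y * C = C - (2 : F) • w := by rw [hw, smul_smul, mul_inv_cancel₀ n2, one_smul]; abel
  have xC2 : x * C * (x * C) = C := by
    rw [hx, mul_assoc, ← mul_assoc x C x, hx, mul_assoc C x x, hxx, mul_one, hC]
  have yC2 : y * C * (y * C) = C := by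
    rw [hy, mul_assoc, ← mul_assoc y C y, hy, mul_assoc C y y, hyy, mul_one, hC]
  have xCC : x * C * C = x * C := by rw [mul_assoc, hC]
  have CxC : C * (x * C) = x * C := by rw [hx, ← mul_assoc, hC]
  have yCC : y * C * C = y * C := by rw [mul_assoc, hC]
  have CyC : C * (y * C) = y * C := by rw [hy, ← mul_assoc, hC]
  have huu : u * u = u := by
    rw [hu, smul_mul_smul_comm, sub_mul, mul_sub, mul_sub, hC, CxC, xCC, xC2]
    have e1 : C - x * C - (x * C - C) = (2 : F) • (C - x * C) := by module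
    rw [e1, smul_smul, mul_assoc, hh, mul_one]
  have hww : w * w = w := by
    rw [hw, smul_mul_smul_comm, sub_mul, mul_sub, mul_sub, hC, CyC, yCC, yC2]
    have e1 : C - y * C - (y * C - C) = (2 : F) • (C - y * C) := by module
    rw [e1, smul_smul, mul_assoc, hh, mul_one]
  have xyC : x * C * (y * C) = x * y * C := by rw [mul_assoc, CyC, ← mul_assoc]
  have yxC : y * C * (x * C) = x * y * C := by rw [mul_assoc, CxC, ← mul_assoc, hxy]
  have huw : u * w = w * u := by
    rw [hu, hw, smul_mul_smul_comm, smul_mul_smul_comm, sub_mul, sub_mul, mul_sub, mul_sub, mul_sub, mul_sub, hC, CxC, CyC,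
      xCC, yCC, xyC, yxC]
    congr 1
    abel
  have Cu : C * u = u := by rw [hu, mul_smul_comm, mul_sub, hC, CxC]
  have uC : u * C = u := by rw [hu, smul_mul_assoc, sub_mul, hC, xCC]
  have Cw : C * w = w := by rw [hw, mul_smul_comm, mul_sub, hC, CyC]
  have wC : w * C = w := by rw [hw, smul_mul_assoc, sub_mul, hC, yCC]
  have iuw : (u * w) * (u * w) = u * w := by
    rw [mul_assoc, ← mul_assoc w u w, ← huw, mul_assoc u w w, hww, ← mul_assoc, huu]
  have i1 : (u - u * w) * (u - u * w) = u - u * w := Pair.compl_idem iuw huu (by rw [← mul_assoc, huu])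
    (by rw [mul_assoc, ← huw, ← mul_assoc, huu])
  have i2 : (w - u * w) * (w - u * w) = w - u * w := Pair.compl_idem iuw hww (by rw [huw, ← mul_assoc, hww])
    (by rw [mul_assoc, hww])
  have i3 : (C - u) * (C - u) = C - u := Pair.compl_idem huu hC Cu uC
  have r1 : rk u = rk (u * w) + rk (u - u * w) := by
    rw [← rk_add iuw i1 (by rw [mul_sub, iuw, mul_assoc, ← huw, ← mul_assoc, huu, sub_self])
      (by rw [sub_mul, iuw, ← mul_assoc, huu, sub_self])]
    congr 1
    abel
  have r2 : rk w = rk (u * w) + rk (w - u * w) := by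
    rw [← rk_add iuw i2 (by rw [mul_sub, iuw, mul_assoc, hww, sub_self])
      (by rw [sub_mul, iuw, huw, ← mul_assoc, hww, sub_self])]
    congr 1
    abel
  have r3 : rk C = rk u + rk (C - u) := by
    rw [← rk_add huu i3 (by rw [mul_sub, huu, uC, sub_self]) (by rw [sub_mul, huu, Cu, sub_self])]
    congr 1
    abel
  have uwuw : u * w * w = u * w := by rw [mul_assoc, hww]
  have i4 : (C - u - (w - u * w)) * (C - u - (w - u * w)) = C - u - (w - u * w) := by
    refine Pair.compl_idem i2 i3 ?_ ?_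
    · rw [sub_mul, mul_sub, mul_sub, Cw, ← mul_assoc, Cu, ← mul_assoc u u w, huu]
      abel
    · rw [mul_sub, sub_mul, sub_mul, wC, mul_assoc u w C, wC, ← huw, mul_assoc u w u, ← huw, ← mul_assoc u u w, huu]
      abel
  have r4 : rk (C - u) = rk (w - u * w) + rk (C - u - (w - u * w)) := by
    rw [← rk_add i2 i4 ?_ ?_]
    · congr 1
      abel
    · rw [mul_sub, i2, mul_sub, sub_mul, sub_mul, wC, mul_assoc u w C, wC, ← huw, mul_assoc u w u, ← huw,
        ← mul_assoc u u w, huu]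
      abel
    · rw [sub_mul, i2, sub_mul, mul_sub, mul_sub, Cw, ← mul_assoc, Cu, ← mul_assoc u u w, huu]
      abel
  -- traces
  have T0 := trace_idem hC
  have Tu := trace_idem huu
  have Tw := trace_idem hww
  have Tuw := trace_idem iuw
  have T1 : LinearMap.trace F V (x * C) = 2 - 2 * (rk u : F) := by
    rw [xC, map_sub, map_smul, T0, Tu, hr, smul_eq_mul]
    norm_num
  have T2 : LinearMap.trace F V (y * C) = 2 - 2 * (rk w : F) := by
    rw [yC, map_sub, map_smul, T0, Tw, hr, smul_eq_mul]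
    norm_num
  have T3 : LinearMap.trace F V (x * y * C) = 2 - 2 * (rk u : F) - 2 * (rk w : F) + 4 * (rk (u * w) : F) := by
    rw [← xyC, xC, yC]
    have e1 : (C - (2 : F) • u) * (C - (2 : F) • w) = C - (2 : F) • u - (2 : F) • w + (4 : F) • (u * w) := by
      rw [sub_mul, mul_sub, mul_sub, hC, mul_smul_comm, smul_mul_assoc, smul_mul_smul_comm, Cw, uC]
      have : (2 : F) * 2 = 4 := by norm_num
      rw [this]
      abel
    have e2 : LinearMap.trace F V (C - (2 : F) • u - (2 : F) • w + (4 : F) • (u * w)) =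
        LinearMap.trace F V C - 2 * LinearMap.trace F V u - 2 * LinearMap.trace F V w +
          4 * LinearMap.trace F V (u * w) := by
      clear_value u w
      rw [map_add, map_sub, map_sub, map_smul, map_smul, map_smul]
      simp only [smul_eq_mul]
    rw [e1, e2, T0, Tu, Tw, Tuw, hr]
    norm_num only []
  have b1 : rk u ≤ 2 := by omega
  have b2 : rk w ≤ 2 := by omega
  have b3 : rk (u * w) ≤ 2 := by omega
  have k1 : rk u = rk w := by
    apply cast_inj_two n2 b1 b2
    have e1 : (2 : F) * ((rk u : F) - rk w) = 0 := by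
      rw [T1, T2] at t1
      linear_combination -t1
    have e2 := (mul_eq_zero.1 e1).resolve_left n2
    exact sub_eq_zero.1 e2
  have k2 : (rk u : F) = 2 * (rk (u * w) : F) := by
    rw [T2, T3, ← k1] at t2
    have e1 : (2 : F) * ((rk u : F) - 2 * rk (u * w)) = 0 := by linear_combination t2
    have e2 := (mul_eq_zero.1 e1).resolve_left n2
    exact sub_eq_zero.1 e2
  have k3 : rk u = 0 := by
    by_contra h0
    have h1 : rk u = 1 ∨ rk u = 2 := by (clear * - b2 k1 h0; omega)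
    rcases h1 with h1 | h1
    · have h2 : rk (u * w) = 0 ∨ rk (u * w) = 1 := by (clear * - r2 k1 h1; omega)
      rcases h2 with h2 | h2
      · rw [h1, h2] at k2
        simp only [_root_.Nat.cast_one, _root_.Nat.cast_zero, _root_.MulZeroClass.mul_zero, _root_.one_ne_zero] at k2
      · rw [h1, h2] at k2
        have h3 : (1 : F) = 2 := by simpa only [_root_.Nat.cast_one, _root_.mul_one] using k2
        have h4 : (1 : F) = 0 := by linear_combination -h3
        exact one_ne_zero h4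
    · have h2 : rk (u * w) = 2 := by omega
      rw [h1, h2] at k2
      apply n2
      have h3 : (2 : F) = 2 * 2 := by simpa only [_root_.Nat.cast_ofNat] using k2
      linear_combination -h3
  have zu := eq_zero_of_rk k3
  have zw := eq_zero_of_rk (k1 ▸ k3)
  rw [zu, smul_zero, sub_zero] at xC
  rw [zw, smul_zero, sub_zero] at yC
  exact ⟨xC, yC⟩

end Cfsg.Agent.H915.Idem
end

-- part: H915/L33Fix2
section
/-!
# Modules of dimension 12 of `SL₃(3)`: a vector fixed by the stabiliser of a point, III (helper915)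
-/

set_option autoImplicit false
set_option linter.unusedSectionVars false

namespace Cfsg.Agent.H915.Idem

open Module

variable {F : Type*} [Field F] {V : Type*} [AddCommGroup V] [Module F V] [FiniteDimensional F V]

theorem rk_le_of_eq {C x p y : End F V} (h : C = x * p * y) : rk C ≤ rk p := by
  subst h
  unfold rk
  have h1 : LinearMap.range (x * p * y) ≤ (LinearMap.range p).map x := by
    rintro _ ⟨v, rfl⟩
    exact ⟨p (y v), ⟨y v, rfl⟩, rfl⟩
  exact (Submodule.finrank_mono h1).trans (Submodule.finrank_map_le x _)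

/-- the computation: an involution `s`, idempotents `C ≤ e` with `C s C = -C/3` and `rk C = rk (e - C)` -/
theorem trace_se (n2 : (2 : F) ≠ 0) (n3 : (3 : F) ≠ 0) {C e s : End F V} (hC : C * C = C) (he : e * e = e)
    (eC : e * C = C) (Ce : C * e = C) (hs : s * s = 1) (se : s * e = e * s) (hr : rk C = rk (e - C))
    (h : C * s * C = -((3 : F)⁻¹ • C)) : LinearMap.trace F V (s * e) = 0 := by
  obtain ⟨z, hz⟩ : ∃ z : F, z = (3 : F)⁻¹ := ⟨_, rfl⟩
  rw [← hz] at h
  have z3 : 3 * z = 1 := by rw [hz, mul_inv_cancel₀ n3]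
  have n8 : (8 : F) ≠ 0 := by
    have : (8 : F) = 2 * 2 * 2 := by norm_num
    rw [this]
    exact mul_ne_zero (mul_ne_zero n2 n2) n2
  obtain ⟨k, hk⟩ : ∃ k : F, k = 9 / 8 := ⟨_, rfl⟩
  have hk1 : k * (1 - z * z) = 1 := by
    have e1 : (8 : F) * (k * (1 - z * z)) = 8 := by
      have : (8 : F) * k = 9 := by rw [hk]; field_simp
      linear_combination (1 - z * z) * this - (3 * z + 1) * z3
    have e2 : (8 : F) * (k * (1 - z * z) - 1) = 0 := by linear_combination e1
    exact sub_eq_zero.1 ((mul_eq_zero.1 e2).resolve_left n8)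
  have sCCs : s * C * (C * s) = s * C * s := by rw [mul_assoc s C, ← mul_assoc C C s, hC, ← mul_assoc]
  have sCC : s * C * C = s * C := by rw [mul_assoc, hC]
  have CCs : C * (C * s) = C * s := by rw [← mul_assoc, hC]
  have CssC : C * s * (s * C) = C := by rw [mul_assoc, ← mul_assoc s s C, hs, one_mul, hC]
  have CsC' : C * (s * C) = -(z • C) := by rw [← mul_assoc, h]
  obtain ⟨β, hβ⟩ : ∃ β : End F V, β = C * s + z • C := ⟨_, rfl⟩
  obtain ⟨γ, hγ⟩ : ∃ γ : End F V, γ = s * C + z • C := ⟨_, rfl⟩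
  have βγ : β * γ = (1 - z * z) • C := by
    rw [hβ, hγ, add_mul, mul_add, mul_add, CssC, mul_smul_comm, h, smul_mul_assoc, CsC', smul_mul_smul_comm, hC]
    module
  obtain ⟨π, hπ⟩ : ∃ π : End F V, π = k • (γ * β) := ⟨_, rfl⟩
  have γC : γ * C = γ := by rw [hγ, add_mul, sCC, smul_mul_assoc, hC]
  have Cβ : C * β = β := by rw [hβ, mul_add, CCs, mul_smul_comm, hC]
  have ππ : π * π = π := by
    rw [hπ, smul_mul_smul_comm, mul_assoc γ β, ← mul_assoc β γ β, βγ, smul_mul_assoc, Cβ, mul_smul_comm, smul_smul,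
      mul_assoc, hk1, mul_one]
  have rC : rk C ≤ rk π := by
    refine rk_le_of_eq (x := k • β) (y := γ) ?_
    rw [hπ, smul_mul_smul_comm, smul_mul_assoc, mul_assoc β (γ * β) γ, mul_assoc γ β γ, ← mul_assoc β γ, βγ,
      smul_mul_smul_comm, hC, smul_smul]
    have : k * k * ((1 - z * z) * (1 - z * z)) = 1 := by
      have e1 : k * k * ((1 - z * z) * (1 - z * z)) = (k * (1 - z * z)) * (k * (1 - z * z)) := by ring
      rw [e1, hk1, one_mul]
    rw [this, one_smul]
  -- `π` is in the corner of `Y = e - C`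
  have eβ : β * e = β := by rw [hβ, add_mul, mul_assoc C s e, se, ← mul_assoc, Ce, smul_mul_assoc, Ce]
  have eγ : e * γ = γ := by rw [hγ, mul_add, ← mul_assoc e s C, ← se, mul_assoc, eC, mul_smul_comm, eC]
  have Cγ : C * γ = 0 := by
    rw [hγ, mul_add, CsC', mul_smul_comm, hC, neg_add_cancel]
  have βC : β * C = 0 := by
    rw [hβ, add_mul, h, smul_mul_assoc, hC, neg_add_cancel]
  have Yπ : (e - C) * π = π := by
    rw [hπ, mul_smul_comm, ← mul_assoc, sub_mul, eγ, Cγ, sub_zero]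
  have πY : π * (e - C) = π := by
    rw [hπ, smul_mul_assoc, mul_assoc, mul_sub, eβ, βC, sub_zero]
  have YY : (e - C) * (e - C) = e - C := Pair.compl_idem hC he eC Ce
  have iY : (e - C - π) * (e - C - π) = e - C - π := Pair.compl_idem ππ YY Yπ πY
  have rY : rk (e - C) = rk π + rk (e - C - π) := by
    rw [← rk_add ππ iY (by rw [mul_sub, πY, ππ, sub_self]) (by rw [sub_mul, Yπ, ππ, sub_self])]
    congr 1
    abel
  have r0 : rk (e - C - π) = 0 := by omega
  have Yeq : e - C = π := sub_eq_zero.1 (eq_zero_of_rk r0)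
  -- traces
  have t0 : LinearMap.trace F V (s * C) = -(z * LinearMap.trace F V C) := by
    have e1 : LinearMap.trace F V (s * C) = LinearMap.trace F V (C * s * C) := by
      rw [mul_assoc, LinearMap.trace_mul_comm F C (s * C), mul_assoc, hC]
    rw [e1, h, map_neg, map_smul, smul_eq_mul]
  have t1 : LinearMap.trace F V (s * π) = k * ((1 - z * z) * (z * LinearMap.trace F V C)) := by
    have e1 : s * π = k • (C * s + z • (s * (C * s)) + z • C + (z * z) • (s * C)) := by
      have e0 : (s * C + z • C) * (C * s + z • C) = s * C * s + z • (s * C) + z • (C * s) + (z * z) • C := by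
        rw [add_mul, mul_add, mul_add, sCCs, mul_smul_comm, sCC, smul_mul_assoc, CCs, smul_mul_smul_comm, hC]
        abel
      rw [hπ, hγ, hβ, mul_smul_comm, e0, mul_add, mul_add, mul_add, mul_smul_comm, mul_smul_comm, mul_smul_comm,
        ← mul_assoc s (s * C) s, ← mul_assoc s s C, hs, one_mul]
      congr 1
      abel
    have e2 : LinearMap.trace F V (s * (C * s)) = LinearMap.trace F V C := by
      rw [LinearMap.trace_mul_comm, mul_assoc, hs, mul_one]
    have e3 : LinearMap.trace F V (C * s) = LinearMap.trace F V (s * C) := LinearMap.trace_mul_comm F C s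
    rw [e1, map_smul, map_add, map_add, map_add, map_smul, map_smul, map_smul, e2, e3, t0]
    simp only [smul_eq_mul]
    ring
  have e5 : s * e = s * C + s * π := by rw [← Yeq, ← mul_add]; congr 1; abel
  rw [e5, map_add, t0, t1, ← mul_assoc, hk1, one_mul, neg_add_cancel]

namespace Full

variable {a b c h1 h2 h3 s t g g' : End F V} (K : Full a b c h1 h2 h3 s t g g')

include K

/-- **a non-zero operator whose image is fixed by the stabiliser of a point** -/
theorem exists_fix (n2 : (2 : F) ≠ 0) (n3 : (3 : F) ≠ 0) (h12' : finrank F V = 12) (hne : a ≠ 1) (hne' : c ≠ 1) :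
    ∃ W : End F V, W ≠ 0 ∧ a * W = W ∧ b * W = W ∧ c * W = W ∧ h1 * W = W ∧ h2 * W = W ∧ h3 * W = W ∧ s * W = W := by
  obtain ⟨c1, c2, c3, c4, c5⟩ := K.Cfacts n2 n3 h12' hne hne'
  obtain ⟨t1, t2, t3⟩ := K.traces n3
  have cQ := K.cQ n2 n3 h12' hne
  have Qc := K.Qc n2 n3 h12' hne
  have aQ' := K.aQ' n2 n3 h12' hne'
  have Q'a := K.Q'a n2 n3 h12' hne'
  have e1 := e_eq (F := F) (a := a) (b := b) (c := c)
  have e1' := e'_eq (F := F) (a := a) (b := b) (c := c)
  have P := K.H.ab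
  have P' := K.pcb
  set e := av F a * av F b with he
  set C' := C F a b c with hC'
  set Y := av F b - av F c * av F b with hY
  have ee : e * e = e := P.e_idem n3
  have eC : e * C' = C' := by rw [e1, add_mul, c1, c3, add_zero]
  have Ce : C' * e = C' := by rw [e1, mul_add, c1, c2, add_zero]
  have ae : a * e = e := by rw [he, ← mul_assoc, mul_av P.ha]
  have be : b * e = e := by rw [he, P.e_comm, ← mul_assoc, mul_av P.hb]
  have cC : c * C' = C' := by
    have h : C' = av F c * av F b - (av F b - e) := by rw [e1']; abel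
    have h' : c * (av F c * av F b) = av F c * av F b := by rw [← mul_assoc, mul_av P'.ha]
    rw [h, mul_sub, h', cQ]
  have KY : av F c * Y = 0 := by
    rw [hY, mul_sub, ← mul_assoc, av_idem n3 P'.ha, sub_self]
  have KC : av F c * C' = C' := av_fix_left n3 cC
  have Ke : av F c * e = C' := by rw [e1, mul_add, KC, KY, add_zero]
  have se : s * e = e * s := K.H.s_e
  have CsC : C' * s * C' = av F c * (s * C') := by
    rw [← Ke, mul_assoc (av F c) e s, ← se, Ke, mul_assoc, mul_assoc, eC]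
  have hC2 : C' * C' = C' := c1
  -- the torus is trivial on `C`
  have h1C' : h1 * C' = C' * h1 := by
    have k1 : h1 * e = e * h1 := K.H.h_e
    have k2 : h1 * av F c = av F c * h1 := av_comm K.h1c
    rw [← Ke, ← mul_assoc, k2, mul_assoc, k1, ← mul_assoc]
  have h2a' : h2 * av F a = av F a * h2 := by rw [av_conj K.h2a, av_sq P.ha]
  have h2b' : h2 * av F b = av F b * h2 := av_comm K.h2b
  have h2c' : h2 * av F c = av F c * h2 := by rw [av_conj K.h2c, av_sq P'.ha]
  have h2C' : h2 * C' = C' * h2 := by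
    have k1 : h2 * e = e * h2 := by rw [he, ← mul_assoc, h2a', mul_assoc, h2b', ← mul_assoc]
    rw [← Ke, ← mul_assoc, h2c', mul_assoc, k1, ← mul_assoc]
  obtain ⟨h1C, h2C⟩ := torus_trivial n2 c1 c4 K.H.hh K.h22 (K.h12.trans K.h21.symm) h1C' h2C' t1 (by rw [K.h12]; exact t2)
  have h3C : h3 * C' = C' := by rw [← K.h12, mul_assoc, h2C, h1C]
  have W2 : (3 : F) • (av F c * (s * C')) = (1 + c + c * c) * (s * C') := by
    rw [← smul_mul_assoc, three_av n3]
  have k2 : av F c * (s * C') = e * (av F c * (s * C')) := by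
    have k3 : e * av F c = av F c * e := av_comm K.H.c_e.symm
    have k4 : s * C' = e * (s * C') := by rw [← mul_assoc, ← se, mul_assoc, eC]
    rw [← mul_assoc e, k3, mul_assoc, ← k4]
  refine ⟨C' + (3 : F) • (av F c * (s * C')), ?_, ?_, ?_, ?_, ?_, ?_, ?_, ?_⟩
  · intro h0
    have h1 : av F c * (s * C') = -((3 : F)⁻¹ • C') := by
      have h2 : (3 : F) • (av F c * (s * C')) = -C' := by
        rw [add_comm] at h0
        exact eq_neg_of_add_eq_zero_left h0
      have h4 : (3 : F)⁻¹ • ((3 : F) • (av F c * (s * C'))) = (3 : F)⁻¹ • (-C') := by rw [h2]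
      rw [smul_smul, inv_mul_cancel₀ n3, one_smul] at h4
      rw [h4, smul_neg]
    have hY' : e - C' = Y := by rw [e1]; abel
    have hr : rk C' = rk (e - C') := by rw [hY', c4, c5]
    have tse := trace_se n2 n3 c1 ee eC Ce K.H.ss se hr (by rw [CsC, h1])
    have ge : g * e = e * g := by
      rw [he, ← mul_assoc, K.ga, mul_assoc, K.gb, ← mul_assoc, P.m_n]
    have tr1 : LinearMap.trace F V (h2 * e) = LinearMap.trace F V (s * e) :=
      trace_conj' K.gg K.gg' (by rw [← mul_assoc, ← K.sg, mul_assoc, ge, ← mul_assoc])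
    rw [tse, t3, h2C, trace_idem c1, c4] at tr1
    apply n2
    exact_mod_cast tr1
  · rw [mul_add, mul_smul_comm]
    have k1 : a * C' = C' := by rw [← eC, ← mul_assoc, ae]
    rw [k1, k2, ← mul_assoc, ae]
  · rw [mul_add, mul_smul_comm]
    have k1 : b * C' = C' := by rw [← eC, ← mul_assoc, be]
    rw [k1, k2, ← mul_assoc, be]
  · rw [mul_add, mul_smul_comm, cC, ← mul_assoc, mul_av P'.ha]
  · rw [mul_add, mul_smul_comm, h1C, ← mul_assoc, av_comm K.h1c, mul_assoc, ← mul_assoc h1 s, ← K.sh1, mul_assoc s h1, h1C]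
  · rw [mul_add, mul_smul_comm, h2C, ← mul_assoc, h2c', mul_assoc, ← mul_assoc h2 s, ← K.sh3, mul_assoc s h3, h3C]
  · have h3c' : h3 * av F c = av F c * h3 := by rw [av_conj K.H.kc, av_sq P'.ha]
    rw [mul_add, mul_smul_comm, h3C, ← mul_assoc, h3c', mul_assoc, ← mul_assoc h3 s, ← K.sh2, mul_assoc s h2, h2C]
  · rw [W2]
    have ccC : c * c * C' = C' := by rw [mul_assoc, cC, cC]
    have k1 : s * c * s * C' = c * (s * C') := by
      rw [K.scs, mul_assoc, cC, mul_assoc, h2C, mul_assoc]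
    have k2 : s * (c * c) * s * C' = c * c * (s * C') := by
      rw [K.sccs, mul_assoc (c * c * s * h3), ccC, mul_assoc (c * c * s), h3C, mul_assoc (c * c)]
    have k3 : s * (C' + (1 + c + c * c) * (s * C')) = s * C' + s * s * C' + s * c * s * C' + s * (c * c) * s * C' := by
      noncomm_ring
    rw [k3, k1, k2, K.H.ss]
    noncomm_ring

end Full

end Cfsg.Agent.H915.Idem
end

-- part: H915/L33Rel
section
/-!
# `SL₃(3)`: elements and relations; the stabiliser of a point (helper915)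
-/

set_option autoImplicit false
set_option linter.unusedSectionVars false

namespace Cfsg.Agent.H915.L33

open Matrix

/-- `SL₃(3)` -/
abbrev G := Matrix.SpecialLinearGroup (Fin 3) (ZMod 3)

def x12 : G := ⟨!![1, 1, 0; 0, 1, 0; 0, 0, 1], by decide +kernel⟩
def x13 : G := ⟨!![1, 0, 1; 0, 1, 0; 0, 0, 1], by decide +kernel⟩
def x23 : G := ⟨!![1, 0, 0; 0, 1, 1; 0, 0, 1], by decide +kernel⟩
def h1 : G := ⟨!![1, 0, 0; 0, 2, 0; 0, 0, 2], by decide +kernel⟩
def h2 : G := ⟨!![2, 0, 0; 0, 1, 0; 0, 0, 2], by decide +kernel⟩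
def h3 : G := ⟨!![2, 0, 0; 0, 2, 0; 0, 0, 1], by decide +kernel⟩
def s23 : G := ⟨!![2, 0, 0; 0, 0, 1; 0, 1, 0], by decide +kernel⟩
def s12 : G := ⟨!![0, 1, 0; 1, 0, 0; 0, 0, 2], by decide +kernel⟩
def g0 : G := ⟨!![1, 0, 0; 0, 1, 1; 0, 1, 2], by decide +kernel⟩

theorem r_a : x12 * x12 * x12 = 1 := Subtype.ext (by decide)
theorem r_b : x13 * x13 * x13 = 1 := Subtype.ext (by decide)
theorem r_c : x23 * x23 * x23 = 1 := Subtype.ext (by decide)
theorem r_ab : x12 * x13 = x13 * x12 := Subtype.ext (by decide)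
theorem r_cb : x23 * x13 = x13 * x23 := Subtype.ext (by decide +kernel)
theorem r_ac : x12 * x23 = x23 * x12 * x13 := Subtype.ext (by decide +kernel)
theorem r_h11 : h1 * h1 = 1 := Subtype.ext (by decide)
theorem r_h22 : h2 * h2 = 1 := Subtype.ext (by decide)
theorem r_h33 : h3 * h3 = 1 := Subtype.ext (by decide)
theorem r_h12 : h1 * h2 = h3 := Subtype.ext (by decide)
theorem r_h21 : h2 * h1 = h3 := Subtype.ext (by decide)
theorem r_h1a : h1 * x12 = x12 * x12 * h1 := Subtype.ext (by decide +kernel)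
theorem r_h1b : h1 * x13 = x13 * x13 * h1 := Subtype.ext (by decide +kernel)
theorem r_h1c : h1 * x23 = x23 * h1 := Subtype.ext (by decide +kernel)
theorem r_h2a : h2 * x12 = x12 * x12 * h2 := Subtype.ext (by decide +kernel)
theorem r_h2b : h2 * x13 = x13 * h2 := Subtype.ext (by decide +kernel)
theorem r_h2c : h2 * x23 = x23 * x23 * h2 := Subtype.ext (by decide +kernel)
theorem r_h3a : h3 * x12 = x12 * h3 := Subtype.ext (by decide +kernel)
theorem r_h3b : h3 * x13 = x13 * x13 * h3 := Subtype.ext (by decide +kernel)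
theorem r_h3c : h3 * x23 = x23 * x23 * h3 := Subtype.ext (by decide +kernel)
theorem r_ss : s23 * s23 = 1 := Subtype.ext (by decide)
theorem r_tt : s12 * s12 = 1 := Subtype.ext (by decide)
theorem r_sa : s23 * x12 = x13 * x13 * s23 := Subtype.ext (by decide +kernel)
theorem r_sb : s23 * x13 = x12 * x12 * s23 := Subtype.ext (by decide +kernel)
theorem r_sh1 : s23 * h1 = h1 * s23 := Subtype.ext (by decide +kernel)
theorem r_sh2 : s23 * h2 = h3 * s23 := Subtype.ext (by decide +kernel)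
theorem r_sh3 : s23 * h3 = h2 * s23 := Subtype.ext (by decide +kernel)
theorem r_th1 : s12 * h1 = h2 * s12 := Subtype.ext (by decide +kernel)
theorem r_sg : s23 * g0 = g0 * h2 := Subtype.ext (by decide +kernel)
theorem r_ga : g0 * x12 = x12 * x13 * (x12 * x13) * g0 := Subtype.ext (by decide +kernel)
theorem r_gb : g0 * x13 = x12 * (x13 * x13) * (x12 * (x13 * x13)) * g0 := Subtype.ext (by decide +kernel)
theorem r_scs : s23 * x23 * s23 = x23 * s23 * h2 * x23 := Subtype.ext (by decide +kernel)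
theorem r_sccs : s23 * (x23 * x23) * s23 = x23 * x23 * s23 * h3 * (x23 * x23) := Subtype.ext (by decide +kernel)


/-! ### generation of the stabiliser of a point -/

def X12 (t : ZMod 3) : Matrix (Fin 3) (Fin 3) (ZMod 3) := !![1, t, 0; 0, 1, 0; 0, 0, 1]
def X13 (t : ZMod 3) : Matrix (Fin 3) (Fin 3) (ZMod 3) := !![1, 0, t; 0, 1, 0; 0, 0, 1]
def X23 (t : ZMod 3) : Matrix (Fin 3) (Fin 3) (ZMod 3) := !![1, 0, 0; 0, 1, t; 0, 0, 1]
def D (p q r : ZMod 3) : Matrix (Fin 3) (Fin 3) (ZMod 3) := !![p, 0, 0; 0, q, 0; 0, 0, r]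
def S : Matrix (Fin 3) (Fin 3) (ZMod 3) := !![2, 0, 0; 0, 0, 1; 0, 1, 0]

theorem upper : ∀ p q1 q2 m11 m12 m22 : ZMod 3, p * m11 * m22 = 1 →
    !![p, q1, q2; 0, m11, m12; 0, 0, m22] =
      X23 (m12 * m22) * (X12 (q1 * m11) * (X13 (q2 * m22) * D p m11 m22)) := by
  decide +kernel

theorem lower_aux : ∀ p q1 q2 m11 m12 m21 m22 : ZMod 3, p * (m11 * m22 - m12 * m21) = 1 → m21 ≠ 0 →
    !![p, q1, q2; 0, m11, m12; 0, m21, m22] =
      X23 (m11 * m21) * (S * !![2 * p, 2 * q1, 2 * q2; 0, m21, m22; 0, 0, (2 * p * m21)]) := by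
  decide +kernel

theorem lower : ∀ p q1 q2 m11 m12 m21 m22 : ZMod 3, p * (m11 * m22 - m12 * m21) = 1 → m21 ≠ 0 →
    ∃ a b t1 t2 : ZMod 3, !![p, q1, q2; 0, m11, m12; 0, m21, m22] =
      X23 (m11 * m21) * (S * !![2 * p, a, b; 0, t1, t2; 0, 0, (2 * p * t1)]) :=
  fun p q1 q2 m11 m12 m21 m22 h h' => ⟨2 * q1, 2 * q2, m21, m22, lower_aux p q1 q2 m11 m12 m21 m22 h h'⟩

end Cfsg.Agent.H915.L33
end

-- part: H915/L33Gen
section
/-!
# `SL₃(3)`: generation of the stabiliser of a point (helper915)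
-/

set_option autoImplicit false
set_option linter.unusedSectionVars false

namespace Cfsg.Agent.H915.L33

open Matrix

def u12 (t : ZMod 3) : G := ⟨X12 t, by revert t; decide +kernel⟩
def u13 (t : ZMod 3) : G := ⟨X13 t, by revert t; decide +kernel⟩
def u23 (t : ZMod 3) : G := ⟨X23 t, by revert t; decide +kernel⟩

theorem u12_mem {K : Subgroup G} (h : x12 ∈ K) (t : ZMod 3) : u12 t ∈ K := by
  have key : ∀ t : ZMod 3, (u12 t).1 = 1 ∨ (u12 t).1 = x12.1 ∨ (u12 t).1 = (x12 * x12).1 := by decide +kernel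
  rcases key t with h1 | h1 | h1
  · have h2 : u12 t = 1 := Subtype.ext h1
    rw [h2]; exact K.one_mem
  · have h2 : u12 t = x12 := Subtype.ext h1
    rw [h2]; exact h
  · have h2 : u12 t = x12 * x12 := Subtype.ext h1
    rw [h2]; exact K.mul_mem h h

theorem u13_mem {K : Subgroup G} (h : x13 ∈ K) (t : ZMod 3) : u13 t ∈ K := by
  have key : ∀ t : ZMod 3, (u13 t).1 = 1 ∨ (u13 t).1 = x13.1 ∨ (u13 t).1 = (x13 * x13).1 := by decide +kernel
  rcases key t with h1 | h1 | h1
  · have h2 : u13 t = 1 := Subtype.ext h1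
    rw [h2]; exact K.one_mem
  · have h2 : u13 t = x13 := Subtype.ext h1
    rw [h2]; exact h
  · have h2 : u13 t = x13 * x13 := Subtype.ext h1
    rw [h2]; exact K.mul_mem h h

theorem u23_mem {K : Subgroup G} (h : x23 ∈ K) (t : ZMod 3) : u23 t ∈ K := by
  have key : ∀ t : ZMod 3, (u23 t).1 = 1 ∨ (u23 t).1 = x23.1 ∨ (u23 t).1 = (x23 * x23).1 := by decide +kernel
  rcases key t with h1 | h1 | h1
  · have h2 : u23 t = 1 := Subtype.ext h1
    rw [h2]; exact K.one_mem
  · have h2 : u23 t = x23 := Subtype.ext h1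
    rw [h2]; exact h
  · have h2 : u23 t = x23 * x23 := Subtype.ext h1
    rw [h2]; exact K.mul_mem h h

theorem torus_mem {K : Subgroup G} (k1 : h1 ∈ K) (k2 : h2 ∈ K) (k3 : h3 ∈ K) (g : G) {p q r : ZMod 3}
    (hg : g.1 = D p q r) : g ∈ K := by
  have key : ∀ p q r : ZMod 3, (D p q r).det = 1 → D p q r = 1 ∨ D p q r = h1.1 ∨ D p q r = h2.1 ∨ D p q r = h3.1 := by
    (simp only [detL_eq_1e0e7]; decide +kernel)
  have hdet : (D p q r).det = 1 := by rw [← hg]; exact g.2
  rcases key p q r hdet with h | h | h | h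
  · have : g = 1 := Subtype.ext (hg.trans h)
    rw [this]; exact K.one_mem
  · have : g = h1 := Subtype.ext (hg.trans h)
    rw [this]; exact k1
  · have : g = h2 := Subtype.ext (hg.trans h)
    rw [this]; exact k2
  · have : g = h3 := Subtype.ext (hg.trans h)
    rw [this]; exact k3

theorem upper_mem {K : Subgroup G} (ka : x12 ∈ K) (kb : x13 ∈ K) (kc : x23 ∈ K) (k1 : h1 ∈ K) (k2 : h2 ∈ K)
    (k3 : h3 ∈ K) (g : G) (h10 : g.1 1 0 = 0) (h20 : g.1 2 0 = 0) (h21 : g.1 2 1 = 0) : g ∈ K := by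
  have he : g.1 = !![g.1 0 0, g.1 0 1, g.1 0 2; 0, g.1 1 1, g.1 1 2; 0, 0, g.1 2 2] := by
    have h := Matrix.eta_fin_three g.1
    rw [h10, h20, h21] at h
    exact h
  have hd : g.1 0 0 * g.1 1 1 * g.1 2 2 = 1 := by
    have h := g.2
    rw [Matrix.det_fin_three, h10, h20, h21] at h
    linear_combination h
  have hw := upper _ (g.1 0 1) (g.1 0 2) _ (g.1 1 2) _ hd
  rw [← he] at hw
  have key : g = u23 (g.1 1 2 * g.1 2 2) * (u12 (g.1 0 1 * g.1 1 1) * (u13 (g.1 0 2 * g.1 2 2) *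
      ⟨D (g.1 0 0) (g.1 1 1) (g.1 2 2), by
        unfold D
        rw [Matrix.det_fin_three]
        simp only [_root_.Fin.isValue, _root_.Matrix.of_apply, _root_.Matrix.cons_val', _root_.Matrix.cons_val_zero, _root_.Matrix.cons_val_fin_one, _root_.Matrix.cons_val_one, _root_.Matrix.cons_val, _root_.MulZeroClass.mul_zero, _root_.sub_zero, _root_.MulZeroClass.zero_mul, _root_.add_zero]
        exact hd⟩)) := Subtype.ext hw
  rw [key]
  refine K.mul_mem (u23_mem kc _) (K.mul_mem (u12_mem ka _) (K.mul_mem (u13_mem kb _) ?_))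
  exact torus_mem k1 k2 k3 _ rfl

theorem cancel {A A' B B' X Y : Matrix (Fin 3) (Fin 3) (ZMod 3)} (hA : A' * A = 1) (hB : B' * B = 1)
    (h : A * (B * X) = A * (B * Y)) : X = Y := by
  have h1 := congrArg (fun M => B' * (A' * M)) h
  rw [← Matrix.mul_assoc A', hA, Matrix.one_mul, ← Matrix.mul_assoc A', hA, Matrix.one_mul, ← Matrix.mul_assoc B', hB,
    Matrix.one_mul, ← Matrix.mul_assoc B', hB, Matrix.one_mul] at h1
  exact h1

theorem point_mem {K : Subgroup G} (ka : x12 ∈ K) (kb : x13 ∈ K) (kc : x23 ∈ K) (k1 : h1 ∈ K) (k2 : h2 ∈ K)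
    (k3 : h3 ∈ K) (ks : s23 ∈ K) (g : G) (h10 : g.1 1 0 = 0) (h20 : g.1 2 0 = 0) : g ∈ K := by
  by_cases h21 : g.1 2 1 = 0
  · exact upper_mem ka kb kc k1 k2 k3 g h10 h20 h21
  have he : g.1 = !![g.1 0 0, g.1 0 1, g.1 0 2; 0, g.1 1 1, g.1 1 2; 0, g.1 2 1, g.1 2 2] := by
    have h := Matrix.eta_fin_three g.1
    rw [h10, h20] at h
    exact h
  have hd : g.1 0 0 * (g.1 1 1 * g.1 2 2 - g.1 1 2 * g.1 2 1) = 1 := by
    have h := g.2
    rw [Matrix.det_fin_three, h10, h20] at h
    linear_combination h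
  obtain ⟨a, b, t1, t2, hw⟩ := lower _ (g.1 0 1) (g.1 0 2) _ _ _ _ hd h21
  rw [← he] at hw
  set t := g.1 1 1 * g.1 2 1
  have hU : (s23⁻¹ * (u23 t)⁻¹ * g).1 = !![2 * g.1 0 0, a, b; 0, t1, t2; 0, 0, (2 * g.1 0 0 * t1)] := by
    have e1 : u23 t * (s23 * (s23⁻¹ * (u23 t)⁻¹ * g)) = g := by group
    have e2 : (u23 t).1 * (s23.1 * (s23⁻¹ * (u23 t)⁻¹ * g).1) =
        X23 t * (S * !![2 * g.1 0 0, a, b; 0, t1, t2; 0, 0, (2 * g.1 0 0 * t1)]) := by
      rw [← hw]
      exact (congrArg Subtype.val e1 :)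
    have e3 : (u23 t)⁻¹.1 * (u23 t).1 = 1 := congrArg Subtype.val (inv_mul_cancel (u23 t))
    have e4 : (s23)⁻¹.1 * (s23).1 = 1 := congrArg Subtype.val (inv_mul_cancel s23)
    exact cancel e3 e4 e2
  have hm : s23⁻¹ * (u23 t)⁻¹ * g ∈ K := by
    apply upper_mem ka kb kc k1 k2 k3
    · rw [hU]; rfl
    · rw [hU]; rfl
    · rw [hU]; rfl
  have e1 : g = u23 t * (s23 * (s23⁻¹ * (u23 t)⁻¹ * g)) := by group
  rw [e1]
  exact K.mul_mem (u23_mem kc t) (K.mul_mem ks hm)

end Cfsg.Agent.H915.L33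
end

-- part: H915/L33Rep
section
/-!
# Modules of dimension 12 of `SL₃(3)`: the stabiliser of a point fixes a vector (helper915)
-/

set_option autoImplicit false
set_option linter.unusedSectionVars false

namespace Cfsg.Agent.H915.L33

open Module Matrix Cfsg.Agent.H915.Idem

variable {F : Type*} [Field F] {V : Type*} [AddCommGroup V] [Module F V] [FiniteDimensional F V]

theorem r_bb_c : x23 * (x13 * x13) = x13 * x13 * x23 := Subtype.ext (by decide +kernel)
theorem r_bb3 : x13 * x13 * (x13 * x13) * (x13 * x13) = 1 := Subtype.ext (by decide +kernel)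
theorem r_abb : x12 * (x13 * x13) = x13 * x13 * x12 := Subtype.ext (by decide +kernel)
theorem r_ca' : x23 * x12 = x12 * x23 * (x13 * x13) := Subtype.ext (by decide +kernel)
theorem r_h3bb : h3 * (x13 * x13) = x13 * x13 * (x13 * x13) * h3 := Subtype.ext (by decide +kernel)
theorem r_h1bb : h1 * (x13 * x13) = x13 * x13 * (x13 * x13) * h1 := Subtype.ext (by decide +kernel)
theorem r_tbb : s12 * (x13 * x13) = x23 * s12 := Subtype.ext (by decide +kernel)
theorem r_tc' : s12 * x23 = x13 * x13 * s12 := Subtype.ext (by decide +kernel)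

theorem full (ρ : G →* End F V) : Full (ρ x12) (ρ x13) (ρ x23) (ρ h1) (ρ h2) (ρ h3) (ρ s23) (ρ s12) (ρ g0) (ρ g0⁻¹) where
  H :=
    { ab := ⟨by simpa only [map_mul, map_one] using congrArg ρ r_a, by simpa only [map_mul, map_one] using congrArg ρ r_b,
        by simpa only [map_mul, map_one] using congrArg ρ r_ab⟩
      hc := by simpa only [map_mul, map_one] using congrArg ρ r_c
      cb := by simpa only [map_mul, map_one] using congrArg ρ r_cb
      ac := by simpa only [map_mul, map_one] using congrArg ρ r_ac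
      hh := by simpa only [map_mul, map_one] using congrArg ρ r_h11
      kk := by simpa only [map_mul, map_one] using congrArg ρ r_h33
      ha := by simpa only [map_mul, map_one] using congrArg ρ r_h1a
      hb := by simpa only [map_mul, map_one] using congrArg ρ r_h1b
      ka := by simpa only [map_mul, map_one] using congrArg ρ r_h3a
      kb := by simpa only [map_mul, map_one] using congrArg ρ r_h3b
      kc := by simpa only [map_mul, map_one] using congrArg ρ r_h3c
      ss := by simpa only [map_mul, map_one] using congrArg ρ r_ss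
      sa := by
        have h : ρ s23 * ρ x12 = ρ x13 * ρ x13 * ρ s23 := by simpa only [map_mul, map_one] using congrArg ρ r_sa
        have h3 : ρ x13 * ρ x13 * ρ x13 = 1 := by simpa only [map_mul, map_one] using congrArg ρ r_b
        rw [av_conj h, av_sq h3]
      sb := by
        have h : ρ s23 * ρ x13 = ρ x12 * ρ x12 * ρ s23 := by simpa only [map_mul, map_one] using congrArg ρ r_sb
        have h3 : ρ x12 * ρ x12 * ρ x12 = 1 := by simpa only [map_mul, map_one] using congrArg ρ r_a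
        rw [av_conj h, av_sq h3] }
  H' :=
    { ab := ⟨by simpa only [map_mul, map_one] using congrArg ρ r_c, by simpa only [map_mul, map_one] using congrArg ρ r_bb3,
        by simpa only [map_mul, map_one] using congrArg ρ r_bb_c⟩
      hc := by simpa only [map_mul, map_one] using congrArg ρ r_a
      cb := by simpa only [map_mul, map_one] using congrArg ρ r_abb
      ac := by simpa only [map_mul, map_one] using congrArg ρ r_ca'
      hh := by simpa only [map_mul, map_one] using congrArg ρ r_h33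
      kk := by simpa only [map_mul, map_one] using congrArg ρ r_h11
      ha := by simpa only [map_mul, map_one] using congrArg ρ r_h3c
      hb := by simpa only [map_mul, map_one] using congrArg ρ r_h3bb
      ka := by simpa only [map_mul, map_one] using congrArg ρ r_h1c
      kb := by simpa only [map_mul, map_one] using congrArg ρ r_h1bb
      kc := by simpa only [map_mul, map_one] using congrArg ρ r_h1a
      ss := by simpa only [map_mul, map_one] using congrArg ρ r_tt
      sa := by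
        have h : ρ s12 * ρ x23 = ρ x13 * ρ x13 * ρ s12 := by simpa only [map_mul, map_one] using congrArg ρ r_tc'
        rw [av_conj h]
      sb := by
        have h : ρ s12 * (ρ x13 * ρ x13) = ρ x23 * ρ s12 := by simpa only [map_mul, map_one] using congrArg ρ r_tbb
        rw [av_conj h] }
  h22 := by simpa only [map_mul, map_one] using congrArg ρ r_h22
  h12 := by simpa only [map_mul, map_one] using congrArg ρ r_h12
  h21 := by simpa only [map_mul, map_one] using congrArg ρ r_h21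
  h2a := by simpa only [map_mul, map_one] using congrArg ρ r_h2a
  h2b := by simpa only [map_mul, map_one] using congrArg ρ r_h2b
  h2c := by simpa only [map_mul, map_one] using congrArg ρ r_h2c
  h1c := by simpa only [map_mul, map_one] using congrArg ρ r_h1c
  sh1 := by simpa only [map_mul, map_one] using congrArg ρ r_sh1
  sh2 := by simpa only [map_mul, map_one] using congrArg ρ r_sh2
  sh3 := by simpa only [map_mul, map_one] using congrArg ρ r_sh3
  th1 := by simpa only [map_mul, map_one] using congrArg ρ r_th1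
  gg := by rw [← map_mul, inv_mul_cancel, map_one]
  gg' := by rw [← map_mul, mul_inv_cancel, map_one]
  sg := by simpa only [map_mul, map_one] using congrArg ρ r_sg
  ga := by
    have h : ρ g0 * ρ x12 = ρ x12 * ρ x13 * (ρ x12 * ρ x13) * ρ g0 := by
      simpa only [map_mul, map_one] using congrArg ρ r_ga
    have h1 : Pair (ρ x12) (ρ x13) := ⟨by simpa only [map_mul, map_one] using congrArg ρ r_a,
      by simpa only [map_mul, map_one] using congrArg ρ r_b, by simpa only [map_mul, map_one] using congrArg ρ r_ab⟩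
    rw [av_conj h, av_sq h1.hm]
  gb := by
    have h : ρ g0 * ρ x13 = ρ x12 * (ρ x13 * ρ x13) * (ρ x12 * (ρ x13 * ρ x13)) * ρ g0 := by
      simpa only [map_mul, map_one] using congrArg ρ r_gb
    have h1 : Pair (ρ x12) (ρ x13) := ⟨by simpa only [map_mul, map_one] using congrArg ρ r_a,
      by simpa only [map_mul, map_one] using congrArg ρ r_b, by simpa only [map_mul, map_one] using congrArg ρ r_ab⟩
    rw [av_conj h, av_sq h1.hn]
  scs := by simpa only [map_mul, map_one] using congrArg ρ r_scs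
  sccs := by simpa only [map_mul, map_one] using congrArg ρ r_sccs


theorem exists_fixed (n2 : (2 : F) ≠ 0) (n3 : (3 : F) ≠ 0) (h12 : finrank F V = 12) (ρ : G →* End F V)
    (hne : ρ x12 ≠ 1) (hne' : ρ x23 ≠ 1) :
    ∃ w : V, w ≠ 0 ∧ ∀ g : G, g.1 1 0 = 0 → g.1 2 0 = 0 → ρ g w = w := by
  obtain ⟨W, W0, wa, wb, wc, w1, w2, w3, ws⟩ := (full ρ).exists_fix n2 n3 h12 hne hne'
  obtain ⟨v, hv⟩ : ∃ v, W v ≠ 0 := by
    by_contra h
    push Not at h
    exact W0 (LinearMap.ext h)
  let K : Subgroup G :=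
    { carrier := {g | ρ g (W v) = W v}
      one_mem' := by
        change ρ 1 (W v) = W v
        rw [map_one]; rfl
      mul_mem' := by
        intro x y (hx : ρ x (W v) = W v) (hy : ρ y (W v) = W v)
        change ρ (x * y) (W v) = W v
        rw [map_mul]
        change ρ x (ρ y (W v)) = W v
        rw [hy, hx]
      inv_mem' := by
        intro x (hx : ρ x (W v) = W v)
        change ρ x⁻¹ (W v) = W v
        have h : ρ x⁻¹ (ρ x (W v)) = W v := by
          have h1 : ρ x⁻¹ * ρ x = 1 := by rw [← map_mul, inv_mul_cancel, map_one]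
          exact LinearMap.congr_fun h1 (W v)
        rwa [hx] at h }
  refine ⟨W v, hv, fun g h10 h20 => ?_⟩
  have hK : g ∈ K := point_mem (K := K) (LinearMap.congr_fun wa v) (LinearMap.congr_fun wb v)
    (LinearMap.congr_fun wc v) (LinearMap.congr_fun w1 v) (LinearMap.congr_fun w2 v) (LinearMap.congr_fun w3 v)
    (LinearMap.congr_fun ws v) g h10 h20
  exact hK

end Cfsg.Agent.H915.L33
end

-- part: H915/L33Sys
section
/-!
# Modules of dimension 12 of `SL₃(3)`: the 13 vectors (helper915)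
-/

set_option autoImplicit false
set_option linter.unusedSectionVars false

namespace Cfsg.Agent.H915.L33

open Module Matrix Cfsg.Agent.H915.Idem

abbrev X := Fin 3 → ZMod 3

def e1 : X := ![1, 0, 0]
def e2 : X := ![0, 1, 0]

/-- a matrix with a given first column -/
def col (a b c : ZMod 3) : Matrix (Fin 3) (Fin 3) (ZMod 3) :=
  if a ≠ 0 then !![a, 0, 0; b, a, 0; c, 0, 1] else if b ≠ 0 then !![0, -b, 0; b, 0, 0; c, 0, 1] else
    !![0, 0, -c; 0, 1, 0; c, 0, 0]

theorem col_det : ∀ a b c : ZMod 3, (a ≠ 0 ∨ b ≠ 0 ∨ c ≠ 0) → (col a b c).det = 1 := by (simp only [detL_eq_1e0e7]; decide +kernel)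

theorem col_first : ∀ a b c : ZMod 3, col a b c *ᵥ e1 = ![a, b, c] := by decide +kernel

theorem exists_mk (x : X) (hx : x ≠ 0) : ∃ g : G, g.1 *ᵥ e1 = x := by
  have h : x 0 ≠ 0 ∨ x 1 ≠ 0 ∨ x 2 ≠ 0 := by
    by_contra h
    push Not at h
    apply hx
    funext i
    fin_cases i
    · exact h.1
    · exact h.2.1
    · exact h.2.2
  refine ⟨⟨col (x 0) (x 1) (x 2), col_det _ _ _ h⟩, ?_⟩
  change col (x 0) (x 1) (x 2) *ᵥ e1 = x
  rw [col_first]
  funext i
  fin_cases i <;> rfl

/-- representatives of the 13 points -/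
def pt : Fin 13 → X :=
  ![![1, 0, 0], ![0, 1, 0], ![0, 0, 1], ![1, 1, 0], ![1, 2, 0], ![1, 0, 1], ![1, 0, 2], ![0, 1, 1], ![0, 1, 2],
    ![1, 1, 1], ![1, 1, 2], ![1, 2, 1], ![1, 2, 2]]

theorem pt_ne : ∀ i, pt i ≠ 0 := by decide +kernel

theorem pt_surj' : ∀ a b c : ZMod 3, (![a, b, c] : X) ≠ 0 → ∃ i, ![a, b, c] = pt i ∨ ![a, b, c] = -pt i := by decide +kernel

theorem eta (x : X) : x = ![x 0, x 1, x 2] := by
  funext i
  fin_cases i <;> rfl

theorem pt_surj (x : X) (hx : x ≠ 0) : ∃ i, x = pt i ∨ x = -pt i := by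
  have h := pt_surj' (x 0) (x 1) (x 2) (by rwa [← eta])
  rwa [← eta] at h

theorem pt_inj : ∀ i j, (pt i = pt j ∨ pt i = -pt j) → i = j := by decide +kernel

/-- `k` fixes `e₁` and moves `e₂` to a given vector -/
def kol (a b c : ZMod 3) : Matrix (Fin 3) (Fin 3) (ZMod 3) :=
  if b ≠ 0 then !![1, a, 0; 0, b, 0; 0, c, b] else !![1, a, 0; 0, 0, -c; 0, c, 0]

theorem kol_spec : ∀ a b c : ZMod 3, (b ≠ 0 ∨ c ≠ 0) → (kol a b c).det = 1 ∧ kol a b c *ᵥ e1 = e1 ∧
    kol a b c *ᵥ e2 = ![a, b, c] := by (simp only [detL_eq_1e0e7]; decide +kernel)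

theorem two_trans (x : X) (h0 : x ≠ 0) (h1 : x ≠ e1) (h2 : x ≠ -e1) : ∃ k : G, k.1 *ᵥ e1 = e1 ∧ k.1 *ᵥ e2 = x := by
  have key : ∀ a b c : ZMod 3, (![a, b, c] : X) ≠ 0 → (![a, b, c] : X) ≠ e1 → (![a, b, c] : X) ≠ -e1 →
    (b ≠ 0 ∨ c ≠ 0) := by decide +kernel
  have h := key (x 0) (x 1) (x 2) (by rwa [← eta]) (by rwa [← eta]) (by rwa [← eta])
  obtain ⟨d1, d2, d3⟩ := kol_spec (x 0) (x 1) (x 2) h
  rw [← eta] at d3
  exact ⟨⟨_, d1⟩, d2, d3⟩

/-- `kᵀ` moves `e₂` to a given vector `(0, b, c)`, and `k` fixes `e₁` -/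
def tol (b c : ZMod 3) : Matrix (Fin 3) (Fin 3) (ZMod 3) :=
  if b ≠ 0 then !![1, 0, 0; 0, b, c; 0, 0, b] else !![1, 0, 0; 0, 0, c; 0, -c, 0]

theorem tol_spec : ∀ b c : ZMod 3, (b ≠ 0 ∨ c ≠ 0) → (tol b c).det = 1 ∧ tol b c *ᵥ e1 = e1 ∧
    (tol b c)ᵀ *ᵥ e2 = ![0, b, c] := by (simp only [detL_eq_1e0e7]; decide +kernel)

/-- `kᵀ` moves `e₁` to a given vector `(a, b, c)`, `a ≠ 0`, and `k` fixes `⟨e₁⟩` -/
def sol (a b c : ZMod 3) : Matrix (Fin 3) (Fin 3) (ZMod 3) := !![a, b, c; 0, a, 0; 0, 0, 1]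

theorem sol_spec : ∀ a b c : ZMod 3, a ≠ 0 → (sol a b c).det = 1 ∧ (sol a b c *ᵥ e1 = e1 ∨ sol a b c *ᵥ e1 = -e1) ∧
    (sol a b c)ᵀ *ᵥ e1 = ![a, b, c] := by (simp only [detL_eq_1e0e7]; decide +kernel)

theorem perp_zero (x : X) (h0 : x ≠ 0) (h : x 0 = 0) : ∃ k : G, k.1 *ᵥ e1 = e1 ∧ k.1ᵀ *ᵥ e2 = x := by
  have key : ∀ b c : ZMod 3, (![0, b, c] : X) ≠ 0 → (b ≠ 0 ∨ c ≠ 0) := by decide
  have hx := eta x
  rw [h] at hx
  have h1 := key (x 1) (x 2) (by rwa [← hx])
  obtain ⟨d1, d2, d3⟩ := tol_spec (x 1) (x 2) h1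
  rw [← hx] at d3
  exact ⟨⟨_, d1⟩, d2, d3⟩

theorem perp_ne (x : X) (h : x 0 ≠ 0) : ∃ k : G, (k.1 *ᵥ e1 = e1 ∨ k.1 *ᵥ e1 = -e1) ∧ k.1ᵀ *ᵥ e1 = x := by
  obtain ⟨d1, d2, d3⟩ := sol_spec (x 0) (x 1) (x 2) h
  rw [← eta] at d3
  exact ⟨⟨_, d1⟩, d2, d3⟩

/-- counting the points of a line -/
theorem card_perp : ∀ i, (Finset.univ.filter fun j => pt i ⬝ᵥ pt j = 0).card = 4 := by decide +kernel

theorem first_col (g : G) (h : g.1 *ᵥ e1 = e1 ∨ g.1 *ᵥ e1 = -e1) : g.1 1 0 = 0 ∧ g.1 2 0 = 0 := by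
  have h1 : ∀ i, (g.1 *ᵥ e1) i = g.1 i 0 := by
    intro i
    simp only [Matrix.mulVec, dotProduct, Fin.sum_univ_three, e1, _root_.Fin.isValue, _root_.Matrix.cons_val_zero, _root_.mul_one, _root_.Matrix.cons_val_one, _root_.MulZeroClass.mul_zero, _root_.add_zero, _root_.Matrix.cons_val]
  rcases h with h | h
  · rw [← h1, ← h1, h]
    exact ⟨rfl, rfl⟩
  · rw [← h1, ← h1, h]
    exact ⟨by decide, by decide⟩

section rep

variable {F : Type*} [Field F] {V : Type*} [AddCommGroup V] [Module F V] [FiniteDimensional F V]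
variable (ρ : G →* End F V) (w : V) (hw : ∀ g : G, g.1 1 0 = 0 → g.1 2 0 = 0 → ρ g w = w)

theorem mul_ap (g h : G) (x : V) : ρ (g * h) x = ρ g (ρ h x) := by rw [map_mul]; rfl

theorem mulVec_mul' (g h : G) (x : X) : (g * h).1 *ᵥ x = g.1 *ᵥ (h.1 *ᵥ x) := by
  rw [Matrix.mulVec_mulVec]
  rfl

theorem inv_ap (g : G) (x : V) : ρ g⁻¹ (ρ g x) = x := by
  rw [← mul_ap, inv_mul_cancel, map_one]; rfl

theorem inv_mulVec' (g : G) (x : X) : (g⁻¹).1 *ᵥ (g.1 *ᵥ x) = x := by
  rw [← mulVec_mul', inv_mul_cancel]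
  exact Matrix.one_mulVec x

include hw in
theorem eq_of_col {m m' : G} (h : m.1 *ᵥ e1 = m'.1 *ᵥ e1 ∨ m.1 *ᵥ e1 = -(m'.1 *ᵥ e1)) : ρ m w = ρ m' w := by
  have h1 : (m'⁻¹ * m).1 *ᵥ e1 = e1 ∨ (m'⁻¹ * m).1 *ᵥ e1 = -e1 := by
    rw [mulVec_mul']
    rcases h with h | h
    · left; rw [h, inv_mulVec']
    · right; rw [h, Matrix.mulVec_neg, inv_mulVec']
  obtain ⟨h2, h3⟩ := first_col _ h1
  have h4 := hw _ h2 h3
  have h5 : m = m' * (m'⁻¹ * m) := by group
  calc ρ m w = ρ (m' * (m'⁻¹ * m)) w := by rw [← h5]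
    _ = ρ m' w := by rw [mul_ap, h4]

open Classical in
/-- the vectors -/
noncomputable def vv (x : X) : V := if h : x = 0 then 0 else ρ (Classical.choose (exists_mk x h)) w

theorem vv_zero : vv ρ w 0 = 0 := dif_pos rfl

include hw in
theorem vv_eq {x : X} {m : G} (h : m.1 *ᵥ e1 = x ∨ m.1 *ᵥ e1 = -x) : vv ρ w x = ρ m w := by
  have hx : x ≠ 0 := by
    rintro rfl
    have h1 : m.1 *ᵥ e1 = 0 := by
      rcases h with h | h
      · exact h
      · rw [h, neg_zero]
    have h2 := inv_mulVec' m e1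
    rw [h1, Matrix.mulVec_zero] at h2
    exact absurd h2 (by decide)
  unfold vv
  rw [dif_neg hx]
  have h3 := Classical.choose_spec (exists_mk x hx)
  apply eq_of_col ρ w hw
  rw [h3]
  rcases h with h | h
  · left; exact h.symm
  · right; rw [h, neg_neg]

theorem mulVec_ne (g : G) {x : X} (h : x ≠ 0) : g.1 *ᵥ x ≠ 0 := by
  intro h1
  have h2 := inv_mulVec' g x
  rw [h1, Matrix.mulVec_zero] at h2
  exact h h2.symm

include hw in
theorem vv_smul (g : G) (x : X) : ρ g (vv ρ w x) = vv ρ w (g.1 *ᵥ x) := by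
  by_cases hx : x = 0
  · rw [hx, Matrix.mulVec_zero, vv_zero, map_zero]
  obtain ⟨m, hm⟩ := exists_mk x hx
  rw [vv_eq ρ w hw (Or.inl hm), vv_eq ρ w hw (x := g.1 *ᵥ x) (m := g * m) (Or.inl (by rw [mulVec_mul', hm])), mul_ap]

include hw in
theorem vv_neg (x : X) : vv ρ w (-x) = vv ρ w x := by
  by_cases hx : x = 0
  · rw [hx, neg_zero]
  obtain ⟨m, hm⟩ := exists_mk x hx
  rw [vv_eq ρ w hw (Or.inl hm), vv_eq ρ w hw (x := -x) (m := m) (Or.inr (by rw [hm, neg_neg]))]

include hw in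
theorem vv_e1 : vv ρ w e1 = w := by
  rw [vv_eq ρ w hw (m := 1) (Or.inl (Matrix.one_mulVec _)), map_one]; rfl

/-- the 27 vectors -/
def all27 : Option (Fin 13 × Bool) → X := fun o => match o with
  | none => 0
  | some (i, b) => if b then pt i else -pt i

theorem all27_inj : Function.Injective all27 := by
  intro o o' h
  rcases o with _ | ⟨i, b⟩ <;> rcases o' with _ | ⟨j, c⟩
  · rfl
  · exfalso
    cases c
    · exact pt_ne j (neg_eq_zero.1 h.symm)
    · exact pt_ne j h.symm
  · exfalso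
    cases b
    · exact pt_ne i (neg_eq_zero.1 h)
    · exact pt_ne i h
  · have hij : i = j := by
      apply pt_inj
      cases b <;> cases c
      · left; exact neg_injective h
      · right
        have h' : -pt i = pt j := h
        rw [← h', neg_neg]
      · right; exact h
      · left; exact h
    subst hij
    have h2 : ∀ i, pt i ≠ -pt i := by decide +kernel
    cases b <;> cases c
    · rfl
    · exact absurd (show -pt i = pt i from h).symm (h2 i)
    · exact absurd (show pt i = -pt i from h) (h2 i)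
    · rfl

theorem all27_bij : Function.Bijective all27 := by
  refine ⟨all27_inj, fun x => ?_⟩
  by_cases hx : x = 0
  · exact ⟨none, hx.symm⟩
  · obtain ⟨i, h | h⟩ := pt_surj x hx
    · exact ⟨some (i, true), h.symm⟩
    · exact ⟨some (i, false), h.symm⟩

include hw in
theorem sum_all : ∑ x : X, vv ρ w x = (2 : F) • ∑ i, vv ρ w (pt i) := by
  rw [← Function.Bijective.sum_comp all27_bij, Fintype.sum_option, Fintype.sum_prod_type]
  have h1 : vv ρ w (all27 none) = 0 := vv_zero ρ w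
  rw [h1, zero_add, Finset.smul_sum]
  apply Finset.sum_congr rfl
  intro i _
  rw [Fintype.sum_bool]
  have h2 : all27 (some (i, false)) = -pt i := rfl
  have h3 : all27 (some (i, true)) = pt i := rfl
  rw [h2, h3, vv_neg ρ w hw]
  module

variable (hirr : ∀ W : Submodule F V, (∀ g : G, ∀ v ∈ W, ρ g v ∈ W) → W = ⊥ ∨ W = ⊤) (hne : ρ x12 ≠ 1)

include hirr hne in
theorem fix_zero {v : V} (h : ∀ g : G, ρ g v = v) : v = 0 := by
  let W : Submodule F V :=
    { carrier := {v | ∀ g : G, ρ g v = v}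
      zero_mem' := fun g => map_zero _
      add_mem' := fun {a b} ha hb g => by rw [map_add, ha, hb]
      smul_mem' := fun c a ha g => by rw [map_smul, ha] }
  rcases hirr W (fun g v hv k => by rw [hv g, hv k]) with h1 | h1
  · have h2 : v ∈ W := h
    rw [h1] at h2
    exact (Submodule.mem_bot F).1 h2
  · exfalso
    apply hne
    ext x
    have h2 : x ∈ W := by rw [h1]; trivial
    exact h2 x12

include hw hirr hne in
theorem sum_zero (n2 : (2 : F) ≠ 0) : ∑ i, vv ρ w (pt i) = 0 := by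
  have h1 : ∑ x : X, vv ρ w x = 0 := by
    apply fix_zero ρ hirr hne
    intro g
    rw [map_sum]
    have h2 : ∀ x, ρ g (vv ρ w x) = vv ρ w (g.1 *ᵥ x) := vv_smul ρ w hw g
    simp only [h2]
    have hbij : Function.Bijective (fun x : X => g.1 *ᵥ x) := by
      apply Finite.injective_iff_bijective.1
      intro x y h
      have h3 := congrArg (fun z => (g⁻¹).1 *ᵥ z) h
      simpa only [inv_mulVec'] using h3
    exact Function.Bijective.sum_comp hbij (fun x => vv ρ w x)
  rw [sum_all ρ w hw] at h1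
  exact (smul_eq_zero.1 h1).resolve_left n2

include hw hirr in
theorem span_top (hw0 : w ≠ 0) : Submodule.span F (Set.range fun i => vv ρ w (pt i)) = ⊤ := by
  rcases hirr (Submodule.span F (Set.range fun i => vv ρ w (pt i))) (by
    intro g v hv
    induction hv using Submodule.span_induction with
    | mem v hv =>
      obtain ⟨i, rfl⟩ := hv
      simp only
      rw [vv_smul ρ w hw]
      obtain ⟨j, h | h⟩ := pt_surj _ (mulVec_ne g (pt_ne i))
      · rw [h]; exact Submodule.subset_span ⟨j, rfl⟩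
      · rw [h, vv_neg ρ w hw]; exact Submodule.subset_span ⟨j, rfl⟩
    | zero => rw [map_zero]; exact Submodule.zero_mem _
    | add a b _ _ ha hb => rw [map_add]; exact Submodule.add_mem _ ha hb
    | smul c a _ ha => rw [map_smul]; exact Submodule.smul_mem _ _ ha) with h | h
  · exfalso
    apply hw0
    have h1 : vv ρ w (pt 0) ∈ (⊥ : Submodule F V) := by rw [← h]; exact Submodule.subset_span ⟨0, rfl⟩
    have h2 : vv ρ w (pt 0) = 0 := (Submodule.mem_bot F).1 h1
    have h3 : pt 0 = e1 := rfl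
    rw [h3, vv_e1 ρ w hw] at h2
    exact h2
  · exact h

include hw hirr hne in
/-- **the vector system** -/
theorem sys (n2 : (2 : F) ≠ 0) (h12 : finrank F V = 12) (hw0 : w ≠ 0) :
    Cfsg.Agent.H882.Del.Sys F (fun i => vv ρ w (pt i)) where
  span := span_top ρ w hw hirr hw0
  card := by rw [h12]; rfl
  pos := by rw [h12]; norm_num
  sum := sum_zero ρ w hw hirr hne n2

end rep

end Cfsg.Agent.H915.L33
end

private theorem dce_1e0e7ebc24e0 : _root_.True := by
  try have : _root_.True := by simp only [_root_.Cfsg.Agent.H915.L33.e1.eq_1]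
  exact _root_.True.intro
end

-- part: H915/L33Core
section
prune_inst 0x1004400386200000800051012002000480000000040080080000b00024160000004004012000000008280004009006001000000422000000a000c00000000000080020020400000000016800080000000000000000000000000000000000000000000000
set_option linter.all false
open scoped Cfsg.Agent.FastGrp

-- part: H915/L33Form
section
/-!
# Modules of dimension 12 of `SL₃(3)`: the invariant form and the graph automorphism (helper915)
-/

set_option autoImplicit false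
set_option linter.unusedSectionVars false

namespace Cfsg.Agent.H915.L33

open Module Matrix Cfsg.Agent.H915.Idem

variable {F : Type*} [Field F] {V : Type*} [AddCommGroup V] [Module F V] [FiniteDimensional F V]

/-- a vector fixed by the stabiliser of a point in an irreducible module of dimension 12 -/
structure Data (ρ : G →* End F V) (w : V) : Prop where
  n2 : (2 : F) ≠ 0
  n3 : (3 : F) ≠ 0
  dim : finrank F V = 12
  hw : ∀ g : G, g.1 1 0 = 0 → g.1 2 0 = 0 → ρ g w = w
  w0 : w ≠ 0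
  irr : ∀ W : Submodule F V, (∀ g : G, ∀ v ∈ W, ρ g v ∈ W) → W = ⊥ ∨ W = ⊤
  ne : ρ x12 ≠ 1

namespace Data

variable {ρ : G →* End F V} {w : V} (T : Data ρ w)

/-- the 13 vectors -/
noncomputable def u (_ : Data ρ w) (i : Fin 13) : V := vv ρ w (pt i)

theorem sys : Cfsg.Agent.H882.Del.Sys F T.u := L33.sys ρ w T.hw T.irr T.ne T.n2 T.dim T.w0

theorem ext {Y : Type*} [AddCommGroup Y] [Module F Y] {f g : V →ₗ[F] Y} (h : ∀ i, f (T.u i) = g (T.u i)) : f = g :=
  T.sys.ext h

include T in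
theorem n12 : (12 : F) ≠ 0 := by
  have : (12 : F) = 2 * 2 * 3 := by norm_num
  rw [this]
  exact mul_ne_zero (mul_ne_zero T.n2 T.n2) T.n3

variable {B : LinearMap.BilinForm F V} (hB : ∀ (g : G) (x y : V), B (ρ g x) (ρ g y) = B x y)

include T hB in
theorem B_ne {x y : X} (hx : x ≠ 0) (hy : y ≠ 0) (h1 : y ≠ x) (h2 : y ≠ -x) :
    B (vv ρ w x) (vv ρ w y) = B (vv ρ w e1) (vv ρ w e2) := by
  obtain ⟨m, hm⟩ := exists_mk x hx
  obtain ⟨k, k1, k2⟩ := two_trans ((m⁻¹).1 *ᵥ y) (mulVec_ne _ hy) (by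
    intro h
    apply h1
    have h3 := congrArg (fun z => m.1 *ᵥ z) h
    simp only [← mulVec_mul', mul_inv_cancel] at h3
    rw [← hm, ← h3]
    exact (Matrix.one_mulVec y).symm) (by
    intro h
    apply h2
    have h3 := congrArg (fun z => m.1 *ᵥ z) h
    simp only [← mulVec_mul', mul_inv_cancel, Matrix.mulVec_neg] at h3
    rw [← hm, ← h3]
    exact (Matrix.one_mulVec y).symm)
  have e3 : x = (m * k).1 *ᵥ e1 := by rw [mulVec_mul', k1, hm]
  have e4 : y = (m * k).1 *ᵥ e2 := by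
    rw [mulVec_mul', k2, ← mulVec_mul', mul_inv_cancel]
    exact (Matrix.one_mulVec y).symm
  rw [e3, e4, ← vv_smul ρ w T.hw, ← vv_smul ρ w T.hw, hB]

include T hB in
theorem B_eq {x : X} (hx : x ≠ 0) : B (vv ρ w x) (vv ρ w x) = B (vv ρ w e1) (vv ρ w e1) := by
  obtain ⟨m, hm⟩ := exists_mk x hx
  rw [← hm, ← vv_smul ρ w T.hw, hB]

include hB in
/-- **the Gram matrix of the 13 vectors** -/
theorem gram : ∃ b : F, ∀ i j, B (T.u i) (T.u j) = b * (1 - 13 * if i = j then 1 else 0) := by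
  have h1 : ∀ i j, i ≠ j → B (T.u i) (T.u j) = B (vv ρ w e1) (vv ρ w e2) := by
    intro i j hij
    exact T.B_ne hB (pt_ne i) (pt_ne j) (fun h => hij (pt_inj i j (Or.inl h.symm)))
      (fun h => hij (pt_inj j i (Or.inr h)).symm)
  have h2 : ∀ i, B (T.u i) (T.u i) = B (vv ρ w e1) (vv ρ w e1) := fun i => T.B_eq hB (pt_ne i)
  have h3 : B (vv ρ w e1) (vv ρ w e1) + 12 * B (vv ρ w e1) (vv ρ w e2) = 0 := by
    have h4 : B (T.u 0) (∑ j, T.u j) = 0 := by rw [T.sys.sum, map_zero]
    rw [map_sum, Fin.sum_univ_succ, h2] at h4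
    have h5 : ∑ i : Fin 12, B (T.u 0) (T.u i.succ) = 12 * B (vv ρ w e1) (vv ρ w e2) := by
      rw [Finset.sum_congr rfl (fun i _ => h1 0 i.succ (Fin.succ_ne_zero i).symm), Finset.sum_const, Finset.card_univ,
        Fintype.card_fin, nsmul_eq_mul]
      norm_num
    rw [h5] at h4
    exact h4
  refine ⟨B (vv ρ w e1) (vv ρ w e2), fun i j => ?_⟩
  by_cases hij : i = j
  · subst hij
    rw [if_pos rfl, h2]
    linear_combination h3
  · rw [if_neg hij, h1 i j hij]
    ring

/-! ### the graph automorphism -/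

variable {h : End F V} (hh : ∀ (g : G) (x : V), h (ρ g x) = ρ ((g⁻¹).transpose) (h x))
  (hiso : ∀ x y, B (h x) (h y) = B x y)

include T hB hh in
theorem f_move (g : G) (x y : X) : B (h (vv ρ w (g.1 *ᵥ x))) (vv ρ w y) = B (h (vv ρ w x)) (vv ρ w (g.1ᵀ *ᵥ y)) := by
  rw [← vv_smul ρ w T.hw, hh]
  have h1 : vv ρ w y = ρ ((g⁻¹).transpose) (vv ρ w (g.1ᵀ *ᵥ y)) := by
    rw [vv_smul ρ w T.hw]
    congr 1
    have h2 : ((g⁻¹).transpose : G).1 *ᵥ (g.1ᵀ *ᵥ y) = y := by
      rw [Matrix.mulVec_mulVec]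
      have h3 : ((g⁻¹).transpose : G).1 * g.1ᵀ = 1 := by
        change (g⁻¹).1ᵀ * g.1ᵀ = 1
        rw [← Matrix.transpose_mul]
        have h4 : g.1 * (g⁻¹).1 = 1 := (congrArg Subtype.val (mul_inv_cancel g) :)
        rw [h4, Matrix.transpose_one]
      rw [h3, Matrix.one_mulVec]
    exact h2.symm
  rw [h1, hB]

theorem dot_zero (x : X) (g : G) (h1 : g.1 *ᵥ e1 = x) (y : X) : x ⬝ᵥ y = (g.1ᵀ *ᵥ y) 0 := by
  rw [← h1]
  have h2 : (g.1 *ᵥ e1) ⬝ᵥ y = e1 ⬝ᵥ (g.1ᵀ *ᵥ y) := by
    rw [Matrix.dotProduct_mulVec, Matrix.vecMul_transpose]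
  rw [h2]
  simp [dotProduct, Fin.sum_univ_three, e1]

include T hB hh in
theorem f_eq {x y : X} (hx : x ≠ 0) (hy : y ≠ 0) : B (h (vv ρ w x)) (vv ρ w y) =
    if x ⬝ᵥ y = 0 then B (h (vv ρ w e1)) (vv ρ w e2) else B (h (vv ρ w e1)) (vv ρ w e1) := by
  obtain ⟨m, hm⟩ := exists_mk x hx
  rw [dot_zero x m hm y, ← hm, T.f_move hB hh]
  have hz : m.1ᵀ *ᵥ y ≠ 0 := by
    intro h1
    have h2 := mulVec_ne (m.transpose) hy
    exact h2 h1
  set z := m.1ᵀ *ᵥ y
  by_cases h0 : z 0 = 0
  · rw [if_pos h0]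
    obtain ⟨k, k1, k2⟩ := perp_zero z hz h0
    rw [← k2, ← T.f_move hB hh, k1]
  · rw [if_neg h0]
    obtain ⟨k, k1, k2⟩ := perp_ne z h0
    rw [← k2, ← T.f_move hB hh]
    rcases k1 with k1 | k1
    · rw [k1]
    · rw [k1, vv_neg ρ w T.hw]

end Data

end Cfsg.Agent.H915.L33
end

-- part: H915/L33Polar
section
/-!
# Modules of dimension 12 of `SL₃(3)`: the action of the graph automorphism (helper915)
-/

set_option autoImplicit false
set_option linter.unusedSectionVars false

namespace Cfsg.Agent.H915.L33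

open Module Matrix Cfsg.Agent.H915.Idem

variable {F : Type*} [Field F] {V : Type*} [AddCommGroup V] [Module F V] [FiniteDimensional F V]

/-- the polarity -/
def inc (i j : Fin 13) : ℕ := if pt i ⬝ᵥ pt j = 0 then 1 else 0

theorem inc_symm (i j : Fin 13) : inc i j = inc j i := by
  unfold inc
  rw [dotProduct_comm]

theorem sum_inc (i : Fin 13) : ∑ j, inc i j = 4 := by
  have h := card_perp i
  rw [Finset.card_filter] at h
  exact h

namespace Data

variable {ρ : G →* End F V} {w : V} (T : Data ρ w)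

variable {B : LinearMap.BilinForm F V} (hB : ∀ (g : G) (x y : V), B (ρ g x) (ρ g y) = B x y)
  (hsym : ∀ x y, B x y = B y x) (hnd : ∀ x, (∀ y, B x y = 0) → x = 0)

include hnd in
theorem eq_of_B {x y : V} (h : ∀ i, B x (T.u i) = B y (T.u i)) : x = y := by
  have h1 : x - y = 0 := by
    apply hnd
    have h2 : B (x - y) = 0 := T.ext (fun i => by rw [map_sub, LinearMap.sub_apply, h, sub_self, LinearMap.zero_apply])
    intro z
    rw [h2, LinearMap.zero_apply]
  exact sub_eq_zero.1 h1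

variable {h : End F V} (hh : ∀ (g : G) (x : V), h (ρ g x) = ρ ((g⁻¹).transpose) (h x))
  (hiso : ∀ x y, B (h x) (h y) = B x y)

include hB hsym hnd hh hiso in
theorem polar : ∃ b l : F, b ≠ 0 ∧ 3 * (l * l) = 1 ∧
    (∀ i j, B (T.u i) (T.u j) = b * (1 - 13 * if i = j then 1 else 0)) ∧
    (∀ i, h (T.u i) = l • ∑ j, (inc i j : F) • T.u j) ∧ ∀ x, h (h x) = x := by
  obtain ⟨b, hb⟩ := T.gram hB
  have b0 : b ≠ 0 := by
    rintro rfl
    apply T.sys.ne_zero 0
    apply T.eq_of_B hnd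
    intro i
    rw [hb, map_zero, LinearMap.zero_apply, zero_mul]
  obtain ⟨α, hα⟩ : ∃ α, α = B (h (vv ρ w e1)) (vv ρ w e2) := ⟨_, rfl⟩
  obtain ⟨β, hβ⟩ : ∃ β, β = B (h (vv ρ w e1)) (vv ρ w e1) := ⟨_, rfl⟩
  have hf : ∀ i j, B (h (T.u i)) (T.u j) = β + (α - β) * inc i j := by
    intro i j
    have h1 := T.f_eq hB hh (pt_ne i) (pt_ne j)
    rw [← hα, ← hβ] at h1
    change B (h (vv ρ w (pt i))) (vv ρ w (pt j)) = _
    rw [h1]
    unfold inc
    split_ifs
    · push_cast; ring
    · push_cast; ring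
  have hsum : ∀ i, ∑ j, (inc i j : F) = 4 := by
    intro i
    have h1 := congrArg (Nat.cast : ℕ → F) (sum_inc i)
    rw [Nat.cast_sum] at h1
    exact h1
  have hαβ : 4 * α + 9 * β = 0 := by
    have h4 : B (h (T.u 0)) (∑ j, T.u j) = 0 := by rw [T.sys.sum, map_zero]
    rw [map_sum, Finset.sum_congr rfl (fun j _ => hf 0 j), Finset.sum_add_distrib, ← Finset.mul_sum, hsum,
      Finset.sum_const, Finset.card_univ, Fintype.card_fin, nsmul_eq_mul] at h4
    push_cast at h4
    linear_combination h4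
  have hsa : ∀ x y, B (h x) y = B x (h y) := by
    have h1 : B ∘ₗ h = B.compl₂ h := T.ext (fun i => T.ext (fun j => by
      rw [LinearMap.comp_apply, LinearMap.compl₂_apply, hf, hsym (T.u i) (h (T.u j)), hf, inc_symm]))
    intro x y
    exact LinearMap.congr_fun (LinearMap.congr_fun h1 x) y
  have hhh : ∀ x, h (h x) = x := by
    intro x
    apply T.eq_of_B hnd
    intro i
    rw [hsa, hiso]
  have n9 : (9 : F) ≠ 0 := by
    have : (9 : F) = 3 * 3 := by norm_num
    rw [this]; exact mul_ne_zero T.n3 T.n3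
  obtain ⟨l, hl⟩ : ∃ l : F, l = -α / (9 * b) := ⟨_, rfl⟩
  have hl' : 9 * b * l = -α := by
    rw [hl]
    field_simp
  have hβ' : β = 4 * b * l := by
    have e : 9 * (β - 4 * b * l) = 0 := by linear_combination hαβ - 4 * hl'
    exact sub_eq_zero.1 ((mul_eq_zero.1 e).resolve_left n9)
  have hu : ∀ i, h (T.u i) = l • ∑ j, (inc i j : F) • T.u j := by
    intro i
    apply T.eq_of_B hnd
    intro k
    rw [hf, map_smul, LinearMap.smul_apply, map_sum, LinearMap.sum_apply, smul_eq_mul]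
    have h1 : ∀ j, B ((inc i j : F) • T.u j) (T.u k) = b * inc i j - 13 * b * if j = k then (inc i j : F) else 0 := by
      intro j
      rw [map_smul, LinearMap.smul_apply, hb, smul_eq_mul]
      split_ifs <;> ring
    rw [Finset.sum_congr rfl (fun j _ => h1 j), Finset.sum_sub_distrib, ← Finset.mul_sum, ← Finset.mul_sum, hsum,
      Finset.sum_ite_eq' Finset.univ k, if_pos (Finset.mem_univ k), hβ']
    linear_combination (inc i k : F) * hl'
  refine ⟨b, l, b0, ?_, hb, hu, hhh⟩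
  have h1 : B (h (T.u 0)) (h (T.u 0)) = b * (1 - 13) := by
    rw [hiso, hb, if_pos rfl, mul_one]
  have h2 : B (l • ∑ j, (inc 0 j : F) • T.u j) (h (T.u 0)) = l * (4 * α) := by
    rw [map_smul, LinearMap.smul_apply, map_sum, LinearMap.sum_apply, smul_eq_mul]
    congr 1
    have h3 : ∀ j, B ((inc 0 j : F) • T.u j) (h (T.u 0)) = α * inc 0 j := by
      intro j
      rw [map_smul, LinearMap.smul_apply, hsym, hf, smul_eq_mul]
      unfold inc
      split_ifs
      · push_cast; ring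
      · push_cast; ring
    rw [Finset.sum_congr rfl (fun j _ => h3 j), ← Finset.mul_sum, hsum, mul_comm]
  rw [← hu 0, h1] at h2
  have e : (12 * b) * (3 * (l * l) - 1) = 0 := by linear_combination h2 + (4 * l) * hl'
  have h5 := (mul_eq_zero.1 e).resolve_left (mul_ne_zero T.n12 b0)
  exact sub_eq_zero.1 h5

end Data

end Cfsg.Agent.H915.L33
end

-- part: H915/L33Eig
section
/-!
# Modules of dimension 12 of `SL₃(3)`: the eigenvectors of the graph automorphism (helper915)
-/

set_option autoImplicit false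
set_option linter.unusedSectionVars false

namespace Cfsg.Agent.H915.L33

open Module Matrix Cfsg.Agent.H915.Idem

/-- neighbours -/
def nb : Fin 13 → Fin 4 → Fin 13 :=
  ![![1, 2, 7, 8], ![0, 2, 5, 6], ![0, 1, 3, 4], ![2, 4, 11, 12], ![2, 3, 9, 10], ![1, 6, 10, 12], ![1, 5, 9, 11],
    ![0, 8, 10, 11], ![0, 7, 9, 12], ![9, 4, 6, 8], ![10, 4, 5, 7], ![11, 3, 6, 7], ![12, 3, 5, 8]]

set_option maxRecDepth 100000 in
theorem inc_nb : ∀ i j, inc i j = ∑ t, if nb j t = i then 1 else 0 := by decide +kernel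

section field

variable {F : Type*} [Field F]

theorem sum_mul_inc (f : Fin 13 → F) (j : Fin 13) :
    ∑ i, f i * (inc i j : F) = f (nb j 0) + f (nb j 1) + f (nb j 2) + f (nb j 3) := by
  have h1 : ∀ i, f i * (inc i j : F) = ∑ t, if nb j t = i then f i else 0 := by
    intro i
    rw [inc_nb, Nat.cast_sum, Finset.mul_sum]
    apply Finset.sum_congr rfl
    intro t _
    split_ifs <;> simp only [_root_.Nat.cast_one, _root_.mul_one, _root_.Nat.cast_zero, _root_.MulZeroClass.mul_zero]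
  rw [Finset.sum_congr rfl (fun i _ => h1 i), Finset.sum_comm]
  have h2 : ∀ t, (∑ i, if nb j t = i then f i else 0) = f (nb j t) := by
    intro t
    rw [Finset.sum_ite_eq Finset.univ (nb j t) f, if_pos (Finset.mem_univ _)]
  rw [Finset.sum_congr rfl (fun t _ => h2 t)]
  rw [Fin.sum_univ_four]

/-- coefficients of the eigenvectors -/
def C (l : F) : Fin 6 → Fin 13 → F :=
  ![![0, 0, 0, 1 + l, -(1 + l), 0, 0, 0, 0, l, l, -l, -l],
    ![0, 0, 0, 0, 0, 1 + l, -(1 + l), 0, 0, l, -l, l, -l],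
    ![0, 0, 0, 0, 0, 0, 0, 1 + l, -(1 + l), l, -l, -l, l],
    ![l, l, l, 1 + 2 * l, 1 + 2 * l, 1 + 2 * l, 1 + 2 * l, 1 + 2 * l, 1 + 2 * l, 0, 0, 0, 0],
    ![-2 * l, 2 * l, 0, 0, 0, -(1 - l), -(1 - l), 1 - l, 1 - l, 0, 0, 0, 0],
    ![-2 * l, -2 * l, 4 * l, -2 * (1 - l), -2 * (1 - l), 1 - l, 1 - l, 1 - l, 1 - l, 0, 0, 0, 0]]

def κ (l : F) : Fin 6 → F := ![0, 0, 0, 2 + 3 * l, 0, 0]

theorem C_eig {l : F} (hl : 3 * (l * l) = 1) (k : Fin 6) (j : Fin 13) :
    l * ∑ i, C l k i * (inc i j : F) + C l k j = κ l k := by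
  rw [sum_mul_inc]
  (revert k j; simp only [C, κ, nb, _root_.Fin.forall_fin_succ, _root_.neg_add_rev, _root_.neg_mul, _root_.neg_sub, Fin.isValue, _root_.Matrix.cons_val', _root_.Matrix.cons_val_zero, _root_.Matrix.cons_val_fin_one, _root_.Matrix.cons_val_one, _root_.Matrix.cons_val, _root_.Matrix.cons_val_succ, _root_.forall_const, _root_.add_zero, _root_.MulZeroClass.mul_zero, _root_.zero_add, _root_.add_add_neg_add_cancel, _root_.add_neg_cancel, _root_.add_neg_cancel_left, _root_.mul_neg, _root_.mul_one, _root_.neg_add_cancel, _root_.neg_add_cancel_comm_assoc, _root_.and_self, _root_.and_true, _root_.true_and, _root_.and_self_left, _root_.sub_add_sub_cancel, _root_.sub_self, _root_.mul_eq_zero]) <;> (repeat' with_reducible apply And.intro) <;>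
    [linear_combination -hl; linear_combination hl; linear_combination 2 * hl; linear_combination hl; linear_combination 2 * hl; ring1; ring1;
     linear_combination hl; linear_combination -hl; ring1; ring1; linear_combination 2 * hl; linear_combination -hl; (right; ring1)]

def N (l : F) : Fin 6 → F :=
  ![-52 * (1 + l), -52 * (1 + l), -52 * (1 + l), -84 - 132 * l, -104 * (1 - l), -312 * (1 - l)]

theorem C_gram {l : F} (hl : 3 * (l * l) = 1) (k m : Fin 6) :
    (∑ i, C l k i) * (∑ i, C l m i) - 13 * ∑ i, C l k i * C l m i = if k = m then N l k else 0 := by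
  (revert k m; simp only [C, N, Fin.sum_univ_succ, _root_.Fin.forall_fin_succ, _root_.neg_add_rev, _root_.neg_mul, _root_.neg_sub, _root_.Matrix.cons_val', _root_.Matrix.cons_val_fin_one, Fin.isValue, _root_.Matrix.cons_val_zero, _root_.Matrix.cons_val_succ, _root_.Finset.univ_unique, _root_.Fin.default_eq_zero, _root_.Finset.sum_const, _root_.Finset.card_singleton, _root_.one_smul, _root_.add_neg_cancel_comm_assoc, _root_.add_neg_cancel, _root_.add_zero, _root_.add_add_neg_add_cancel, _root_.MulZeroClass.mul_zero, _root_.mul_neg, _root_.zero_add, _root_.zero_sub, _root_.Fin.succ_zero_eq_one, _root_.neg_add_cancel, _root_.Fin.succ_one_eq_two, Fin.reduceSucc, _root_.neg_add_cancel_left, _root_.IsEmpty.forall_iff, _root_.and_true, _root_.neg_neg, ↓reduceIte, _root_.neg_inj, _root_.MulZeroClass.zero_mul, _root_.neg_zero, _root_.zero_ne_one, Fin.reduceEq, _root_.neg_eq_zero, _root_.mul_eq_zero, _root_.sub_self, _root_.true_and, _root_.Fin.succ_ne_zero, _root_.or_true,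 _root_.add_neg_cancel_left, _root_.and_self, _root_.and_self_left]) <;> (repeat' with_reducible apply And.intro) <;>
    [linear_combination 26 * hl; (right; ring1); (right; ring1); linear_combination 26 * hl; (right; ring1); (right; ring1); (right; ring1);
     linear_combination 26 * hl; (right; ring1); (right; ring1); (right; ring1); linear_combination (-42) * hl; ring1; ring1; (right; ring1);
     (right; ring1); ring1; linear_combination (-52) * hl; ring1; (right; ring1); (right; ring1); ring1; ring1; linear_combination (-156) * hl]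

end field

namespace Data

variable {F : Type*} [Field F] {V : Type*} [AddCommGroup V] [Module F V] [FiniteDimensional F V]
variable {ρ : G →* End F V} {w : V} (T : Data ρ w)

/-- the eigenvectors -/
noncomputable def E (l : F) (k : Fin 6) : V := ∑ i, C l k i • T.u i

variable {B : LinearMap.BilinForm F V} {h : End F V}

theorem h_E {l m : F} (hu : ∀ i, h (T.u i) = m • ∑ j, (inc i j : F) • T.u j) {ε : F}
    (hm : ε * l = m) (hε : ε * ε = 1) (hl : 3 * (l * l) = 1) (k : Fin 6) : h (T.E l k) = (-ε) • T.E l k := by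
  have h1 : h (T.E l k) = ∑ j, (m * ∑ i, C l k i * (inc i j : F)) • T.u j := by
    unfold E
    rw [map_sum]
    have h2 : ∀ i, h (C l k i • T.u i) = ∑ j, (m * (C l k i * (inc i j : F))) • T.u j := by
      intro i
      rw [map_smul, hu, Finset.smul_sum, Finset.smul_sum]
      apply Finset.sum_congr rfl
      intro j _
      rw [smul_smul, smul_smul]
      congr 1
      ring
    rw [Finset.sum_congr rfl (fun i _ => h2 i), Finset.sum_comm]
    apply Finset.sum_congr rfl
    intro j _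
    rw [← Finset.sum_smul, ← Finset.mul_sum]
  have h3 : ∀ j, (m * ∑ i, C l k i * (inc i j : F)) • T.u j = (ε * κ l k) • T.u j - (ε * C l k j) • T.u j := by
    intro j
    rw [← sub_smul]
    congr 1
    have h4 := C_eig hl k j
    rw [← hm]
    linear_combination ε * h4
  rw [h1, Finset.sum_congr rfl (fun j _ => h3 j), Finset.sum_sub_distrib, ← Finset.smul_sum, T.sys.sum, smul_zero, zero_sub]
  unfold E
  rw [Finset.smul_sum, ← Finset.sum_neg_distrib]
  apply Finset.sum_congr rfl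
  intro j _
  rw [smul_smul, neg_mul, neg_smul]

theorem B_E {b : F} (hb : ∀ i j, B (T.u i) (T.u j) = b * (1 - 13 * if i = j then 1 else 0)) {l : F}
    (hl : 3 * (l * l) = 1) (k m : Fin 6) : B (T.E l k) (T.E l m) = if k = m then b * N l k else 0 := by
  have h1 : B (T.E l k) (T.E l m) = b * ((∑ i, C l k i) * (∑ i, C l m i) - 13 * ∑ i, C l k i * C l m i) := by
    unfold E
    have h0 : B (∑ i, C l k i • T.u i) = ∑ i, B (C l k i • T.u i) := map_sum B _ _
    rw [h0, LinearMap.sum_apply]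
    have h2 : ∀ i, B (C l k i • T.u i) (∑ j, C l m j • T.u j) =
        b * (C l k i * ∑ j, C l m j) - 13 * b * (C l k i * C l m i) := by
      intro i
      rw [map_smul, LinearMap.smul_apply, map_sum, smul_eq_mul]
      have h3 : ∀ j, B (T.u i) (C l m j • T.u j) = b * C l m j - 13 * b * if i = j then C l m j else 0 := by
        intro j
        rw [map_smul, hb, smul_eq_mul]
        split_ifs <;> ring
      rw [Finset.sum_congr rfl (fun j _ => h3 j), Finset.sum_sub_distrib, ← Finset.mul_sum, ← Finset.mul_sum,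
        Finset.sum_ite_eq Finset.univ i, if_pos (Finset.mem_univ i)]
      ring
    rw [Finset.sum_congr rfl (fun i _ => h2 i), Finset.sum_sub_distrib, ← Finset.mul_sum, ← Finset.mul_sum, ← Finset.sum_mul]
    ring
  rw [h1, C_gram hl]
  split_ifs
  · rfl
  · rw [mul_zero]

end Data

end Cfsg.Agent.H915.L33
end

-- part: H915/L33Core
section
/-!
# Cores of degree 12 with socle `L₃(3)` (helper915)
-/

set_option autoImplicit false
set_option linter.unusedSectionVars false

namespace Cfsg.Agent.H915.L33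

open Cfsg Cfsg.Geo Matrix Module Cfsg.Agent.H915.LD
open Cfsg.Agent.ClassicalGeometry.AutPSL.Root Cfsg.Agent.ClassicalGeometry.AutPSL.Auto

universe u

/-- `L₃(3)` -/
abbrev T33 := Matrix.ProjectiveSpecialLinearGroup (Fin 3) (ZMod 3)

theorem center_eq : Subgroup.center G = ⊥ := by
  rw [Subgroup.eq_bot_iff_forall]
  intro g hg
  obtain ⟨r, hr, h⟩ := Matrix.SpecialLinearGroup.mem_center_iff.1 hg
  have key : ∀ r : ZMod 3, r ^ 3 = 1 → r = 1 := by decide
  have h1 : r = 1 := key r hr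
  apply Subtype.ext
  rw [← h, h1, map_one]
  rfl

theorem pr_injective : Function.Injective (pr : G →* T33) := by
  rw [injective_iff_map_eq_one]
  intro x hx
  have h := (pr_eq_one_iff x).1 hx
  rw [center_eq] at h
  exact h

/-- `SL₃(3) = PSL₃(3)` -/
noncomputable def prE : G ≃* T33 := MulEquiv.ofBijective pr ⟨pr_injective, pr_surjective⟩

theorem prE_apply (g : G) : prE g = pr g := rfl

theorem units_key : ∀ r : ZMod 3, r ≠ 0 → (r = 1 ∨ r = -1) := by decide

theorem cube_key : (-1 : ZMod 3) ^ 3 * -1 = 1 := by decide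

theorem cj_inner_one (A : GL (Fin 3) (ZMod 3)) (hd : (A : Matrix (Fin 3) (Fin 3) (ZMod 3)).det = 1) :
    ∃ g : G, ∀ x : G, cj A x = g * x * g⁻¹ := by
  let g : G := ⟨A.1, hd⟩
  have h2 : (g⁻¹).1 = ((A⁻¹ : GL (Fin 3) (ZMod 3)) : Matrix (Fin 3) (Fin 3) (ZMod 3)) := by
    have h3 : (g⁻¹).1 * (A : Matrix (Fin 3) (Fin 3) (ZMod 3)) = 1 := congrArg Subtype.val (inv_mul_cancel g)
    exact (Units.eq_inv_of_mul_eq_one_right h3)
  refine ⟨g, fun x => ?_⟩
  apply Subtype.ext
  rw [coe_cj, ← h2]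
  rfl

theorem cj_neg (A : GL (Fin 3) (ZMod 3)) (x : G) : cj (-A) x = cj A x := by
  apply Subtype.ext
  rw [coe_cj, coe_cj, inv_neg, Units.val_neg, Units.val_neg, neg_mul, neg_mul_neg]

theorem cj_inner (A : GL (Fin 3) (ZMod 3)) : ∃ g : G, ∀ x : G, cj A x = g * x * g⁻¹ := by
  have hd : (A : Matrix (Fin 3) (Fin 3) (ZMod 3)).det = 1 ∨ (A : Matrix (Fin 3) (Fin 3) (ZMod 3)).det = -1 := by
    apply units_key
    intro h0
    have h1 := A.isUnit.map (Matrix.detMonoidHom)
    rw [Matrix.coe_detMonoidHom, h0] at h1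
    exact not_isUnit_zero h1
  rcases hd with hd | hd
  · exact cj_inner_one A hd
  · obtain ⟨g, hg⟩ := cj_inner_one (-A) (by
      rw [Units.val_neg, Matrix.det_neg, hd, Fintype.card_fin]
      exact cube_key)
    exact ⟨g, fun x => by rw [← hg, cj_neg]⟩

theorem fld_one (σ : ZMod 3 ≃+* ZMod 3) : (fld σ : MulAut G) = 1 := by
  have h1 : σ = 1 := by
    apply RingEquiv.ext
    intro x
    have h2 : (σ : ZMod 3 →+* ZMod 3) = RingHom.id _ := Subsingleton.elim _ _
    exact RingHom.congr_fun h2 x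
  rw [h1, map_one]

/-- **automorphisms of `SL₃(3)`** -/
theorem aut_cases (α : MulAut G) : (∃ g : G, ∀ x, α x = g * x * g⁻¹) ∨ (∃ g : G, ∀ x, α x = g * itr x * g⁻¹) := by
  have hf : Fact (Nat.Prime 3) := ⟨Nat.prime_three⟩
  have hconj : ∀ x, prE (α x) = (MulAut.congr prE α) (prE x) := by
    intro x
    simp [MulAut.congr]
  rcases Cfsg.Agent.ClassicalGeometry.AutPSL.Main.surj_three 3 (le_refl 3) (MulAut.congr prE α) with
    ⟨A, σ, h⟩ | ⟨A, σ, h⟩
  · left
    obtain ⟨g, hg⟩ := cj_inner A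
    refine ⟨g, fun x => ?_⟩
    apply prE.injective
    rw [hconj, h, fld_one, mul_one, prE_apply, lift_pr, hg]
    rfl
  · right
    obtain ⟨g, hg⟩ := cj_inner A
    refine ⟨g, fun x => ?_⟩
    apply prE.injective
    rw [hconj, h, fld_one, mul_one, prE_apply, lift_pr, MulAut.mul_apply, hg]
    rfl

variable {ι : Type} [Fintype ι] [DecidableEq ι] {F : Type u} [Field F] {P : Subgroup (GL ι F)}

theorem exists_equiv (hC : Core P) (e : Soc P ≃* T33) : Nonempty (G ≃* P) := by
  have hm := S2086.result (F := ZMod 3) (q := 3) (ZMod.card 3) 3 (by norm_num) (by norm_num) (by simp)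
  obtain ⟨e', -⟩ := hC.equiv_of_coprime e hm (by simp only [_root_.Nat.add_one_sub_one, _root_.Nat.reduceGcd, _root_.Nat.card_eq_fintype_card, _root_.Fintype.card_unique, _root_.Nat.coprime_one_left_eq_true])
  exact ⟨prE.trans e'.symm⟩

/-- the representation -/
noncomputable def rep (θ : G ≃* P) : G →* End F (ι → F) :=
  (Matrix.toLinAlgEquiv' : Matrix ι ι F ≃ₐ[F] _).toAlgHom.toRingHom.toMonoidHom.comp
    ((Units.coeHom _).comp (P.subtype.comp θ.toMonoidHom))

theorem rep_apply (θ : G ≃* P) (g : G) (x : ι → F) : rep θ g x = ((θ g : P) : GL ι F).1 *ᵥ x := rfl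

theorem exists_data (hC : Core P) (e : Soc P ≃* T33) (n2 : (2 : F) ≠ 0) (n3 : (3 : F) ≠ 0) (hι : Fintype.card ι = 12) :
    ∃ (θ : G ≃* P) (w : ι → F), Data (rep θ) w := by
  obtain ⟨θ⟩ := exists_equiv hC e
  have hdim : finrank F (ι → F) = 12 := by rw [finrank_fintype_fun_eq_card, hι]
  have hne : ∀ g : G, g ≠ 1 → rep θ g ≠ 1 := by
    intro g hg h
    apply hg
    apply θ.injective
    rw [map_one]
    apply Subtype.ext
    apply Units.ext
    have h1 : Matrix.toLinAlgEquiv' ((θ g : P) : GL ι F).1 = (1 : End F (ι → F)) := h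
    rw [← map_one (Matrix.toLinAlgEquiv' : Matrix ι ι F ≃ₐ[F] _)] at h1
    exact Matrix.toLinAlgEquiv'.injective h1
  have n1 : x12 ≠ 1 := by
    intro h
    exact absurd (congrArg Subtype.val h) (by decide)
  have n1' : x23 ≠ 1 := by
    intro h
    exact absurd (congrArg Subtype.val h) (by decide)
  obtain ⟨w, w0, hw⟩ := exists_fixed n2 n3 hdim (rep θ) (hne _ n1) (hne _ n1')
  refine ⟨θ, w, ⟨n2, n3, hdim, hw, w0, fun W hW => ?_, hne _ n1⟩⟩
  refine hC.absIrred.1 W fun s hs => ?_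
  obtain ⟨g, hg, rfl⟩ := hs
  rintro _ ⟨v, hv, rfl⟩
  have h := hW (θ.symm ⟨g, hg⟩) v hv
  rw [rep_apply, MulEquiv.apply_symm_apply] at h
  rwa [Matrix.toLin'_apply]

end Cfsg.Agent.H915.L33
end

private theorem dce_3749ffe7f5f0 : _root_.True := by
  try have : _root_.True := by simp only [_root_.Cfsg.Agent.H915.L33.N.eq_1]
  try have : _root_.True := by simp only [_root_.Cfsg.Agent.H915.L33.C.eq_1]
  try have : _root_.True := by simp only [_root_.Cfsg.Agent.H915.L33.nb.eq_1]
  try have : _root_.True := by simp only [_root_.Cfsg.Agent.H915.L33.κ.eq_1]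
  exact _root_.True.intro
end

-- part: H114/O12/MEleven_mg
section
prune_inst 0x800020000000000000000000000000000000000002000060100200000000000100000000800000040010000000000200000000000000400000000208080400402000104060009000000000000000000000000000000000000000000000000000
set_option linter.all false
open scoped Cfsg.Agent.FastGrp

/-- Laplace expansion which skips zero entries -/
private noncomputable def detL_c3625 {R : Type*} [CommRing R] [DecidableEq R] (n : ℕ) : Matrix (Fin n) (Fin n) R → R :=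
  @Nat.rec (fun n => Matrix (Fin n) (Fin n) R → R) (fun _ => 1) (fun n ih M =>
    ∑ j : Fin (n + 1), if M 0 j = 0 then 0 else (-1) ^ (j : ℕ) * M 0 j * ih (M.submatrix Fin.succ j.succAbove)) n

private theorem detL_eq_c3625 {R : Type*} [CommRing R] [DecidableEq R] {n : ℕ} (M : Matrix (Fin n) (Fin n) R) :
    M.det = detL_c3625 n M := by
  induction n with
  | zero => exact Matrix.det_fin_zero
  | succ n ih =>
    rw [Matrix.det_succ_row_zero]
    refine Finset.sum_congr rfl fun j _ => ?_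
    by_cases h : M 0 j = 0
    · rw [if_pos h, h, mul_zero, zero_mul]
    · rw [if_neg h, ih]
      rfl


-- part: H114/O12/MEleven
section
/-!
# The Mathieu group of degree 11 has no core of dimension 12 (helper114)

`m11_twelve` : `P ≤ GL_ι(F)` a core, `Soc P ≃* M₁₁`, `card ι = 12`: contradiction (every characteristic).

Characteristic `≠ 3`: the weights of the elementary abelian group of order 9 are permuted regularly by an element of
order 8, so elements of order 3 fix a space of dimension 6 and elements of order 8 fix a vector; Scott's lemma for a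
generating triple of type `(3, 3, 8)`.
-/

set_option autoImplicit false
set_option linter.unusedSectionVars false
set_option maxRecDepth 100000

namespace Cfsg.Agent.H114.O12.MEl

open Module Cfsg Cfsg.Geo Cfsg.Agent.H637.JW Cfsg.Agent.H915.LD Cfsg.Agent.H882.Dim Cfsg.Agent.H882.Sc
open Cfsg.Agent.H6.M11 (v11 vH sat_11 closure_11 ev_vH M11_le exists_letters m11_three v11_zero_ne)
open Cfsg.Agent.CoThreeStd.MTwelve (eqW wd_eq)

universe u

/-- value of a word in the letters -/
def w (l : List ℕ) : Spor.M11 := H6.M11.ev v11 l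

theorem w_nil : w [] = 1 := rfl

theorem w_one (i : ℕ) : w [i] = v11 i := by simp [w, H6.M11.ev]

theorem w_append (l l' : List ℕ) : w (l ++ l') = w l * w l' := H6.M11.ev_append v11 l l'

theorem weq {l l' : List ℕ} (h : eqW (l.flatMap H6.M11.W) (l'.flatMap H6.M11.W) = true) : w l = w l' := by
  apply Subgroup.inclusion_injective M11_le
  have h1 : ∀ l, Subgroup.inclusion M11_le (w l) = H6.M11.ev vH l := fun l => H6.M11.map_ev v11 _ l
  rw [h1, h1, ev_vH, ev_vH]
  exact wd_eq h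

theorem weq1 {l : List ℕ} (h : eqW (l.flatMap H6.M11.W) [] = true) : w l = 1 := weq (l' := []) h

theorem weq2 {a b c d : List ℕ} (h : eqW ((a ++ b).flatMap H6.M11.W) ((c ++ d).flatMap H6.M11.W) = true) :
    w a * w b = w c * w d := by
  rw [← w_append, ← w_append]
  exact weq h

attribute [irreducible] w

/-- the elements `x, y` of order 3 -/
def X : List ℕ := [0]
def Y : List ℕ := [3, 6, 3, 2, 0, 2, 2, 2, 2, 2, 2, 2, 3, 6, 6, 6, 6, 3]


/-- words in `x, y` -/
def sub (l : List Bool) : List ℕ := l.flatMap fun b => if b then Y else X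

theorem ev_sub (l : List Bool) : H882.Sc.ev (w X) (w Y) l = w (sub l) := by
  induction l with
  | nil => exact w_nil.symm
  | cons b l ih =>
    have h1 : H882.Sc.ev (w X) (w Y) (b :: l) = (if b then w Y else w X) * H882.Sc.ev (w X) (w Y) l := by
      simp [H882.Sc.ev]
    have h2 : sub (b :: l) = (if b then Y else X) ++ sub l := by simp [sub]
    rw [h1, h2, w_append, ih]
    cases b <;> rfl

theorem gen : Subgroup.closure ({w X, w Y} : Set Spor.M11) = ⊤ := by
  rw [eq_top_iff, ← closure_11, Subgroup.closure_le]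
  have h5 : w [5] = H882.Sc.ev (w X) (w Y) [true, true, false, true, false, true, true, false, true, true] := by
    rw [ev_sub]
    exact weq (by decide +kernel)
  have h8 : w [8] = H882.Sc.ev (w X) (w Y)
      [false, true, false, false, true, false, true, false, true, false, true, false, false, true, true] := by
    rw [ev_sub]
    exact weq (by decide +kernel)
  rintro g (rfl | hg)
  · rw [← w_one, h5]
    exact ev_mem _ _ _
  · rw [Set.mem_singleton_iff.1 hg, ← w_one, h8]
    exact ev_mem _ _ _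

/-- the action on the weights -/
def M (d : Fin 2 → ZMod 3) : Fin 2 → ZMod 3 := ![d 0 + d 1, d 0 + d 0 + d 1]

theorem trans (d d' : Fin 2 → ZMod 3) (h : d ≠ 0) (h' : d' ≠ 0) : ∃ i : Fin 8, d' = M^[i] d := by
  revert d d'
  decide +kernel

theorem inj : Function.Injective fun i : Fin 8 => M^[i] ![0, 1] := by
  decide +kernel

section

variable {K : Type*} [Field K] [IsAlgClosed K] {V : Type*} [AddCommGroup V] [Module K V] [FiniteDimensional K V]
  {σ : Spor.M11 →* Module.End K V}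

/-- the inverse of the element of order 8 -/
abbrev yi : List ℕ := [2, 2, 2, 2, 2, 2, 2]

theorem step {ζ : K} (hζ : ζ ^ 3 = 1) {d : Fin 2 → ZMod 3} {v : V}
    (hv : v ∈ W 3 ζ (fun k : Fin 2 => σ (w [k.val])) d) : σ (w yi) v ∈ W 3 ζ (fun k : Fin 2 => σ (w [k.val])) (M d) := by
  rw [mem_W] at hv ⊢
  have h0 : σ (w [0]) v = ζ ^ (d 0).val • v := hv 0
  have h1 : σ (w [1]) v = ζ ^ (d 1).val • v := hv 1
  intro k
  fin_cases k
  · change σ (w [0]) (σ (w yi) v) = ζ ^ (d 0 + d 1).val • σ (w yi) v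
    rw [← mul_apply', weq2 (a := [0]) (b := yi) (c := yi) (d := [0, 1]) (by decide +kernel), mul_apply',
      show w [0, 1] = w [0] * w [1] from w_append [0] [1], mul_apply', h1, map_smul, h0, map_smul, map_smul, smul_smul,
      pow_val_add hζ, mul_comm]
  · change σ (w [1]) (σ (w yi) v) = ζ ^ (d 0 + d 0 + d 1).val • σ (w yi) v
    rw [← mul_apply', weq2 (a := [1]) (b := yi) (c := yi) (d := [0, 0, 1]) (by decide +kernel), mul_apply',
      show w [0, 0, 1] = w [0] * (w [0] * w [1]) by rw [← w_append, ← w_append]; rfl, mul_apply', mul_apply', h1,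
      map_smul, h0, map_smul, map_smul, map_smul, h0, map_smul, map_smul, smul_smul, smul_smul,
      pow_val_add hζ, pow_val_add hζ]
    congr 1
    ring

theorem no12 (h3 : (3 : K) ≠ 0) (hI : Irr σ) (hV : finrank K V = 12) : False := by
  have h3' : ((3 : ℕ) : K) ≠ 0 := by exact_mod_cast h3
  obtain ⟨ζ, hζ⟩ := exists_root (K := K) (N := 3) h3'
  set f : Fin 2 → Module.End K V := fun k => σ (w [k.val]) with hf
  have hc : ∀ j k, f j * f k = f k * f j := by
    intro j k
    simp only [hf, ← map_mul]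
    congr 1
    fin_cases j <;> fin_cases k
    · rfl
    · exact weq2 (by decide +kernel)
    · exact weq2 (by decide +kernel)
    · rfl
  have hp : ∀ k, f k ^ 3 = 1 := by
    intro k
    simp only [hf, ← map_pow]
    have : w [k.val] ^ 3 = 1 := by
      rw [pow_succ, pow_succ, pow_one, ← w_append, ← w_append]
      fin_cases k
      · exact weq1 (by decide +kernel)
      · exact weq1 (by decide +kernel)
    rw [this, map_one]
  have hsum := sum_W (V := V) h3' hζ hc hp
  have hle : ∀ d, finrank K (W 3 ζ f d) ≤ finrank K (W 3 ζ f (M d)) := fun d =>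
    finrank_le_of_map (σ := σ) (w yi) fun v hv => step hζ.pow_eq_one hv
  have hle' : ∀ (i : ℕ) d, finrank K (W 3 ζ f d) ≤ finrank K (W 3 ζ f (M^[i] d)) := by
    intro i
    induction i with
    | zero => intro d; exact le_rfl
    | succ i ih =>
      intro d
      rw [Function.iterate_succ_apply']
      exact (ih d).trans (hle _)
  set m := finrank K (W 3 ζ f ![0, 1]) with hm
  have hne : (![0, 1] : Fin 2 → ZMod 3) ≠ 0 := by decide
  have hall : ∀ d, d ≠ 0 → finrank K (W 3 ζ f d) = m := by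
    intro d hd
    obtain ⟨i, hi⟩ := trans d ![0, 1] hd hne
    obtain ⟨j, hj⟩ := trans ![0, 1] d hne hd
    apply le_antisymm
    · rw [hm, hi]; exact hle' i d
    · exact (hle' j _).trans (le_of_eq (by rw [← hj]))
  have hsum2 : finrank K (W 3 ζ f 0) + 8 * m = 12 := by
    rw [← hV, ← hsum, ← Finset.add_sum_erase Finset.univ _ (Finset.mem_univ (0 : Fin 2 → ZMod 3))]
    congr 1
    rw [Finset.sum_congr rfl (g := fun _ => m) fun j hj => hall j (Finset.ne_of_mem_erase hj), Finset.sum_const,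
      smul_eq_mul, Finset.card_erase_of_mem (Finset.mem_univ _)]
    congr 1
  have hW0 : W 3 ζ f 0 = _root_.Cfsg.Agent.H637.JW.Fix σ (w [0]) ⊓ _root_.Cfsg.Agent.H637.JW.Fix σ (w [1]) := by
    ext v
    rw [mem_W, Submodule.mem_inf, mem_Fix, mem_Fix, Fin.forall_fin_two]
    simp only [hf, Pi.zero_apply, ZMod.val_zero, pow_zero, one_smul]
    rfl
  have hnine := nine' (σ := σ) h3 (x := w [0]) (y := w [1]) (by
      rw [← w_append, ← w_append]; exact weq1 (by decide +kernel)) (by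
      rw [← w_append, ← w_append]; exact weq1 (by decide +kernel)) (weq2 (by decide +kernel))
  rw [← hW0, hV] at hnine
  have c1 : finrank K (Fix σ (w [0])) = finrank K (Fix σ (w [1])) :=
    fix_conj (k := w [2, 2]) (weq2 (by decide +kernel))
  have c2 : finrank K (Fix σ (w [0])) = finrank K (Fix σ (w [0] * w [1])) := by
    refine fix_conj (k := w [2, 8]) ?_
    rw [← w_append [0] [1]]
    exact weq2 (a := [2, 8]) (b := [0] ++ [1]) (c := [0]) (d := [2, 8]) (by decide +kernel)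
  have c3 : finrank K (Fix σ (w [0])) = finrank K (Fix σ (w [0] * w [0] * w [1])) := by
    refine fix_conj (k := w [2]) ?_
    rw [← w_append [0] [0], ← w_append ([0] ++ [0]) [1]]
    exact weq2 (a := [2]) (b := [0] ++ [0] ++ [1]) (c := [0]) (d := [2]) (by decide +kernel)
  have c4 : finrank K (Fix σ (w Y)) = finrank K (Fix σ (w X)) :=
    fix_conj (k := w [3, 6, 3, 2]) (weq2 (by decide +kernel))
  have c5 : finrank K (Fix σ (w X * w Y)) = finrank K (Fix σ (w [2])) := by
    refine fix_conj (k := w [0, 2, 7, 6]) ?_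
    rw [← w_append X Y]
    exact weq2 (a := [0, 2, 7, 6]) (b := [2]) (c := X ++ Y) (d := [0, 2, 7, 6]) (by decide +kernel)
  have hsc := hI.scott gen
  rw [hV, c4, c5] at hsc
  -- `m = 1`
  have hm1 : m = 1 := by
    have h1 : m ≠ 0 := by
      intro h0
      have h2 : _root_.Cfsg.Agent.H637.JW.Fix σ (w [0]) ⊓ _root_.Cfsg.Agent.H637.JW.Fix σ (w [1]) = ⊤ := by
        rw [← hW0]
        apply Submodule.eq_top_of_finrank_eq
        omega
      have h4 : σ (w [0]) = 1 := by
        ext v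
        have : v ∈ _root_.Cfsg.Agent.H637.JW.Fix σ (w [0]) ⊓ _root_.Cfsg.Agent.H637.JW.Fix σ (w [1]) := by rw [h2]; trivial
        exact mem_Fix.1 this.1
      have h5 : finrank K (Fix σ (w [0])) = 12 := by
        have h6 : _root_.Cfsg.Agent.H637.JW.Fix σ (w [0]) = ⊤ := by
          rw [eq_top_iff]
          intro v _
          rw [mem_Fix, h4, Module.End.one_apply]
        rw [h6, finrank_top, hV]
      have : (X : List ℕ) = [0] := rfl
      rw [this, h5] at hsc
      omega
    omega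
  have h6 : finrank K (Fix σ (w [0])) = 6 := by omega
  have h7 : 0 < finrank K (Fix σ (w [2])) := by
    have hpos : 0 < finrank K (W 3 ζ f ![0, 1]) := by rw [← hm, hm1]; norm_num
    have : Nontrivial (W 3 ζ f ![0, 1]) := Module.nontrivial_of_finrank_pos hpos
    obtain ⟨⟨v, hv⟩, hv0⟩ := exists_ne (0 : W 3 ζ f ![0, 1])
    have hv0' : v ≠ 0 := fun h => hv0 (Subtype.ext h)
    have hmem : ∀ i : ℕ, (σ (w yi) ^ i) v ∈ W 3 ζ f (M^[i] ![0, 1]) := by
      intro i
      induction i with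
      | zero => exact hv
      | succ i ih =>
        rw [Function.iterate_succ_apply', pow_succ', Module.End.mul_apply]
        exact step hζ.pow_eq_one ih
    have hne0 : ∀ i : ℕ, (σ (w yi) ^ i) v ≠ 0 := by
      intro i h0
      rw [← map_pow] at h0
      have h1 : σ ((w yi ^ i)⁻¹) (σ (w yi ^ i) v) = v := by
        rw [← mul_apply', inv_mul_cancel, map_one, Module.End.one_apply]
      rw [h0, map_zero] at h1
      exact hv0' h1.symm
    have hli : LinearIndependent K (fun i : Fin 8 => (σ (w yi) ^ (i : ℕ)) v) :=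
      ((indep_W h3' hζ hc hp).comp inj).linearIndependent _ (fun i => hmem i) (fun i => hne0 i)
    have hu : (∑ i : Fin 8, (σ (w yi) ^ (i : ℕ)) v) ≠ 0 := by
      intro h0
      have := Fintype.linearIndependent_iff.1 hli (fun _ => 1) (by simpa only [_root_.one_smul] using h0) 0
      exact one_ne_zero this
    have h8 : σ (w yi) ^ 8 = 1 := by
      rw [← map_pow]
      have : w yi ^ 8 = 1 := by
        simp only [pow_succ, pow_zero, one_mul, ← w_append]
        exact weq1 (by decide +kernel)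
      rw [this, map_one]
    have hfix : σ (w yi) (∑ i : Fin 8, (σ (w yi) ^ (i : ℕ)) v) = ∑ i : Fin 8, (σ (w yi) ^ (i : ℕ)) v := by
      rw [Fin.sum_univ_eq_sum_range (fun i => (σ (w yi) ^ i) v) 8, map_sum]
      have h9 : ∀ i, σ (w yi) ((σ (w yi) ^ i) v) = (σ (w yi) ^ (i + 1)) v := by
        intro i
        rw [pow_succ', Module.End.mul_apply]
      simp only [h9]
      have h10 := Finset.sum_range_succ (fun i => (σ (w yi) ^ i) v) 8
      rw [Finset.sum_range_succ' (fun i => (σ (w yi) ^ i) v) 8, h8, pow_zero] at h10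
      exact add_right_cancel h10
    have hmemF : (∑ i : Fin 8, (σ (w yi) ^ (i : ℕ)) v) ∈ _root_.Cfsg.Agent.H637.JW.Fix σ (w [2]) := by
      rw [mem_Fix]
      conv_lhs => rw [← hfix]
      rw [← mul_apply', ← w_append, show w ([2] ++ yi) = 1 from weq1 (by decide +kernel), map_one,
        Module.End.one_apply]
    have : Nontrivial (Fix σ (w [2])) := ⟨⟨_, hmemF⟩, 0, fun h => hu (congrArg Subtype.val h)⟩
    exact Module.finrank_pos
  have : (X : List ℕ) = [0] := rfl
  rw [this, h6] at hsc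
  omega

end

variable {ι : Type} [Fintype ι] [DecidableEq ι] {F : Type u} [Field F] [Finite F] {P : Subgroup (Matrix.GeneralLinearGroup ι F)}

/-- **The Mathieu group of degree 11 does not occur in dimension 12.** -/
theorem m11_twelve (hC : Core P) (p : ℕ) [hp : Fact p.Prime] [CharP F p] (h : Spor.IsoM11 (Soc P))
    (hn : Fintype.card ι = 12) : False := by
  by_cases hp3 : p = 3
  · subst hp3
    obtain ⟨h1, -⟩ := m11_three hC h hn.le
    omega
  · obtain ⟨e, -⟩ := exists_letters hC h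
    have h3 : (3 : AlgebraicClosure F) ≠ 0 := by
      intro h0
      have h1 : ((3 : ℕ) : AlgebraicClosure F) = 0 := by exact_mod_cast h0
      have : CharP (AlgebraicClosure F) p := charP_of_injective_algebraMap (algebraMap F _).injective p
      rw [CharP.cast_eq_zero_iff _ p] at h1
      exact hp3 ((Nat.prime_dvd_prime_iff_eq hp.out Nat.prime_three).1 h1)
    exact no12 h3 (irr_of_core hC e) (H879.TL.finrank_clo.trans hn)

end Cfsg.Agent.H114.O12.MEl
end

-- part: H905/JDAll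
section
/-!
# The Hall-Janko group in degree twelve, every characteristic (helper905, helper808)
-/

set_option autoImplicit false

namespace Cfsg.Agent.H905.JD

open Cfsg Cfsg.Geo Cfsg.Agent.H915.LD

universe u

variable {ι : Type} [Fintype ι] [DecidableEq ι] {F : Type u} [Field F] [Finite F]
  {P : Subgroup (Matrix.GeneralLinearGroup ι F)}

/-- **the Hall-Janko group in degree twelve** -/
theorem J2_twelve_all (hC : Core P) (hJ : Spor.IsoJ2 (Soc P)) (hn : Fintype.card ι = 12) : False := by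
  by_cases h2 : (2 : F) = 0
  · have : CharP F 2 := CharTwo.of_one_ne_zero_of_two_eq_zero one_ne_zero h2
    exact Cfsg.Agent.H808.JD.core_false hC hJ hn
  · obtain ⟨e⟩ := hJ
    exact J2_twelve hC e hn h2

end Cfsg.Agent.H905.JD
end

-- part: H932/MtTwoDat
section
/-!
# Tables for the action of the stabiliser of a row on pairs of rows (helper932)

`M = ⟨x, i, j, s, c⟩` (`M₁₁` modulo `-1`), `N = ⟨x, i, j, s⟩` the stabiliser of the pair `{1, 2}` (generated by program,
checked by the kernel).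
-/

set_option autoImplicit false

namespace Cfsg.Agent.H932.Mt

/-- the involution `s` of `N` outside `3²:Q₈` -/
def gS : Γ := el [2, 2, 2, 2, 2, 1, 0, 0, 0, 0, 0]

/-- the permutation of a letter, as a table -/
def lX : Equiv.Perm (Fin 24) where
  toFun := tf [0, 1, 2, 3, 4, 5, 23, 22, 6, 7, 16, 17, 10, 11, 20, 21, 12, 13, 14, 15, 18, 19, 9, 8]
  invFun := tf [0, 1, 2, 3, 4, 5, 8, 9, 23, 22, 12, 13, 16, 17, 18, 19, 10, 11, 20, 21, 14, 15, 7, 6]
  left_inv := by decide +kernel
  right_inv := by decide +kernel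

/-- the permutation of a letter, as a table -/
def lI : Equiv.Perm (Fin 24) where
  toFun := tf [0, 1, 3, 2, 5, 4, 16, 17, 23, 22, 10, 11, 6, 7, 9, 8, 21, 20, 14, 15, 13, 12, 18, 19]
  invFun := tf [0, 1, 3, 2, 5, 4, 12, 13, 15, 14, 10, 11, 21, 20, 18, 19, 6, 7, 22, 23, 17, 16, 9, 8]
  left_inv := by decide +kernel
  right_inv := by decide +kernel

/-- the permutation of a letter, as a table -/
def lJ : Equiv.Perm (Fin 24) where
  toFun := tf [0, 1, 2, 3, 5, 4, 14, 15, 17, 16, 11, 10, 9, 8, 21, 20, 18, 19, 12, 13, 23, 22, 6, 7]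
  invFun := tf [0, 1, 2, 3, 5, 4, 22, 23, 13, 12, 11, 10, 18, 19, 6, 7, 9, 8, 16, 17, 15, 14, 21, 20]
  left_inv := by decide +kernel
  right_inv := by decide +kernel

/-- the permutation of a letter, as a table -/
def lS : Equiv.Perm (Fin 24) where
  toFun := tf [0, 1, 4, 5, 2, 3, 21, 20, 15, 14, 10, 11, 12, 13, 9, 8, 16, 17, 22, 23, 7, 6, 18, 19]
  invFun := tf [0, 1, 4, 5, 2, 3, 21, 20, 15, 14, 10, 11, 12, 13, 9, 8, 16, 17, 22, 23, 7, 6, 18, 19]
  left_inv := by decide +kernel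
  right_inv := by decide +kernel

/-- the permutation of a letter, as a table -/
def lC : Equiv.Perm (Fin 24) where
  toFun := tf [0, 1, 7, 6, 16, 17, 3, 2, 8, 9, 22, 23, 21, 20, 14, 15, 4, 5, 18, 19, 13, 12, 10, 11]
  invFun := tf [0, 1, 7, 6, 16, 17, 3, 2, 8, 9, 22, 23, 21, 20, 14, 15, 4, 5, 18, 19, 13, 12, 10, 11]
  left_inv := by decide +kernel
  right_inv := by decide +kernel

/-- the permutation of a letter, as a table -/
def lN : Equiv.Perm (Fin 24) where
  toFun := tf [1, 0, 3, 2, 5, 4, 7, 6, 9, 8, 11, 10, 13, 12, 15, 14, 17, 16, 19, 18, 21, 20, 23, 22]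
  invFun := tf [1, 0, 3, 2, 5, 4, 7, 6, 9, 8, 11, 10, 13, 12, 15, 14, 17, 16, 19, 18, 21, 20, 23, 22]
  left_inv := by decide +kernel
  right_inv := by decide +kernel

/-- words in the letters -/
def evL : List ℕ → Γ
  | [] => 1
  | 0 :: w => gX * evL w
  | 1 :: w => gi * evL w
  | 2 :: w => gj * evL w
  | 3 :: w => gS * evL w
  | 4 :: w => gc * evL w
  | _ :: w => neg * evL w

/-- words in the tables -/
def evT : List ℕ → Equiv.Perm (Fin 24)
  | [] => 1
  | 0 :: w => lX * evT w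
  | 1 :: w => lI * evT w
  | 2 :: w => lJ * evT w
  | 3 :: w => lS * evT w
  | 4 :: w => lC * evT w
  | _ :: w => lN * evT w

theorem lX_eq : gX.1.1 = lX := by decide +kernel
theorem lI_eq : gi.1.1 = lI := by decide +kernel
theorem lJ_eq : gj.1.1 = lJ := by decide +kernel
theorem lS_eq : gS.1.1 = lS := by decide +kernel
theorem lC_eq : gc.1.1 = lC := by decide +kernel
theorem lN_eq : neg.1.1 = lN := by decide +kernel

/-- words for the representatives of the pairs -/
def trq : List (List (List ℕ)) :=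
  [[[], [], [], [], [], [], [], [], [], [], [], []],
   [[], [], [], [0, 4, 2, 0, 4], [4, 2, 0, 4], [3, 0, 4, 1, 4], [3, 4, 1, 4], [4, 1, 0, 1, 4], [2, 4, 2, 0, 4], [4, 1, 0, 4, 3], [4, 3, 1, 1, 4], [1, 4, 2, 0, 4]],
   [[], [], [], [1, 4, 1, 4], [2, 4, 1, 4], [0, 4, 1, 4], [4, 1, 4], [3, 4, 2, 0, 4], [0, 0, 4, 1, 4], [4, 0, 4, 0, 4], [3, 0, 4, 2, 0, 4], [4, 2, 0, 0, 4]],
   [[], [], [], [], [2, 0, 4], [3, 4, 0, 4, 3], [3, 1, 1, 4], [1, 0, 1, 4], [4], [1, 0, 4, 3], [0, 1, 2, 4], [0, 2, 0, 4, 3]],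
   [[], [], [], [], [], [0, 0, 4], [2, 0, 1, 4], [1, 2, 4], [0, 1, 0, 0, 4], [1, 0, 1, 0, 4], [1, 1, 1, 0, 4], [3, 2, 4]],
   [[], [], [], [], [], [], [1, 4, 0, 4], [0, 0, 1, 4], [2, 0, 0, 4, 3], [0, 1, 3, 4], [4, 0, 4], [2, 4, 0, 4]],
   [[], [], [], [], [], [], [], [2, 1, 0, 4], [0, 2, 0, 0, 4], [0, 1, 4], [1, 3, 4], [0, 4, 3]],
   [[], [], [], [], [], [], [], [], [1, 1, 0, 4], [2, 4], [0, 2, 4, 3], [0, 1, 0, 4]],
   [[], [], [], [], [], [], [], [], [], [0, 4, 0, 4], [1, 4], [1, 2, 0, 4]],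
   [[], [], [], [], [], [], [], [], [], [], [4, 3, 0, 4], [2, 1, 4]],
   [[], [], [], [], [], [], [], [], [], [], [], [3, 1, 0, 4, 3]],
   [[], [], [], [], [], [], [], [], [], [], [], []]]

/-- Schreier words -/
def tq0 : List (List (List ℕ)) :=
  [[[], [], [], [], [], [], [], [], [], [], [], []],
   [[], [], [0], [1, 2], [], [1, 0, 1], [], [0], [1, 0, 1], [0, 1, 1, 1], [1, 0], [2, 1]],
   [[], [], [], [1, 2, 0, 2, 1], [2, 0, 0], [], [], [], [], [1], [1, 1, 1], [2, 0, 1, 1]],
   [[], [], [], [], [3], [2, 3], [1, 0, 2, 3], [2, 0, 2, 3], [3], [3], [0, 1, 3, 0, 0], [3, 2, 0, 2]],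
   [[], [], [], [], [], [], [0, 2, 1, 1, 0], [], [2, 0, 0, 2, 0], [], [2, 0, 2, 1], [2, 0, 0, 2, 0]],
   [[], [], [], [], [], [], [2, 3, 0, 1], [], [3], [3, 1], [], [3, 1, 2]],
   [[], [], [], [], [], [], [], [0, 0, 2, 0], [0, 0, 2, 0], [], [], [3]],
   [[], [], [], [], [], [], [], [], [3, 1], [3], [0, 1, 3, 0], [0, 1, 3, 0, 0]],
   [[], [], [], [], [], [], [], [], [], [2, 1, 0, 1], [], [0, 1, 3, 0, 0]],
   [[], [], [], [], [], [], [], [], [], [], [1, 2, 0, 2], [0, 1, 3, 0, 0]],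
   [[], [], [], [], [], [], [], [], [], [], [], [3, 2, 0, 2]],
   [[], [], [], [], [], [], [], [], [], [], [], []]]

/-- Schreier words -/
def tq1 : List (List (List ℕ)) :=
  [[[], [], [], [], [], [], [], [], [], [], [], []],
   [[], [], [1], [1], [], [0, 0, 1, 2], [1, 1, 0, 1], [1, 0, 1, 2], [1, 0, 1, 1, 1], [2, 1, 1, 0], [], [1, 0, 1, 0]],
   [[], [], [], [1, 0, 0, 1], [1, 0, 0], [2, 1, 0], [], [1, 0, 1, 1, 1], [0, 1], [2], [1, 0], [0, 2, 1, 0, 0]],
   [[], [], [], [], [], [2, 0, 1, 3], [3, 1], [0, 1, 3, 0, 0], [], [3], [0, 1, 3, 0, 0], [2, 1]],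
   [[], [], [], [], [], [3, 2], [3], [3, 1], [2, 0, 2, 3], [0, 1, 3, 0, 0], [3], [3, 1]],
   [[], [], [], [], [], [], [3, 1, 0, 1], [0, 1, 3, 0, 0], [2, 1], [2, 0, 0, 2, 0], [], [2]],
   [[], [], [], [], [], [], [], [], [], [], [], []],
   [[], [], [], [], [], [], [], [], [], [], [0, 1, 0, 0], []],
   [[], [], [], [], [], [], [], [], [], [2, 3, 0, 1], [3, 1], [3, 1, 0, 1, 0]],
   [[], [], [], [], [], [], [], [], [], [], [1, 0, 1, 3, 0], []],
   [[], [], [], [], [], [], [], [], [], [], [], [1, 1, 1]],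
   [[], [], [], [], [], [], [], [], [], [], [], []]]

/-- Schreier words -/
def tq2 : List (List (List ℕ)) :=
  [[[], [], [], [], [], [], [], [], [], [], [], []],
   [[], [], [2], [2, 1, 0, 0], [], [2, 0, 0], [1, 1, 1, 0, 1], [0, 2, 1, 1, 0], [1, 0, 1, 0], [2, 0, 0, 2], [1, 1, 1, 0, 1], [1, 1, 1]],
   [[], [], [], [1, 1, 1, 0, 1], [1, 0, 0, 1], [0, 1, 0], [], [1, 1, 1], [0, 2, 0], [0, 0, 2, 0], [2, 0, 0, 2], [0, 1, 1, 1]],
   [[], [], [], [], [], [2, 3], [3, 1], [2, 0, 2, 1], [], [3], [], [3]],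
   [[], [], [], [], [], [3], [0, 1, 3, 0, 0], [], [0, 0, 2, 0], [0, 1, 3, 0, 0], [], [3, 1]],
   [[], [], [], [], [], [], [3, 1, 2], [0, 0, 2, 0], [1, 1, 1], [2, 1, 1], [], [3, 1, 0, 1]],
   [[], [], [], [], [], [], [], [], [], [], [], [3]],
   [[], [], [], [], [], [], [], [], [3, 1, 0, 1, 0], [3, 1], [2, 0, 2], [0, 1, 3, 0, 0]],
   [[], [], [], [], [], [], [], [], [], [3, 1, 2], [], [3]],
   [[], [], [], [], [], [], [], [], [], [], [2, 0, 0, 2], [3, 1]],
   [[], [], [], [], [], [], [], [], [], [], [], [1, 3]],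
   [[], [], [], [], [], [], [], [], [], [], [], []]]

/-- Schreier words -/
def tq3 : List (List (List ℕ)) :=
  [[[], [], [], [], [], [], [], [], [], [], [], []],
   [[], [], [3], [], [], [], [], [0, 2, 1, 1, 0], [1, 0, 1], [2, 0, 2, 1], [], [2, 1, 1]],
   [[], [], [], [], [0, 0, 2, 0, 0], [], [], [], [1, 0, 1], [2], [], [0, 1, 0, 0]],
   [[], [], [], [], [2, 0, 2, 3], [3], [3, 1], [3, 1], [3, 1], [], [3, 1], [3, 0, 0, 1, 0]],
   [[], [], [], [], [], [3, 1], [3, 1], [3, 1], [2, 0, 0, 2, 0], [2, 0, 0, 2, 0], [3, 1], []],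
   [[], [], [], [], [], [], [1, 0, 1], [3, 1], [2, 0, 2], [0, 0, 2, 0], [3], [2, 1, 0, 1]],
   [[], [], [], [], [], [], [], [3, 1], [2, 0, 0, 2, 0], [1], [3, 1], [1, 1, 1]],
   [[], [], [], [], [], [], [], [], [2, 0, 0, 2, 0], [], [3, 2, 0, 2], [2, 0, 0, 2, 0]],
   [[], [], [], [], [], [], [], [], [], [2], [3, 1], [2, 1, 1]],
   [[], [], [], [], [], [], [], [], [], [], [3, 0, 0, 1, 0], [3, 1]],
   [[], [], [], [], [], [], [], [], [], [], [], []],
   [[], [], [], [], [], [], [], [], [], [], [], []]]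

/-- Schreier words -/
def tq4 : List (List (List ℕ)) :=
  [[[], [], [], [], [], [], [], [], [], [], [], []],
   [[], [], [], [0, 0, 1, 3, 0], [], [1, 1, 0, 1, 0], [2, 1, 0, 0, 1], [], [1, 3, 0, 0, 1], [], [], [0, 2, 1]],
   [[], [], [], [1, 3, 0, 0, 1], [2, 3, 1, 0, 2], [1, 2, 0, 0], [], [3, 1, 0, 2, 0], [3, 0, 0, 1, 0], [], [2, 3, 1, 0, 0], [3]],
   [[], [], [], [], [], [1, 2, 0, 0], [], [], [], [], [0, 2, 0, 0], [0, 0, 1, 0]],
   [[], [], [], [], [], [0, 2, 1], [1, 1, 0, 1, 0], [0, 1, 1], [1, 3, 0, 1, 0], [1, 0, 1, 0], [0, 0, 1, 0], [1, 2, 0, 0]],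
   [[], [], [], [], [], [], [3, 1, 0, 1], [3, 0, 2, 0], [3], [3, 1, 2], [3], [0, 1, 3, 0, 0]],
   [[], [], [], [], [], [], [], [1, 3, 0, 1], [0, 2, 3], [3, 1], [1, 3], [3]],
   [[], [], [], [], [], [], [], [], [3, 0, 2, 0, 0], [1, 0, 0, 1], [1, 3, 0, 1], [1, 0, 2, 3, 1]],
   [[], [], [], [], [], [], [], [], [], [], [], [0, 2, 1]],
   [[], [], [], [], [], [], [], [], [], [], [3, 1], [3, 2]],
   [[], [], [], [], [], [], [], [], [], [], [], [1, 0, 1, 3]],
   [[], [], [], [], [], [], [], [], [], [], [], []]]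

/-- words to the representatives of the `N`-orbits on pairs -/
def tow : List (List (List ℕ)) :=
  [[[], [], [], [], [], [], [], [], [], [], [], []],
   [[], [], [], [], [0], [1, 0, 0], [1], [0, 1], [1, 0], [1, 2], [1, 1], [2]],
   [[], [], [], [3, 1, 1], [3, 1, 2], [3, 1, 0], [1, 3], [3, 0], [3, 1], [2, 3], [3], [2, 3, 1]],
   [[], [], [], [], [], [1, 3, 0, 0], [2, 0, 1], [3, 2], [2, 0], [1, 2], [0, 1, 0, 0], [0, 0]],
   [[], [], [], [], [], [2, 0, 0], [1, 3], [0, 1], [1, 0, 2], [3, 2, 0], [2, 1], [0]],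
   [[], [], [], [], [], [], [2, 0, 0, 2], [2, 3, 0, 0], [1, 0, 0, 1], [0, 2, 0, 0], [1, 0, 0], [1, 0, 2, 0]],
   [[], [], [], [], [], [], [], [1], [3, 2, 0, 2], [2, 3], [0, 2], [2]],
   [[], [], [], [], [], [], [], [], [0, 2, 0], [3, 0], [3], [2, 1, 0]],
   [[], [], [], [], [], [], [], [], [], [1, 0], [2, 3, 0], [1, 3, 0]],
   [[], [], [], [], [], [], [], [], [], [], [1, 1], [0, 1, 0]],
   [[], [], [], [], [], [], [], [], [], [], [], [2, 3, 1]],
   [[], [], [], [], [], [], [], [], [], [], [], []]]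

/-- the word of a pair -/
def rqw (a b : Fin 12) : List ℕ := if a < b then gt2 [] trq a b else gt2 [] trq b a

/-- the action on lines -/
def li (π : Equiv.Perm (Fin 24)) (a : Fin 12) : Fin 12 := idx (π (pos a))

/-- the check for the Schreier words -/
def schk (π : Equiv.Perm (Fin 24)) (t : List (List (List ℕ))) (a b : Fin 12) : Bool :=
  decide (π * evT (gt2 [] trq a b) = evT (rqw (li π a) (li π b)) * evT (gt2 [] t a b))

/-- the six tables in one number -/
private noncomputable def lk_h86 (k i : ℕ) : ℕ :=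
  Nat.land (Nat.shiftRight 0xb5e9594e1173d8d52d0931c8510c015a98d9c8a47ba95bd92810e3031c209c8c7bda30425ac5a9cfa54622902039ad76b272a550952e117b885188209c98d7ba95424e65aad78c08510c20426727b9acad16a8c0e6b5ca418820 (Nat.mul 5 (Nat.add (Nat.mul 24 k) i))) 31

private noncomputable def ap_h86 (w : List ℕ) : ℕ → ℕ :=
  @List.rec ℕ (fun _ => ℕ → ℕ) (fun i => i) (fun g _ ih i => lk_h86 (@Bool.rec (fun _ => ℕ) 5 g (Nat.ble g 4)) (ih i)) w

private theorem lk_ok_h86 : (∀ j : Fin 24, (lX j).1 = lk_h86 0 j.1) ∧ (∀ j : Fin 24, (lI j).1 = lk_h86 1 j.1) ∧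
    (∀ j : Fin 24, (lJ j).1 = lk_h86 2 j.1) ∧ (∀ j : Fin 24, (lS j).1 = lk_h86 3 j.1) ∧
    (∀ j : Fin 24, (lC j).1 = lk_h86 4 j.1) ∧ ∀ j : Fin 24, (lN j).1 = lk_h86 5 j.1 := by decide +kernel

private theorem ap_ok_h86 (w : List ℕ) (i : Fin 24) : (evT w i).1 = ap_h86 w i.1 := by
  induction w with
  | nil => rfl
  | cons g w ih =>
    obtain ⟨h0, h1, h2, h3, h4, h5⟩ := lk_ok_h86
    match g with
    | 0 => exact (h0 (evT w i)).trans (congrArg (lk_h86 0) ih)
    | 1 => exact (h1 (evT w i)).trans (congrArg (lk_h86 1) ih)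
    | 2 => exact (h2 (evT w i)).trans (congrArg (lk_h86 2) ih)
    | 3 => exact (h3 (evT w i)).trans (congrArg (lk_h86 3) ih)
    | 4 => exact (h4 (evT w i)).trans (congrArg (lk_h86 4) ih)
    | n + 5 => exact (h5 (evT w i)).trans (congrArg (lk_h86 5) ih)

private noncomputable def sc_h86 (k : ℕ) (π : Equiv.Perm (Fin 24)) (t : List (List (List ℕ))) (a b : Fin 12) : Bool :=
  (List.range 24).all fun i => Nat.beq (lk_h86 k (ap_h86 (gt2 [] trq a b) i))
    (ap_h86 (rqw (li π a) (li π b)) (ap_h86 (gt2 [] t a b) i))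

private theorem sc_ok_h86 {k : ℕ} {π : Equiv.Perm (Fin 24)} (h : ∀ j : Fin 24, (π j).1 = lk_h86 k j.1)
    {t : List (List (List ℕ))} (H : ∀ a b : Fin 12, 0 < a → a < b → sc_h86 k π t a b = true) (a b : Fin 12) (h1 : 0 < a)
    (h2 : a < b) : schk π t a b = true := by
  refine decide_eq_true (Equiv.ext fun i => Fin.ext ?_)
  rw [Equiv.Perm.mul_apply, Equiv.Perm.mul_apply, h, ap_ok_h86, ap_ok_h86, ap_ok_h86]
  exact Nat.eq_of_beq_eq_true (List.all_eq_true.1 (H a b h1 h2) i.1 (List.mem_range.2 i.2))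

theorem sq0 : ∀ a b : Fin 12, 0 < a → a < b → schk lX tq0 a b = true :=
  sc_ok_h86 lk_ok_h86.1 (by decide +kernel)
theorem sq1 : ∀ a b : Fin 12, 0 < a → a < b → schk lI tq1 a b = true :=
  sc_ok_h86 lk_ok_h86.2.1 (by decide +kernel)
theorem sq2 : ∀ a b : Fin 12, 0 < a → a < b → schk lJ tq2 a b = true :=
  sc_ok_h86 lk_ok_h86.2.2.1 (by decide +kernel)
theorem sq3 : ∀ a b : Fin 12, 0 < a → a < b → schk lS tq3 a b = true :=
  sc_ok_h86 lk_ok_h86.2.2.2.1 (by decide +kernel)
theorem sq4 : ∀ a b : Fin 12, 0 < a → a < b → schk lC tq4 a b = true :=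
  sc_ok_h86 lk_ok_h86.2.2.2.2.1 (by decide +kernel)

/-- the number of points in common with `{1, 2}` -/
def nc (a b : Fin 12) : Fin 3 := (if a = 1 ∨ a = 2 then 1 else 0) + (if b = 1 ∨ b = 2 then 1 else 0)

/-- the representatives of the orbits -/
def rt (n : Fin 3) : Fin 12 × Fin 12 := if n = 2 then (1, 2) else if n = 1 then (1, 3) else (3, 4)

theorem orb2_tab : ∀ a b : Fin 12, 0 < a → a < b →
    (li (evT (gt2 [] tow a b)) a = (rt (nc a b)).1 ∧ li (evT (gt2 [] tow a b)) b = (rt (nc a b)).2) ∨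
    (li (evT (gt2 [] tow a b)) a = (rt (nc a b)).2 ∧ li (evT (gt2 [] tow a b)) b = (rt (nc a b)).1) := by decide +kernel

/-- the words of `N` -/
def isN (w : List ℕ) : Bool := w.all (fun a => decide (a < 4) || decide (a = 5))

theorem tow_N : ∀ a b : Fin 12, isN (gt2 [] tow a b) = true := by decide +kernel
theorem tq_N : ∀ a b : Fin 12, isN (gt2 [] tq0 a b) = true ∧ isN (gt2 [] tq1 a b) = true ∧ isN (gt2 [] tq2 a b) = true ∧
    isN (gt2 [] tq3 a b) = true ∧ isN (gt2 [] tq4 a b) = true := by decide +kernel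

theorem rq_tab : ∀ a b : Fin 12, 0 < a → a < b → li (evT (gt2 [] trq a b)) 1 = a ∧ li (evT (gt2 [] trq a b)) 2 = b := by
  decide +kernel

theorem rq_base : gt2 [] trq 1 2 = [] := by decide +kernel

theorem li_zero : li lX 0 = 0 ∧ li lI 0 = 0 ∧ li lJ 0 = 0 ∧ li lS 0 = 0 ∧ li lC 0 = 0 := by decide +kernel

theorem t_two : evL [4, 3, 4] * gX * (evL [4, 3, 4])⁻¹ * (evL [4, 2, 0, 0, 4] * gX * (evL [4, 2, 0, 0, 4])⁻¹) = gt :=
  gext (by decide +kernel)
theorem c_two : evL [2, 4, 3, 4] * gX * (evL [2, 4, 3, 4])⁻¹ * (evL [3, 2, 4] * gX * (evL [3, 2, 4])⁻¹) = gc :=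
  gext (by decide +kernel)
theorem sX : gS * gX = gX * gS := gext (by decide +kernel)
theorem sY : gS * gY = gY⁻¹ * gS := gext (by decide +kernel)
theorem iY : gi * gY = gX⁻¹ * gi := gext (by decide +kernel)
theorem jY : gj * gY = gX * gY⁻¹ * gj := gext (by decide +kernel)
theorem tYr : gt * gY = gY⁻¹ * gt := gext (by decide +kernel)
theorem y3 : gY * gY * gY = 1 := gext (by decide +kernel)
theorem iS : gi * gS = gS * (gi * gi * gi) := gext (by decide +kernel)
theorem jS : gj * gS = gS * (gj * gi) := gext (by decide +kernel)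
theorem sS : gS * gS = 1 := gext (by decide +kernel)
theorem st' : gS * gt = gt * gS := gext (by decide +kernel)

end Cfsg.Agent.H932.Mt
end

-- part: H932/MtTwoLin
section
/-!
# Characteristic two: dimensions of fixed spaces in representations of `2.M₁₂` (helper932)

* `split_tri` : splitting by an element of order 3;
* `count` : `dim W + 3 dim W^E = 4 dim W^x` for `E = ⟨x, y⟩` and `W` stable under `x, y, i, j`;
* `even_kr` : `dim W - dim W^x` is even.
-/

set_option autoImplicit false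
set_option linter.unusedSectionVars false

namespace Cfsg.Agent.H932.Mt

open Module

variable {F V : Type*} [Field F] [AddCommGroup V] [Module F V] [FiniteDimensional F V]
variable {ρ : Γ →* Module.End F V}

/-- the fixed space -/
def fx (ρ : Γ →* Module.End F V) (g : Γ) : Submodule F V := es (ρ g) 1

/-- the kernel of `1 + g + g²` -/
def kr (ρ : Γ →* Module.End F V) (g : Γ) : Submodule F V := LinearMap.ker (Odd12.tri ρ g)

theorem mem_fx {g : Γ} {v : V} : v ∈ fx ρ g ↔ ρ g v = v := mem_es_one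

theorem mem_kr {g : Γ} {v : V} : v ∈ kr ρ g ↔ v + ρ g v + ρ g (ρ g v) = 0 := Iff.rfl

theorem add_self_two (h2 : (2 : F) = 0) (v : V) : v + v = 0 := by
  rw [← two_smul F, h2, zero_smul]

theorem neg_eq_two (h2 : (2 : F) = 0) (v : V) : -v = v := by
  rw [neg_eq_iff_add_eq_zero, add_self_two h2]

/-- `g` of order 3 in the representation -/
def Ord3 (ρ : Γ →* Module.End F V) (g : Γ) : Prop := ∀ v, ρ g (ρ g (ρ g v)) = v

theorem ord3_of {g : Γ} (h : g * g * g = 1) : Ord3 ρ g := by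
  intro v
  rw [← rmul, ← rmul, h, rone]

theorem split_tri (h2 : (2 : F) = 0) {g : Γ} (hg : Ord3 ρ g) (W : Submodule F V) (hW : ∀ v ∈ W, ρ g v ∈ W) :
    finrank F W = finrank F (W ⊓ fx ρ g : Submodule F V) + finrank F (W ⊓ kr ρ g : Submodule F V) := by
  have hS : ∀ v, Odd12.tri ρ g v = v + ρ g v + ρ g (ρ g v) := fun v => rfl
  have h1 : (W ⊓ fx ρ g) ⊔ (W ⊓ kr ρ g) = W := by
    apply le_antisymm (sup_le inf_le_left inf_le_left)
    intro v hv
    rw [Submodule.mem_sup]
    have hSv : v + ρ g v + ρ g (ρ g v) ∈ W := W.add_mem (W.add_mem hv (hW _ hv)) (hW _ (hW _ hv))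
    refine ⟨v + ρ g v + ρ g (ρ g v), ⟨hSv, ?_⟩, ρ g v + ρ g (ρ g v), ⟨W.add_mem (hW _ hv) (hW _ (hW _ hv)), ?_⟩, ?_⟩
    · rw [SetLike.mem_coe, mem_fx, map_add, map_add, hg]
      abel
    · rw [SetLike.mem_coe, mem_kr, map_add, map_add, hg]
      have e1 := add_self_two h2 (ρ g v)
      have e2 := add_self_two h2 (ρ g (ρ g v))
      have e3 := add_self_two h2 v
      calc ρ g v + ρ g (ρ g v) + (ρ g (ρ g v) + v) + (v + ρ g v)
          = (ρ g v + ρ g v) + (ρ g (ρ g v) + ρ g (ρ g v)) + (v + v) := by abel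
        _ = 0 := by rw [e1, e2, e3, add_zero, add_zero]
    · calc v + ρ g v + ρ g (ρ g v) + (ρ g v + ρ g (ρ g v))
          = v + (ρ g v + ρ g v) + (ρ g (ρ g v) + ρ g (ρ g v)) := by abel
        _ = v := by rw [add_self_two h2, add_self_two h2, add_zero, add_zero]
  have h3 : (W ⊓ fx ρ g) ⊓ (W ⊓ kr ρ g) = ⊥ := by
    rw [eq_bot_iff]
    rintro v ⟨⟨_, h4⟩, ⟨_, h5⟩⟩
    rw [SetLike.mem_coe, mem_fx] at h4
    rw [SetLike.mem_coe, mem_kr, h4, h4, add_self_two h2, zero_add] at h5
    exact h5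
  have h6 := Submodule.finrank_sup_add_finrank_inf_eq (W ⊓ fx ρ g) (W ⊓ kr ρ g)
  rw [h1, h3, finrank_bot, add_zero] at h6
  exact h6

/-- `z = x y` -/
def gZ : Γ := gX * gY
/-- `w = x⁻¹ y` -/
def gW : Γ := gX⁻¹ * gY

theorem z3 : gZ * gZ * gZ = 1 := gext (by decide +kernel)
section count

variable (h2 : (2 : F) = 0)
include h2

theorem XX3 (v : V) : ρ gX (ρ gX (ρ gX v)) = v := ord3_of x3 v
theorem YX (v : V) : ρ gY (ρ gX v) = ρ gX (ρ gY v) := (req ρ xy v).symm
theorem Zv (v : V) : ρ gZ v = ρ gX (ρ gY v) := rmul ρ gX gY v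
theorem Wv (v : V) : ρ gW v = ρ gX (ρ gX (ρ gY v)) := by
  unfold gW
  rw [rmul, Odd12.Xinv]

end count

theorem mem_count (h2 : (2 : F) = 0) {v : V} (hx : v ∈ kr ρ gX) :
    (v ∈ fx ρ gZ → v ∈ kr ρ gY) ∧ (v ∈ fx ρ gW → v ∈ kr ρ gY ∧ v ∈ kr ρ gZ) ∧
      (v ∈ kr ρ gY → v ∈ kr ρ gZ → v ∈ fx ρ gW) := by
  rw [mem_kr] at hx
  refine ⟨?_, ?_, ?_⟩
  · intro hz
    rw [mem_fx, Zv h2] at hz
    -- `Y v = X² v`
    have h1 : ρ gY v = ρ gX (ρ gX v) := by
      have h3 := congrArg (fun w => ρ gX (ρ gX w)) hz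
      simpa only [XX3 h2] using h3
    rw [mem_kr, h1, YX h2, YX h2, h1, XX3 h2]
    rw [← hx]
    abel
  · intro hw
    rw [mem_fx, Wv h2] at hw
    have h1 : ρ gY v = ρ gX v := by
      have h3 := congrArg (fun w => ρ gX w) hw
      simpa only [XX3 h2] using h3
    constructor
    · rw [mem_kr, h1, YX h2, h1]
      exact hx
    · rw [mem_kr, Zv h2, Zv h2, YX h2, h1, YX h2, h1, XX3 h2]
      rw [← hx]
      abel
  · intro hy hz
    rw [mem_kr] at hy
    rw [mem_kr, Zv h2, Zv h2, YX h2] at hz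
    rw [mem_fx, Wv h2]
    have e1 : ρ gX (ρ gX v) = v + ρ gX v := by
      have h3 := hx
      rw [add_comm, ← neg_eq_iff_add_eq_zero, neg_eq_two h2] at h3
      exact h3
    have e2 : ρ gY (ρ gY v) = v + ρ gY v := by
      have h3 := hy
      rw [add_comm, ← neg_eq_iff_add_eq_zero, neg_eq_two h2] at h3
      exact h3
    have e3 : ρ gX (ρ gX (ρ gY v)) = ρ gY v + ρ gX (ρ gY v) := by
      have h3 := congrArg (ρ gY) e1
      rw [YX h2, YX h2, map_add, YX h2] at h3
      exact h3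
    have e4 : ρ gX (ρ gX (ρ gY (ρ gY v))) = (v + ρ gX v) + (ρ gY v + ρ gX (ρ gY v)) := by
      rw [e2, map_add, map_add, e1, e3]
    rw [e4] at hz
    have h5 : (v + v) + (ρ gX (ρ gY v) + ρ gX (ρ gY v)) + (ρ gX v + ρ gY v) = 0 := by
      rw [← hz]
      abel
    rw [add_self_two h2, add_self_two h2, zero_add, zero_add] at h5
    have h6 : ρ gY v = ρ gX v := by
      rw [add_comm, ← neg_eq_iff_add_eq_zero, neg_eq_two h2] at h5
      exact h5
    rw [h6, XX3 h2]

/-- the count -/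
theorem count (h2 : (2 : F) = 0) (W : Submodule F V) (hX : ∀ v ∈ W, ρ gX v ∈ W) (hY : ∀ v ∈ W, ρ gY v ∈ W) :
    finrank F W + 3 * finrank F (W ⊓ fx ρ gX ⊓ fx ρ gY : Submodule F V)
      = finrank F (W ⊓ fx ρ gX : Submodule F V) + finrank F (W ⊓ fx ρ gY : Submodule F V)
        + finrank F (W ⊓ fx ρ gZ : Submodule F V) + finrank F (W ⊓ fx ρ gW : Submodule F V) := by
  have ox : Ord3 ρ gX := ord3_of x3
  have oy : Ord3 ρ gY := ord3_of y3
  have oz : Ord3 ρ gZ := ord3_of z3
  have hfY : ∀ v ∈ fx ρ gY, ρ gX v ∈ fx ρ gY := by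
    intro v hv
    rw [mem_fx] at hv ⊢
    rw [YX h2, hv]
  have hkX : ∀ v ∈ kr ρ gX, ρ gY v ∈ kr ρ gX := by
    intro v hv
    rw [mem_kr] at hv ⊢
    rw [← YX h2, ← YX h2, ← map_add, ← map_add, hv, map_zero]
  have hkX' : ∀ v ∈ kr ρ gX, ρ gX v ∈ kr ρ gX := by
    intro v hv
    rw [mem_kr] at hv ⊢
    rw [← map_add, ← map_add, hv, map_zero]
  have hkY : ∀ v ∈ kr ρ gY, ρ gX v ∈ kr ρ gY := by
    intro v hv
    rw [mem_kr] at hv ⊢
    rw [YX h2, YX h2, ← map_add, ← map_add, hv, map_zero]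
  have hkY' : ∀ v ∈ kr ρ gY, ρ gY v ∈ kr ρ gY := by
    intro v hv
    rw [mem_kr] at hv ⊢
    rw [← map_add, ← map_add, hv, map_zero]
  have hfZ : ∀ v ∈ fx ρ gZ, ρ gX v ∈ fx ρ gZ := by
    intro v hv
    rw [mem_fx, Zv h2] at hv ⊢
    rw [YX h2, hv]
  have hfW : ∀ v ∈ fx ρ gW, ρ gX v ∈ fx ρ gW := by
    intro v hv
    rw [mem_fx, Wv h2] at hv ⊢
    rw [YX h2, hv]
  have s1 := split_tri h2 ox W hX
  have s2 := split_tri h2 oy (W ⊓ kr ρ gX) (fun v hv => ⟨hY v hv.1, hkX v hv.2⟩)
  have s3 := split_tri h2 oz (W ⊓ kr ρ gX ⊓ kr ρ gY) (fun v hv => by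
    rw [Zv h2]
    exact ⟨⟨hX _ (hY v hv.1.1), hkX' _ (hkX v hv.1.2)⟩, hkY _ (hkY' v hv.2)⟩)
  have s4 := split_tri h2 ox (W ⊓ fx ρ gY) (fun v hv => ⟨hX v hv.1, hfY v hv.2⟩)
  have s5 := split_tri h2 ox (W ⊓ fx ρ gZ) (fun v hv => ⟨hX v hv.1, hfZ v hv.2⟩)
  have s6 := split_tri h2 ox (W ⊓ fx ρ gW) (fun v hv => ⟨hX v hv.1, hfW v hv.2⟩)
  -- identifications
  have i4 : W ⊓ fx ρ gY ⊓ fx ρ gX = W ⊓ fx ρ gX ⊓ fx ρ gY := by
    rw [inf_assoc, inf_comm (fx ρ gY), ← inf_assoc]
  have i4' : W ⊓ fx ρ gY ⊓ kr ρ gX = W ⊓ kr ρ gX ⊓ fx ρ gY := by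
    rw [inf_assoc, inf_comm (fx ρ gY), ← inf_assoc]
  have i5 : W ⊓ fx ρ gZ ⊓ fx ρ gX = W ⊓ fx ρ gX ⊓ fx ρ gY := by
    ext v
    constructor
    · rintro ⟨⟨h3, h4⟩, h5⟩
      refine ⟨⟨h3, h5⟩, ?_⟩
      rw [SetLike.mem_coe, mem_fx] at h4 h5 ⊢
      rw [Zv h2, ← YX h2, h5] at h4
      exact h4
    · rintro ⟨⟨h3, h4⟩, h5⟩
      refine ⟨⟨h3, ?_⟩, h4⟩
      rw [SetLike.mem_coe, mem_fx] at h4 h5 ⊢
      rw [Zv h2, h5, h4]
  have i6 : W ⊓ fx ρ gW ⊓ fx ρ gX = W ⊓ fx ρ gX ⊓ fx ρ gY := by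
    ext v
    constructor
    · rintro ⟨⟨h3, h4⟩, h5⟩
      refine ⟨⟨h3, h5⟩, ?_⟩
      rw [SetLike.mem_coe, mem_fx] at h4 h5 ⊢
      rw [Wv h2, ← YX h2, ← YX h2, h5, h5] at h4
      exact h4
    · rintro ⟨⟨h3, h4⟩, h5⟩
      refine ⟨⟨h3, ?_⟩, h4⟩
      rw [SetLike.mem_coe, mem_fx] at h4 h5 ⊢
      rw [Wv h2, h5, h4, h4]
  have i5' : W ⊓ fx ρ gZ ⊓ kr ρ gX = W ⊓ kr ρ gX ⊓ kr ρ gY ⊓ fx ρ gZ := by
    ext v
    constructor
    · rintro ⟨⟨h3, h4⟩, h5⟩
      exact ⟨⟨⟨h3, h5⟩, (mem_count h2 h5).1 h4⟩, h4⟩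
    · rintro ⟨⟨⟨h3, h4⟩, h5⟩, h6⟩
      exact ⟨⟨h3, h6⟩, h4⟩
  have i6' : W ⊓ fx ρ gW ⊓ kr ρ gX = W ⊓ kr ρ gX ⊓ kr ρ gY ⊓ kr ρ gZ := by
    ext v
    constructor
    · rintro ⟨⟨h3, h4⟩, h5⟩
      have h6 := (mem_count h2 h5).2.1 h4
      exact ⟨⟨⟨h3, h5⟩, h6.1⟩, h6.2⟩
    · rintro ⟨⟨⟨h3, h4⟩, h5⟩, h6⟩
      exact ⟨⟨h3, (mem_count h2 h4).2.2 h5 h6⟩, h4⟩
  rw [i4, i4'] at s4
  rw [i5, i5'] at s5
  rw [i6, i6'] at s6
  omega

/-- a conjugating element which preserves `W` -/
theorem fx_le {W : Submodule F V} {h g g' : Γ} (hr : h * g = g' * h) (hW : ∀ v ∈ W, ρ h v ∈ W) :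
    finrank F (W ⊓ fx ρ g : Submodule F V) ≤ finrank F (W ⊓ fx ρ g' : Submodule F V) := by
  apply le_of_inj (ρ h)
  · rintro v ⟨hv, hv'⟩
    refine ⟨hW v hv, ?_⟩
    rw [SetLike.mem_coe, mem_fx] at hv' ⊢
    rw [← req ρ hr, hv']
  · intro v _ h0
    exact rinj ρ h h0

/-- a subspace stable under `N` -/
structure StabN (ρ : Γ →* Module.End F V) (W : Submodule F V) : Prop where
  x : ∀ v ∈ W, ρ gX v ∈ W
  i : ∀ v ∈ W, ρ gi v ∈ W
  j : ∀ v ∈ W, ρ gj v ∈ W

namespace StabN

variable {W : Submodule F V} (hW : StabN ρ W)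
include hW

theorem t (v : V) (hv : v ∈ W) : ρ gt v ∈ W := by
  rw [← ii, rmul]
  exact hW.i _ (hW.i _ hv)

theorem i' (v : V) (hv : v ∈ W) : ρ gi⁻¹ v ∈ W := by
  have h1 : gi⁻¹ = gi * gt := by
    rw [inv_eq_iff_mul_eq_one, it, ← mul_assoc, ← ii]
    have := tt
    rw [← ii] at this
    simpa only [mul_assoc] using this
  rw [h1, rmul]
  exact hW.i _ (hW.t _ hv)

theorem j' (v : V) (hv : v ∈ W) : ρ gj⁻¹ v ∈ W := by
  have h1 : gj⁻¹ = gj * gt := by
    rw [inv_eq_iff_mul_eq_one, jt, ← mul_assoc, ← jj]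
    have := tt
    rw [← jj] at this
    simpa only [mul_assoc] using this
  rw [h1, rmul]
  exact hW.j _ (hW.t _ hv)

theorem y (v : V) (hv : v ∈ W) : ρ gY v ∈ W := by
  unfold gY
  rw [rmul, rmul]
  exact hW.i _ (hW.x _ (hW.i' _ hv))

theorem k (v : V) (hv : v ∈ W) : ρ gk v ∈ W := by
  unfold gk
  rw [rmul]
  exact hW.i _ (hW.j _ hv)

theorem k' (v : V) (hv : v ∈ W) : ρ gk⁻¹ v ∈ W := by
  unfold gk
  rw [mul_inv_rev, rmul]
  exact hW.j' _ (hW.i' _ hv)

/-- **The count.** -/
theorem count (h2 : (2 : F) = 0) : finrank F W + 3 * finrank F (W ⊓ fx ρ gX ⊓ fx ρ gY : Submodule F V)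
      = 4 * finrank F (W ⊓ fx ρ gX : Submodule F V) := by
  have h1 := Mt.count h2 W hW.x hW.y
  have e1 : finrank F (W ⊓ fx ρ gX : Submodule F V) = finrank F (W ⊓ fx ρ gY : Submodule F V) :=
    le_antisymm (fx_le iX hW.i) (fx_le (h := gi⁻¹) (by rw [inv_mul_eq_iff_eq_mul, ← mul_assoc, iX,
      mul_inv_cancel_right]) hW.i')
  have e2 : finrank F (W ⊓ fx ρ gX : Submodule F V) = finrank F (W ⊓ fx ρ gZ : Submodule F V) :=
    le_antisymm (fx_le jX hW.j) (fx_le (h := gj⁻¹) (by
      rw [inv_mul_eq_iff_eq_mul, ← mul_assoc, jX, mul_inv_cancel_right]; rfl) hW.j')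
  have e3 : finrank F (W ⊓ fx ρ gX : Submodule F V) = finrank F (W ⊓ fx ρ gW : Submodule F V) :=
    le_antisymm (fx_le kX hW.k) (fx_le (h := gk⁻¹) (by
      rw [inv_mul_eq_iff_eq_mul, ← mul_assoc, kX, mul_inv_cancel_right]; rfl) hW.k')
  omega

/-- **Parity.** -/
theorem even_kr (h2 : (2 : F) = 0) : Even (finrank F (W ⊓ kr ρ gX : Submodule F V)) := by
  set U := W ⊓ kr ρ gX with hU
  have hTX : ∀ v, ρ gt (ρ gX v) = ρ gX (ρ gX (ρ gt v)) := fun v => by rw [req ρ tx, Odd12.Xinv]
  have hTT : ∀ v, ρ gt (ρ gt v) = v := fun v => by rw [← rmul, tt, rone]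
  have hTU : ∀ v ∈ U, ρ gt v ∈ U := by
    rintro v ⟨hv, hv'⟩
    refine ⟨hW.t v hv, ?_⟩
    rw [SetLike.mem_coe, mem_kr] at hv' ⊢
    have h3 := congrArg (ρ gt) hv'
    rw [map_add, map_add, map_zero, hTX, hTX, hTX, XX3 h2] at h3
    rw [← h3]
    abel
  have hXU : ∀ v ∈ U, ρ gX v ∈ U := by
    rintro v ⟨hv, hv'⟩
    refine ⟨hW.x v hv, ?_⟩
    rw [SetLike.mem_coe, mem_kr] at hv' ⊢
    rw [← map_add, ← map_add, hv', map_zero]
  let N : Module.End F V := 1 + ρ gt
  have hN : ∀ v, N v = v + ρ gt v := fun v => rfl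
  let f : U →ₗ[F] U := N.restrict (fun v hv => U.add_mem hv (hTU v hv))
  have hf : ∀ u : U, (f u : V) = (u : V) + ρ gt u := fun u => rfl
  have h3 := LinearMap.finrank_range_add_finrank_ker f
  have h4 : LinearMap.range f = LinearMap.ker f := by
    apply le_antisymm
    · rintro _ ⟨u, rfl⟩
      rw [LinearMap.mem_ker]
      apply Subtype.ext
      rw [hf, hf, map_add, hTT]
      change (u : V) + ρ gt u + (ρ gt u + u) = 0
      have : (u : V) + ρ gt u + (ρ gt u + u) = ((u : V) + u) + (ρ gt u + ρ gt u) := by abel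
      rw [this, add_self_two h2, add_self_two h2, add_zero]
    · intro u hu
      rw [LinearMap.mem_ker] at hu
      have h5 : (u : V) + ρ gt u = 0 := congrArg Subtype.val hu
      have h6 : ρ gt (u : V) = u := by
        rw [← neg_eq_iff_add_eq_zero, neg_eq_two h2] at h5
        exact h5.symm
      refine ⟨⟨ρ gX u, hXU u u.2⟩, ?_⟩
      apply Subtype.ext
      rw [hf]
      change ρ gX (u : V) + ρ gt (ρ gX u) = u
      rw [hTX, h6]
      have h7 : (u : V) + ρ gX u + ρ gX (ρ gX u) = 0 := mem_kr.1 u.2.2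
      rw [add_assoc, ← neg_eq_iff_add_eq_zero, neg_eq_two h2] at h7
      exact h7.symm
  rw [h4] at h3
  exact ⟨_, h3.symm⟩

end StabN

end Cfsg.Agent.H932.Mt
end

-- part: H932/MtTwo
section
/-!
# Characteristic two: the restriction to `M₁₁` is irreducible (helper932)

`Ev12 ρ` : `ρ` irreducible of dimension 12 over a field of characteristic 2, `x` acts non-trivially.

* `Ev12.not_fix` : no vector is fixed by `x`, `t`, `c`;
* `Ev12.irrL` : subspaces stable under `LL = ⟨x, i, j, s, c⟩` are trivial;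
* `Ev12.exists_fixN` : a vector fixed by `N = ⟨x, i, j, s⟩`; `Ev12.dual`.
-/

set_option autoImplicit false
set_option linter.unusedSectionVars false

namespace Cfsg.Agent.H932.Mt

open Module

/-- the permutation of the lines -/
def lpe (y : Γ) : Equiv.Perm (Fin 12) where
  toFun i := idx (y.1.1 (pos i))
  invFun i := idx ((y⁻¹).1.1 (pos i))
  left_inv i := by
    have h1 : idx ((y⁻¹).1.1 (pos (idx (y.1.1 (pos i))))) = idx ((y⁻¹).1.1 (y.1.1 (pos i))) :=
      idx_congr y⁻¹ (by rw [idx_pos])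
    have h2 : (y⁻¹).1.1 (y.1.1 (pos i)) = pos i := y.1.1.symm_apply_apply _
    change idx ((y⁻¹).1.1 (pos (idx (y.1.1 (pos i))))) = i
    rw [h1, h2, idx_pos]
  right_inv i := by
    have h1 : idx (y.1.1 (pos (idx ((y⁻¹).1.1 (pos i))))) = idx (y.1.1 ((y⁻¹).1.1 (pos i))) :=
      idx_congr y (by rw [idx_pos])
    have h2 : y.1.1 ((y⁻¹).1.1 (pos i)) = pos i := y.1.1.apply_symm_apply _
    change idx (y.1.1 (pos (idx ((y⁻¹).1.1 (pos i))))) = i
    rw [h1, h2, idx_pos]

theorem lpe_apply (y : Γ) (i : Fin 12) : lpe y i = idx (y.1.1 (pos i)) := rfl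

theorem lpe_mul (a c : Γ) (i : Fin 12) : lpe (a * c) i = lpe a (lpe c i) := by
  rw [lpe_apply, lpe_apply, lpe_apply]
  change idx (a.1.1 (c.1.1 (pos i))) = _
  apply idx_congr
  rw [idx_pos]

/-- the stabiliser of a row, given by generators -/
def LL : Subgroup Γ := Subgroup.closure {gX, gi, gj, gS, gc}

theorem X_mem : gX ∈ LL := Subgroup.subset_closure (by simp)
theorem i_mem : gi ∈ LL := Subgroup.subset_closure (by simp)
theorem j_mem : gj ∈ LL := Subgroup.subset_closure (by simp)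
theorem S_mem : gS ∈ LL := Subgroup.subset_closure (by simp)
theorem c_mem : gc ∈ LL := Subgroup.subset_closure (by simp)
theorem evL_c0 (w : List ℕ) : evL (0 :: w) = gX * evL w := by with_unfolding_all rfl
theorem evL_c1 (w : List ℕ) : evL (1 :: w) = gi * evL w := by with_unfolding_all rfl
theorem evL_c2 (w : List ℕ) : evL (2 :: w) = gj * evL w := by with_unfolding_all rfl
theorem evL_c3 (w : List ℕ) : evL (3 :: w) = gS * evL w := by with_unfolding_all rfl
theorem evL_c4 (w : List ℕ) : evL (4 :: w) = gc * evL w := by with_unfolding_all rfl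
theorem evL_c5 (n : ℕ) (w : List ℕ) : evL ((n + 5) :: w) = neg * evL w := by with_unfolding_all rfl
theorem evT_c0 (w : List ℕ) : evT (0 :: w) = lX * evT w := by with_unfolding_all rfl
theorem evT_c1 (w : List ℕ) : evT (1 :: w) = lI * evT w := by with_unfolding_all rfl
theorem evT_c2 (w : List ℕ) : evT (2 :: w) = lJ * evT w := by with_unfolding_all rfl
theorem evT_c3 (w : List ℕ) : evT (3 :: w) = lS * evT w := by with_unfolding_all rfl
theorem evT_c4 (w : List ℕ) : evT (4 :: w) = lC * evT w := by with_unfolding_all rfl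
theorem evT_c5 (n : ℕ) (w : List ℕ) : evT ((n + 5) :: w) = lN * evT w := by with_unfolding_all rfl

theorem evT_eq (w : List ℕ) : (evL w).1.1 = evT w := by
  induction w with
  | nil => rfl
  | cons a w ih =>
    have key : ∀ (g h : Γ), (g * h).1.1 = g.1.1 * h.1.1 := fun _ _ => rfl
    rcases a with _ | _ | _ | _ | _ | a
    · rw [evL_c0, evT_c0, key, ih, lX_eq]
    · rw [evL_c1, evT_c1, key, ih, lI_eq]
    · rw [evL_c2, evT_c2, key, ih, lJ_eq]
    · rw [evL_c3, evT_c3, key, ih, lS_eq]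
    · rw [evL_c4, evT_c4, key, ih, lC_eq]
    · rw [evL_c5, evT_c5, key, ih, lN_eq]

theorem evL_mem (w : List ℕ) (hw : ∀ a ∈ w, a < 5) : evL w ∈ LL := by
  induction w with
  | nil => exact LL.one_mem
  | cons a w ih =>
    have ih' := ih (fun b hb => hw b (List.mem_cons_of_mem _ hb))
    have ha := hw a List.mem_cons_self
    rcases a with _ | _ | _ | _ | _ | a
    · rw [evL_c0]; exact LL.mul_mem X_mem ih'
    · rw [evL_c1]; exact LL.mul_mem i_mem ih'
    · rw [evL_c2]; exact LL.mul_mem j_mem ih'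
    · rw [evL_c3]; exact LL.mul_mem S_mem ih'
    · rw [evL_c4]; exact LL.mul_mem c_mem ih'
    · omega

variable {F V : Type*} [Field F] [AddCommGroup V] [Module F V] [FiniteDimensional F V]
variable {ρ : Γ →* Module.End F V}

/-- stable under `LL` -/
def StabL (ρ : Γ →* Module.End F V) (W : Submodule F V) : Prop := ∀ g ∈ LL, ∀ v ∈ W, ρ g v ∈ W

theorem StabL.n {W : Submodule F V} (h : StabL ρ W) : StabN ρ W :=
  ⟨h _ X_mem, h _ i_mem, h _ j_mem⟩

theorem StabL.triv {W : Submodule F V} (h : StabL ρ W) (hx : ∀ v ∈ W, ρ gX v = v) :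
    ∀ v ∈ W, ρ gt v = v ∧ ρ gc v = v := by
  have key : ∀ g ∈ LL, ∀ v ∈ W, ρ (g * gX * g⁻¹) v = v := by
    intro g hg v hv
    rw [rmul, rmul, hx _ (h _ (LL.inv_mem hg) v hv), rinv']
  intro v hv
  have m1 := evL_mem [4, 3, 4] (by decide)
  have m2 := evL_mem [4, 2, 0, 0, 4] (by decide)
  have m3 := evL_mem [2, 4, 3, 4] (by decide)
  have m4 := evL_mem [3, 2, 4] (by decide)
  constructor
  · rw [← t_two, rmul, key _ m2 v hv, key _ m1 v hv]
  · rw [← c_two, rmul, key _ m4 v hv, key _ m3 v hv]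

theorem StabL.triv_quot {W : Submodule F V} (h : StabL ρ W) (hx : ∀ v, ρ gX v - v ∈ W) :
    ∀ v, ρ gt v - v ∈ W ∧ ρ gc v - v ∈ W := by
  have key : ∀ g ∈ LL, ∀ v, ρ (g * gX * g⁻¹) v - v ∈ W := by
    intro g hg v
    have h1 := h g hg _ (hx (ρ g⁻¹ v))
    rw [map_sub, rinv'] at h1
    rwa [rmul, rmul]
  have key2 : ∀ a c : Γ, (∀ v, ρ a v - v ∈ W) → (∀ v, ρ c v - v ∈ W) → ∀ v, ρ (a * c) v - v ∈ W := by
    intro a c ha hc v
    rw [rmul]
    have h1 : ρ a (ρ c v) - v = (ρ a (ρ c v) - ρ c v) + (ρ c v - v) := by abel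
    rw [h1]
    exact W.add_mem (ha _) (hc v)
  intro v
  have m1 := evL_mem [4, 3, 4] (by decide)
  have m2 := evL_mem [4, 2, 0, 0, 4] (by decide)
  have m3 := evL_mem [2, 4, 3, 4] (by decide)
  have m4 := evL_mem [3, 2, 4] (by decide)
  constructor
  · have h1 := key2 _ _ (key _ m1) (key _ m2) v
    rwa [t_two] at h1
  · have h1 := key2 _ _ (key _ m3) (key _ m4) v
    rwa [c_two] at h1

/-- irreducible of dimension 12, characteristic 2 -/
structure Ev12 (ρ : Γ →* Module.End F V) : Prop where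
  two : (2 : F) = 0
  dim : finrank F V = 12
  irr : Irr ρ
  nt : ∃ v, ρ gX v ≠ v

theorem Irr.dual (hI : Irr ρ) : Irr ((Mt.dual ρ :)) := by
  intro U hU
  rcases hI U.dualCoannihilator (by
    intro g v hv
    rw [Submodule.mem_dualCoannihilator] at hv ⊢
    intro f hf
    have h1 := hU g⁻¹ f hf
    have h2 := hv _ h1
    rw [dual_apply, inv_inv] at h2
    exact h2) with h | h
  · right
    rw [← Subspace.dualCoannihilator_dualAnnihilator_eq (W := U), h, Submodule.dualAnnihilator_bot]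
  · left
    rw [← Subspace.dualCoannihilator_dualAnnihilator_eq (W := U), h, Submodule.dualAnnihilator_top]

namespace Ev12

variable (H : Ev12 ρ)
include H

theorem neg_one : ρ neg = 1 := by
  rcases neg_cases H.irr with h | h
  · exact h
  · rw [h]
    apply LinearMap.ext
    intro v
    exact neg_eq_two H.two v

theorem neg_v (v : V) : ρ neg v = v := by
  rw [H.neg_one]
  rfl

theorem dual : Ev12 ((Mt.dual ρ :)) where
  two := H.two
  dim := by rw [Subspace.dual_finrank_eq, H.dim]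
  irr := H.irr.dual
  nt := by
    by_contra hne
    rw [not_exists] at hne
    obtain ⟨v, hv⟩ := H.nt
    apply hv
    have h1 : ∀ f : Module.Dual F V, f (ρ gX v - v) = 0 := by
      intro f
      have h3 := not_not.1 (hne f)
      have h4 : Mt.dual ρ gX f (ρ gX v) = f (ρ gX v) := by rw [h3]
      rw [dual_apply, rinv] at h4
      rw [map_sub, h4, sub_self]
    exact sub_eq_zero.1 ((Module.forall_dual_apply_eq_zero_iff F _).1 h1)

/-- no vector is fixed by `x`, `t`, `c` -/
theorem not_fix {v0 : V} (hv0 : v0 ≠ 0) (hX : ρ gX v0 = v0) (hT : ρ gt v0 = v0) (hC : ρ gc v0 = v0) : False := by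
  have hli := linInd H.irr H.dim hv0 (Or.inl H.neg_one) hX hT hC
  have hidx : ∀ k, vec ρ v0 k = vec ρ v0 (pos (idx k)) := by
    intro k
    rcases eq_pos_or k with hk | hk
    · rw [← hk]
    · nth_rewrite 1 [hk]
      rw [vec_ng, H.neg_v]
  set w : V := ∑ i : Fin 12, vec ρ v0 (pos i) with hw
  have hw0 : w ≠ 0 := by
    intro h0
    have h4 := Fintype.linearIndependent_iff.1 hli (fun _ => 1) (by simpa only [one_smul] using h0) 0
    exact one_ne_zero h4
  have hinv : ∀ g, ρ g w = w := by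
    intro g
    rw [hw, map_sum]
    simp only [act hX hT hC]
    rw [← Equiv.sum_comp (lpe g) (fun i => vec ρ v0 (pos i))]
    apply Finset.sum_congr rfl
    intro i _
    rw [hidx, lpe_apply]
  rcases H.irr (Submodule.span F {w}) (by
    intro g v hv
    obtain ⟨a, rfl⟩ := Submodule.mem_span_singleton.1 hv
    rw [map_smul, hinv]
    exact Submodule.mem_span_singleton.2 ⟨a, rfl⟩) with h | h
  · rw [Submodule.span_singleton_eq_bot] at h
    exact hw0 h
  · have h5 := finrank_span_singleton (K := F) hw0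
    rw [h, finrank_top, H.dim] at h5
    norm_num at h5

theorem stab_top : StabL ρ (⊤ : Submodule F V) := fun _ _ _ _ => Submodule.mem_top

theorem fx_ne : finrank F (fx ρ gX) ≠ 12 := by
  intro h
  obtain ⟨v, hv⟩ := H.nt
  apply hv
  have h1 : fx ρ gX = ⊤ := Submodule.eq_top_of_finrank_eq (by rw [h, H.dim])
  have h2 : v ∈ fx ρ gX := by rw [h1]; trivial
  exact mem_fx.1 h2

theorem dims : finrank F (fx ρ gX) = 6 ∧ finrank F (fx ρ gX ⊓ fx ρ gY : Submodule F V) = 4 ∧ finrank F (kr ρ gX) = 6 := by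
  have h1 := H.stab_top.n.count H.two
  have h2 := H.stab_top.n.even_kr H.two
  have h3 := split_tri H.two (ρ := ρ) (ord3_of x3) ⊤ (fun _ _ => Submodule.mem_top)
  rw [top_inf_eq] at h1 h2 h3
  rw [top_inf_eq] at h3
  rw [finrank_top, H.dim] at h1 h3
  obtain ⟨m, hm⟩ := h2
  have h4 := H.fx_ne
  omega

/-- **The restriction to `LL` is irreducible.** -/
theorem irrL {W : Submodule F V} (hW : StabL ρ W) : W = ⊥ ∨ W = ⊤ := by
  obtain ⟨d1, d2, d3⟩ := H.dims
  have h1 := hW.n.count H.two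
  obtain ⟨m, h2⟩ := hW.n.even_kr H.two
  have h3 := split_tri H.two (ρ := ρ) (ord3_of x3) W hW.n.x
  have h4 : finrank F (W ⊓ kr ρ gX : Submodule F V) ≤ finrank F (kr ρ gX) := Submodule.finrank_mono inf_le_right
  have h5 : finrank F (W ⊓ kr ρ gX : Submodule F V) = 0 ∨ finrank F (W ⊓ kr ρ gX : Submodule F V) = 6 := by omega
  rcases h5 with h5 | h5
  · -- `x` is trivial on `W`
    left
    have h6 : W ⊓ fx ρ gX = W := Submodule.eq_of_le_of_finrank_eq inf_le_left (by (clear * - h3 h5; omega))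
    have hx : ∀ v ∈ W, ρ gX v = v := by
      intro v hv
      rw [← h6] at hv
      exact mem_fx.1 hv.2
    rw [eq_bot_iff]
    intro v hv
    by_contra hv0
    obtain ⟨h7, h8⟩ := hW.triv hx v hv
    exact H.not_fix hv0 (hx v hv) h7 h8
  · -- `x` is trivial on `V / W`
    right
    have h6 : W ⊓ kr ρ gX = kr ρ gX := Submodule.eq_of_le_of_finrank_eq inf_le_right (by (clear * - d3 h5; omega))
    have hx : ∀ v, ρ gX v - v ∈ W := by
      intro v
      have h7 : ρ gX v - v ∈ kr ρ gX := by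
        rw [mem_kr, map_sub, map_sub, XX3 H.two]
        abel
      rw [← h6] at h7
      exact h7.1
    have h8 := hW.triv_quot hx
    by_contra hne
    have h9 : W < ⊤ := lt_top_iff_ne_top.2 hne
    obtain ⟨f, hf0, hf⟩ := Submodule.exists_le_ker_of_lt_top W h9
    apply H.dual.not_fix hf0
    · apply LinearMap.ext
      intro v
      rw [dual_apply]
      have h10 := hf (hx (ρ gX⁻¹ v))
      rw [rinv', LinearMap.mem_ker, map_sub, sub_eq_zero] at h10
      exact h10.symm
    · apply LinearMap.ext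
      intro v
      rw [dual_apply]
      have h10 := hf (h8 (ρ gt⁻¹ v)).1
      rw [rinv', LinearMap.mem_ker, map_sub, sub_eq_zero] at h10
      exact h10.symm
    · apply LinearMap.ext
      intro v
      rw [dual_apply]
      have h10 := hf (h8 (ρ gc⁻¹ v)).2
      rw [rinv', LinearMap.mem_ker, map_sub, sub_eq_zero] at h10
      exact h10.symm

/-- fixed vectors of an involution -/
theorem fix2 (P : V → Prop) (g : Γ) {v : V} (hv0 : v ≠ 0) (hv : P v) (hadd : ∀ a c, P a → P c → P (a + c))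
    (hg : ∀ a, P a → P (ρ g a)) (hgg : ∀ a, P a → ρ g (ρ g a) = a) : ∃ w, w ≠ 0 ∧ P w ∧ ρ g w = w := by
  by_cases h : ρ g v = v
  · exact ⟨v, hv0, hv, h⟩
  · refine ⟨v + ρ g v, ?_, hadd _ _ hv (hg v hv), ?_⟩
    · intro h0
      apply h
      rw [← neg_eq_iff_add_eq_zero, neg_eq_two H.two] at h0
      exact h0.symm
    · rw [map_add, hgg v hv, add_comm]

/-- **A vector fixed by `N`.** -/
theorem exists_fixN : ∃ v : V, v ≠ 0 ∧ ρ gX v = v ∧ ρ gi v = v ∧ ρ gj v = v ∧ ρ gS v = v := by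
  obtain ⟨d1, d2, d3⟩ := H.dims
  have h1 : fx ρ gX ⊓ fx ρ gY ≠ ⊥ := by
    intro h
    rw [h, finrank_bot] at d2
    norm_num at d2
  obtain ⟨v0, hv0, hne0⟩ := (Submodule.ne_bot_iff _).1 h1
  have hx0 : ρ gX v0 = v0 := mem_fx.1 hv0.1
  have hy0 : ρ gY v0 = v0 := mem_fx.1 hv0.2
  have inv : ∀ {g : Γ} {a : V}, ρ g a = a → ρ g⁻¹ a = a := by
    intro g a ha
    have h2 := rinv ρ g a
    rwa [ha] at h2
  -- `t`
  obtain ⟨v1, hne1, ⟨hx1, hy1⟩, ht1⟩ := H.fix2 (fun v => ρ gX v = v ∧ ρ gY v = v) gt hne0 ⟨hx0, hy0⟩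
    (fun a c ha hc => ⟨by rw [map_add, ha.1, hc.1], by rw [map_add, ha.2, hc.2]⟩)
    (fun a ha => by
      have e1 : ρ gt a = ρ gX (ρ gt a) := by
        have h4 := req ρ tx a
        rw [ha.1] at h4
        have h5 := congrArg (ρ gX) h4
        rw [rinv'] at h5
        exact h5.symm
      have e2 : ρ gt a = ρ gY (ρ gt a) := by
        have h4 := req ρ tYr a
        rw [ha.2] at h4
        have h5 := congrArg (ρ gY) h4
        rw [rinv'] at h5
        exact h5.symm
      exact ⟨e1.symm, e2.symm⟩)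
    (fun a _ => by rw [← rmul, tt, rone])
  -- `i`
  obtain ⟨v2, hne2, ⟨hx2, hy2, ht2⟩, hi2⟩ := H.fix2 (fun v => ρ gX v = v ∧ ρ gY v = v ∧ ρ gt v = v) gi hne1
    ⟨hx1, hy1, ht1⟩
    (fun a c ha hc => ⟨by rw [map_add, ha.1, hc.1], by rw [map_add, ha.2.1, hc.2.1], by rw [map_add, ha.2.2, hc.2.2]⟩)
    (fun a ha => by
      refine ⟨?_, ?_, ?_⟩
      · have h4 := req ρ iY a
        rw [ha.2.1] at h4
        have h5 := congrArg (ρ gX) h4
        rw [rinv'] at h5
        exact h5
      · rw [← req ρ iX, ha.1]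
      · rw [← req ρ it, ha.2.2])
    (fun a ha => by rw [← rmul, ii, ha.2.2])
  -- `j`
  obtain ⟨v3, hne3, ⟨hx3, hy3, ht3, hi3⟩, hj3⟩ := H.fix2
    (fun v => ρ gX v = v ∧ ρ gY v = v ∧ ρ gt v = v ∧ ρ gi v = v) gj hne2 ⟨hx2, hy2, ht2, hi2⟩
    (fun a c ha hc => ⟨by rw [map_add, ha.1, hc.1], by rw [map_add, ha.2.1, hc.2.1],
      by rw [map_add, ha.2.2.1, hc.2.2.1], by rw [map_add, ha.2.2.2, hc.2.2.2]⟩)
    (fun a ha => by
      obtain ⟨ax, ay, at1, ai⟩ := ha
      have f1 : ρ (gX * gY) (ρ gj a) = ρ gj a := by rw [← req ρ jX, ax]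
      have f2 : ρ (gX * gY⁻¹) (ρ gj a) = ρ gj a := by rw [← req ρ jY, ay]
      -- `x y` and `x y⁻¹` fix : so `y² = (x y⁻¹)⁻¹ x y` fixes
      have f3 : ρ gY (ρ gj a) = ρ gj a := by
        have h3 : gY = (gX * gY⁻¹) * (gX * gY) ⁻¹ := by
          apply gext
          decide +kernel
        rw [h3, rmul, inv f1, f2]
      have f4 : ρ gX (ρ gj a) = ρ gj a := by
        have h3 : gX = (gX * gY) * gY⁻¹ := by rw [mul_inv_cancel_right]
        rw [h3, rmul, inv f3, f1]
      refine ⟨f4, f3, ?_, ?_⟩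
      · rw [← req ρ jt, at1]
      · have h4 := req ρ ji a
        rw [ai] at h4
        have h5 := congrArg (ρ gi) h4
        rw [rinv'] at h5
        exact h5)
    (fun a ha => by rw [← rmul, jj, ha.2.2.1])
  -- `s`
  obtain ⟨v4, hne4, ⟨hx4, hy4, ht4, hi4, hj4⟩, hs4⟩ := H.fix2
    (fun v => ρ gX v = v ∧ ρ gY v = v ∧ ρ gt v = v ∧ ρ gi v = v ∧ ρ gj v = v) gS hne3 ⟨hx3, hy3, ht3, hi3, hj3⟩
    (fun a c ha hc => ⟨by rw [map_add, ha.1, hc.1], by rw [map_add, ha.2.1, hc.2.1],
      by rw [map_add, ha.2.2.1, hc.2.2.1], by rw [map_add, ha.2.2.2.1, hc.2.2.2.1],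
      by rw [map_add, ha.2.2.2.2, hc.2.2.2.2]⟩)
    (fun a ha => by
      obtain ⟨ax, ay, at1, ai, aj⟩ := ha
      refine ⟨?_, ?_, ?_, ?_, ?_⟩
      · rw [← req ρ sX, ax]
      · have h4 := req ρ sY a
        rw [ay] at h4
        have h5 := congrArg (ρ gY) h4
        rw [rinv'] at h5
        exact h5
      · rw [← req ρ st', at1]
      · rw [req ρ iS, rmul, rmul, ai, ai, ai]
      · rw [req ρ jS, rmul, ai, aj])
    (fun a _ => by rw [← rmul, sS, rone])
  exact ⟨v4, hne4, hx4, hi4, hj4, hs4⟩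

end Ev12

end Cfsg.Agent.H932.Mt
end

-- part: H932/MtTwoF
section
/-!
# Characteristic two: `M₁₂` has no irreducible representation of dimension 12 (helper932)

* `Ev12.false`.
-/

set_option autoImplicit false
set_option linter.unusedSectionVars false

namespace Cfsg.Agent.H932.Mt

open Module

theorem lpe_X (a : Fin 12) : lpe gX a = li lX a := by rw [lpe_apply, lX_eq]; rfl
theorem lpe_i (a : Fin 12) : lpe gi a = li lI a := by rw [lpe_apply, lI_eq]; rfl
theorem lpe_j (a : Fin 12) : lpe gj a = li lJ a := by rw [lpe_apply, lJ_eq]; rfl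
theorem lpe_S (a : Fin 12) : lpe gS a = li lS a := by rw [lpe_apply, lS_eq]; rfl
theorem lpe_c (a : Fin 12) : lpe gc a = li lC a := by rw [lpe_apply, lC_eq]; rfl
theorem lpe_neg (a : Fin 12) : lpe neg a = a := by rw [lpe_apply, neg_apply, idx_ng, idx_pos]
theorem lpe_one (a : Fin 12) : lpe 1 a = a := idx_pos a
theorem lpe_evL (w : List ℕ) (a : Fin 12) : lpe (evL w) a = li (evT w) a := by
  rw [lpe_apply, evT_eq]; rfl

theorem lpe_inv (g : Γ) (a : Fin 12) : lpe g (lpe g⁻¹ a) = a := by rw [← lpe_mul, mul_inv_cancel, lpe_one]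
theorem lpe_inv' (g : Γ) (a : Fin 12) : lpe g⁻¹ (lpe g a) = a := by rw [← lpe_mul, inv_mul_cancel, lpe_one]

/-- fixing the first row -/
def fix0 : Subgroup Γ where
  carrier := {g | lpe g 0 = 0}
  one_mem' := lpe_one 0
  mul_mem' := by
    intro a c ha hc
    change lpe (a * c) 0 = 0
    rw [lpe_mul, show lpe c 0 = 0 from hc, show lpe a 0 = 0 from ha]
  inv_mem' := by
    intro a ha
    change lpe a⁻¹ 0 = 0
    nth_rewrite 1 [← show lpe a 0 = 0 from ha]
    rw [lpe_inv']

theorem LL_le : LL ≤ fix0 := by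
  unfold LL
  rw [Subgroup.closure_le]
  rintro g (rfl | rfl | rfl | rfl | rfl)
  · exact (lpe_X 0).trans li_zero.1
  · exact (lpe_i 0).trans li_zero.2.1
  · exact (lpe_j 0).trans li_zero.2.2.1
  · exact (lpe_S 0).trans li_zero.2.2.2.1
  · exact (lpe_c 0).trans li_zero.2.2.2.2

theorem ne_zero_of {g : Γ} (hg : g ∈ fix0) {a : Fin 12} (ha : a ≠ 0) : lpe g a ≠ 0 := by
  intro h
  apply ha
  apply (lpe g).injective
  rw [h]
  exact (show lpe g 0 = 0 from hg).symm

theorem rqw_comm {a b : Fin 12} (h : a ≠ b) : rqw a b = rqw b a := by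
  unfold rqw
  rcases lt_or_gt_of_ne h with h1 | h1
  · rw [if_pos h1, if_neg (not_lt_of_gt h1)]
  · rw [if_neg (not_lt_of_gt h1), if_pos h1]

variable {F V : Type*} [Field F] [AddCommGroup V] [Module F V] [FiniteDimensional F V]
variable {ρ : Γ →* Module.End F V} {v : V}

/-- fixed by `N` -/
structure FixN (ρ : Γ →* Module.End F V) (v : V) : Prop where
  x : ρ gX v = v
  i : ρ gi v = v
  j : ρ gj v = v
  s : ρ gS v = v
  n : ∀ w, ρ neg w = w

/-- the images of `v` -/
def vp (ρ : Γ →* Module.End F V) (v : V) (a b : Fin 12) : V := ρ (evL (rqw a b)) v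

theorem vp_comm {a b : Fin 12} (h : a ≠ b) : vp ρ v a b = vp ρ v b a := by
  unfold vp
  rw [rqw_comm h]

theorem evN_fix (hN : FixN ρ v) (w : List ℕ) (hw : isN w = true) : ρ (evL w) v = v := by
  induction w with
  | nil => exact rone ρ v
  | cons a w ih =>
    unfold isN at hw
    rw [List.all_cons, Bool.and_eq_true] at hw
    have ih' := ih hw.2
    have ha := hw.1
    rcases a with _ | _ | _ | _ | _ | a
    · rw [evL_c0, rmul, ih', hN.x]
    · rw [evL_c1, rmul, ih', hN.i]
    · rw [evL_c2, rmul, ih', hN.j]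
    · rw [evL_c3, rmul, ih', hN.s]
    · simp at ha
    · rw [evL_c5, rmul, ih', hN.n]

theorem act3_lt (hN : FixN ρ v) {g : Γ} {π : Equiv.Perm (Fin 24)} (hg : g.1.1 = π) {t : List (List (List ℕ))}
    (ht : ∀ a b : Fin 12, isN (gt2 [] t a b) = true) {a b : Fin 12} (hab : a < b) (hs : schk π t a b = true) :
    ρ g (vp ρ v a b) = vp ρ v (lpe g a) (lpe g b) := by
  unfold schk at hs
  rw [decide_eq_true_eq] at hs
  have h1 : g * evL (gt2 [] trq a b) = evL (rqw (li π a) (li π b)) * evL (gt2 [] t a b) := by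
    apply gext
    change g.1.1 * (evL _).1.1 = (evL _).1.1 * (evL _).1.1
    rw [hg, evT_eq, evT_eq, evT_eq, hs]
  have h2 : lpe g a = li π a := by rw [lpe_apply, hg]; rfl
  have h3 : lpe g b = li π b := by rw [lpe_apply, hg]; rfl
  unfold vp
  rw [h2, h3]
  have h4 : rqw a b = gt2 [] trq a b := by
    unfold rqw
    rw [if_pos hab]
  rw [h4, ← rmul, h1, rmul, evN_fix hN _ (ht a b)]

theorem act3_gen (hN : FixN ρ v) {g : Γ} {π : Equiv.Perm (Fin 24)} (hg : g.1.1 = π) {t : List (List (List ℕ))}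
    (ht : ∀ a b : Fin 12, isN (gt2 [] t a b) = true) (hs : ∀ a b : Fin 12, 0 < a → a < b → schk π t a b = true)
    {a b : Fin 12} (ha : a ≠ 0) (hb : b ≠ 0) (hab : a ≠ b) :
    ρ g (vp ρ v a b) = vp ρ v (lpe g a) (lpe g b) := by
  rcases lt_or_gt_of_ne hab with h | h
  · exact act3_lt hN hg ht h (hs a b (Fin.pos_iff_ne_zero.2 ha) h)
  · rw [vp_comm hab, act3_lt hN hg ht h (hs b a (Fin.pos_iff_ne_zero.2 hb) h)]
    exact vp_comm (fun h' => hab ((lpe g).injective h').symm)

/-- elements acting as expected -/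
def good (ρ : Γ →* Module.End F V) (v : V) : Subgroup Γ where
  carrier := {g | lpe g 0 = 0 ∧ ∀ a b, a ≠ 0 → b ≠ 0 → a ≠ b → ρ g (vp ρ v a b) = vp ρ v (lpe g a) (lpe g b)}
  one_mem' := ⟨lpe_one 0, fun a b _ _ _ => by rw [rone, lpe_one, lpe_one]⟩
  mul_mem' := by
    rintro a c ⟨ha, ha'⟩ ⟨hc, hc'⟩
    refine ⟨fix0.mul_mem ha hc, fun p q hp hq hpq => ?_⟩
    rw [rmul, hc' p q hp hq hpq, ha' _ _ (ne_zero_of hc hp) (ne_zero_of hc hq) (fun h => hpq ((lpe c).injective h)),
      lpe_mul, lpe_mul]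
  inv_mem' := by
    rintro a ⟨ha, ha'⟩
    have hi : a⁻¹ ∈ fix0 := fix0.inv_mem ha
    refine ⟨hi, fun p q hp hq hpq => ?_⟩
    have h1 := ha' _ _ (ne_zero_of hi hp) (ne_zero_of hi hq) (fun h => hpq ((lpe a⁻¹).injective h))
    rw [lpe_inv, lpe_inv] at h1
    rw [← h1, rinv]

theorem good_all (hN : FixN ρ v) : gX ∈ good ρ v ∧ gi ∈ good ρ v ∧ gj ∈ good ρ v ∧ gS ∈ good ρ v ∧ gc ∈ good ρ v ∧
    neg ∈ good ρ v := by
  refine ⟨⟨(lpe_X 0).trans li_zero.1, fun a b ha hb hab => ?_⟩, ⟨(lpe_i 0).trans li_zero.2.1, fun a b ha hb hab => ?_⟩,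
    ⟨(lpe_j 0).trans li_zero.2.2.1, fun a b ha hb hab => ?_⟩, ⟨(lpe_S 0).trans li_zero.2.2.2.1, fun a b ha hb hab => ?_⟩,
    ⟨(lpe_c 0).trans li_zero.2.2.2.2, fun a b ha hb hab => ?_⟩, ⟨lpe_neg 0, fun a b ha hb hab => ?_⟩⟩
  · exact act3_gen hN lX_eq (fun a b => (tq_N a b).1) sq0 ha hb hab
  · exact act3_gen hN lI_eq (fun a b => (tq_N a b).2.1) sq1 ha hb hab
  · exact act3_gen hN lJ_eq (fun a b => (tq_N a b).2.2.1) sq2 ha hb hab
  · exact act3_gen hN lS_eq (fun a b => (tq_N a b).2.2.2.1) sq3 ha hb hab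
  · exact act3_gen hN lC_eq (fun a b => (tq_N a b).2.2.2.2) sq4 ha hb hab
  · rw [hN.n, lpe_neg, lpe_neg]

theorem good_LL (hN : FixN ρ v) : LL ≤ good ρ v := by
  obtain ⟨h1, h2, h3, h4, h5, -⟩ := good_all hN
  unfold LL
  rw [Subgroup.closure_le]
  rintro g (rfl | rfl | rfl | rfl | rfl)
  · exact h1
  · exact h2
  · exact h3
  · exact h4
  · exact h5

theorem good_evL (hN : FixN ρ v) (w : List ℕ) : evL w ∈ good ρ v := by
  obtain ⟨h1, h2, h3, h4, h5, h6⟩ := good_all hN
  induction w with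
  | nil => exact Subgroup.one_mem _
  | cons a w ih =>
    rcases a with _ | _ | _ | _ | _ | a
    · rw [evL_c0]; exact Subgroup.mul_mem _ h1 ih
    · rw [evL_c1]; exact Subgroup.mul_mem _ h2 ih
    · rw [evL_c2]; exact Subgroup.mul_mem _ h3 ih
    · rw [evL_c3]; exact Subgroup.mul_mem _ h4 ih
    · rw [evL_c4]; exact Subgroup.mul_mem _ h5 ih
    · rw [evL_c5]; exact Subgroup.mul_mem _ h6 ih

/-- the data of the argument -/
structure Dt2 (ρ : Γ →* Module.End F V) (v : V) (φ : Module.Dual F V) : Prop where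
  ev : Ev12 ρ
  v0 : v ≠ 0
  φ0 : φ ≠ 0
  fix : FixN ρ v
  fX : ∀ w, φ (ρ gX w) = φ w
  fi : ∀ w, φ (ρ gi w) = φ w
  fj : ∀ w, φ (ρ gj w) = φ w
  fS : ∀ w, φ (ρ gS w) = φ w

/-- the indicator of `{1, 2}` -/
def chi2 (F : Type*) [Field F] (a : Fin 12) : F := if a = 1 ∨ a = 2 then 1 else 0

/-- thirteen pairs -/
def pa (n : Fin 13) : Fin 12 := if (n : ℕ) < 8 then 3 else 4
/-- thirteen pairs -/
def pb (n : Fin 13) : Fin 12 := if (n : ℕ) < 8 then ⟨(n + 4) % 12, Nat.mod_lt _ (by norm_num)⟩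
  else ⟨(n - 3) % 12, Nat.mod_lt _ (by norm_num)⟩

theorem pab : ∀ n, pa n ≠ 0 ∧ pa n ≠ 1 ∧ pa n ≠ 2 ∧ pb n ≠ 0 ∧ pb n ≠ 1 ∧ pb n ≠ 2 ∧ pa n < pb n := by decide +kernel
theorem pab_eq : ∀ m n, ((pb n = pa m ∨ pb n = pb m) ∧ (pa n = pa m ∨ pa n = pb m)) ↔ m = n := by decide +kernel
theorem trq_lt : ∀ n : Fin 13, ∀ a ∈ gt2 [] trq (pa n) (pb n), a < 5 := by decide +kernel

namespace Dt2

variable {φ : Module.Dual F V} (D : Dt2 ρ v φ)
include D

theorem sep {w : V} (hw : ∀ g ∈ LL, φ (ρ g w) = 0) : w = 0 := by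
  let W : Submodule F V :=
    { carrier := {w | ∀ g ∈ LL, φ (ρ g w) = 0}
      add_mem' := fun {a b} ha hb g hg => by rw [map_add, map_add, ha g hg, hb g hg, add_zero]
      zero_mem' := fun g _ => by rw [map_zero, map_zero]
      smul_mem' := fun c a ha g hg => by rw [map_smul, map_smul, ha g hg, smul_zero] }
  rcases D.ev.irrL (W := W) (by
    intro g hg a ha h hh
    rw [← rmul]
    exact ha _ (LL.mul_mem hh hg)) with h | h
  · have h1 : w ∈ W := hw
    rw [h] at h1
    exact h1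
  · exfalso
    apply D.φ0
    apply LinearMap.ext
    intro a
    have h1 : a ∈ W := by rw [h]; trivial
    have h2 := h1 1 LL.one_mem
    rw [rone] at h2
    exact h2

theorem fN (w : List ℕ) (hw : isN w = true) (x : V) : φ (ρ (evL w) x) = φ x := by
  induction w with
  | nil =>
    have h1 : evL [] = 1 := by with_unfolding_all rfl
    rw [h1, rone]
  | cons a w ih =>
    unfold isN at hw
    rw [List.all_cons, Bool.and_eq_true] at hw
    have ih' := ih hw.2
    have ha := hw.1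
    rcases a with _ | _ | _ | _ | _ | a
    · rw [evL_c0, rmul, D.fX, ih']
    · rw [evL_c1, rmul, D.fi, ih']
    · rw [evL_c2, rmul, D.fj, ih']
    · rw [evL_c3, rmul, D.fS, ih']
    · simp at ha
    · rw [evL_c5, rmul, D.fix.n, ih']

/-- the values at the representatives -/
def q (_ : Dt2 ρ v φ) (n : Fin 3) : F := φ (vp ρ v (rt n).1 (rt n).2)

theorem rt_ne (n : Fin 3) : (rt n).1 ≠ (rt n).2 := by
  revert n
  decide +kernel

theorem val_lt {a b : Fin 12} (ha : a ≠ 0) (hab : a < b) : φ (vp ρ v a b) = D.q (nc a b) := by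
  have ha' : 0 < a := Fin.pos_iff_ne_zero.2 ha
  have hb : b ≠ 0 := (ha'.trans hab).ne'
  rw [← D.fN (gt2 [] tow a b) (tow_N a b), (good_evL D.fix _).2 a b ha hb hab.ne]
  rw [lpe_evL, lpe_evL]
  unfold q
  rcases orb2_tab a b ha' hab with ⟨h1, h2⟩ | ⟨h1, h2⟩
  · rw [h1, h2]
  · rw [h1, h2, vp_comm (fun h => rt_ne D (nc a b) h.symm)]

theorem val {a b : Fin 12} (ha : a ≠ 0) (hb : b ≠ 0) (hab : a ≠ b) :
    φ (vp ρ v a b) = D.q 0 + (D.q 1 + D.q 0) * (chi2 F a + chi2 F b) + (D.q 2 + D.q 0) * (chi2 F a * chi2 F b) := by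
  have h2 := D.ev.two
  have h1 : φ (vp ρ v a b) = D.q (nc a b) := by
    rcases lt_or_gt_of_ne hab with h | h
    · exact D.val_lt ha h
    · rw [vp_comm hab, D.val_lt hb h]
      congr 1
      unfold nc
      rw [add_comm]
  rw [h1]
  unfold nc chi2
  by_cases h3 : a = 1 ∨ a = 2 <;> by_cases h4 : b = 1 ∨ b = 2
  · rw [if_pos h3, if_pos h4, if_pos h3, if_pos h4]
    change D.q 2 = _
    linear_combination (-D.q 0 - D.q 1 - D.q 0) * h2
  · rw [if_pos h3, if_neg h4, if_pos h3, if_neg h4]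
    change D.q 1 = _
    linear_combination (-D.q 0) * h2
  · rw [if_neg h3, if_pos h4, if_neg h3, if_pos h4]
    change D.q 1 = _
    linear_combination (-D.q 0) * h2
  · rw [if_neg h3, if_neg h4, if_neg h3, if_neg h4]
    change D.q 0 = _
    ring

/-- the cycles -/
theorem cyc {a b c d : Fin 12} (ha : a ≠ 0) (hb : b ≠ 0) (hc : c ≠ 0) (hd : d ≠ 0) (hab : a ≠ b) (hbc : b ≠ c)
    (hcd : c ≠ d) (hda : d ≠ a) {g : Γ} (hg : g ∈ LL) :
    φ (ρ g (vp ρ v a b + vp ρ v b c + vp ρ v c d + vp ρ v d a))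
      = (D.q 2 + D.q 0) * ((chi2 F (lpe g a) + chi2 F (lpe g c)) * (chi2 F (lpe g b) + chi2 F (lpe g d))) := by
  have h2 := D.ev.two
  have hf : g ∈ fix0 := LL_le hg
  have hG := (good_LL D.fix hg).2
  have hi : ∀ {p r : Fin 12}, p ≠ r → lpe g p ≠ lpe g r := fun h h' => h ((lpe g).injective h')
  have e : ρ g (vp ρ v a b + vp ρ v b c + vp ρ v c d + vp ρ v d a) = vp ρ v (lpe g a) (lpe g b)
      + vp ρ v (lpe g b) (lpe g c) + vp ρ v (lpe g c) (lpe g d) + vp ρ v (lpe g d) (lpe g a) := by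
    rw [map_add, map_add, map_add, hG a b ha hb hab, hG b c hb hc hbc, hG c d hc hd hcd, hG d a hd ha hda]
  rw [e, map_add, map_add, map_add, D.val (ne_zero_of hf ha) (ne_zero_of hf hb) (hi hab),
    D.val (ne_zero_of hf hb) (ne_zero_of hf hc) (hi hbc), D.val (ne_zero_of hf hc) (ne_zero_of hf hd) (hi hcd),
    D.val (ne_zero_of hf hd) (ne_zero_of hf ha) (hi hda)]
  linear_combination (2 * D.q 0 + (D.q 1 + D.q 0) * (chi2 F (lpe g a) + chi2 F (lpe g b) + chi2 F (lpe g c)
    + chi2 F (lpe g d))) * h2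

/-- the case `α ≠ 0` -/
theorem case_ne (hα : D.q 2 + D.q 0 ≠ 0) : False := by
  let u : Fin 13 → V := fun n => vp ρ v 1 (pa n) + vp ρ v (pa n) (pb n) + vp ρ v (pb n) 2 + vp ρ v 2 1
  let r : Fin 13 → Γ := fun m => evL (gt2 [] trq (pa m) (pb m))
  have hr : ∀ m, r m ∈ LL := fun m => evL_mem _ (trq_lt m)
  have hchi : ∀ m a, chi2 F (lpe (r m)⁻¹ a) = if a = pa m ∨ a = pb m then 1 else 0 := by
    intro m a
    obtain ⟨ha, -, -, -, -, -, hab⟩ := pab m
    have h1 := rq_tab (pa m) (pb m) (Fin.pos_iff_ne_zero.2 ha) hab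
    have e1 : lpe (r m) 1 = pa m := by rw [lpe_evL]; exact h1.1
    have e2 : lpe (r m) 2 = pb m := by rw [lpe_evL]; exact h1.2
    unfold chi2
    have h3 : (lpe (r m)⁻¹ a = 1 ∨ lpe (r m)⁻¹ a = 2) ↔ (a = pa m ∨ a = pb m) := by
      constructor
      · rintro (h | h)
        · left; rw [← e1, ← h, lpe_inv]
        · right; rw [← e2, ← h, lpe_inv]
      · rintro (h | h)
        · left; rw [h, ← e1, lpe_inv']
        · right; rw [h, ← e2, lpe_inv']
    simp only [h3]
  have hM : ∀ m n, φ (ρ (r m)⁻¹ (u n)) = (D.q 2 + D.q 0) * (if m = n then 1 else 0) := by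
    intro m n
    obtain ⟨a0, a1, a2, b0, b1, b2, hab⟩ := pab n
    obtain ⟨c0, c1, c2, d0, d1, d2, -⟩ := pab m
    rw [D.cyc (by decide) a0 b0 (by decide) a1.symm hab.ne b2 (by decide) (LL.inv_mem (hr m))]
    rw [hchi, hchi, hchi, hchi, if_neg (show ¬ ((1 : Fin 12) = pa m ∨ 1 = pb m) from by
      rintro (h | h)
      · exact c1 h.symm
      · exact d1 h.symm), if_neg (show ¬ ((2 : Fin 12) = pa m ∨ 2 = pb m) from by
      rintro (h | h)
      · exact c2 h.symm
      · exact d2 h.symm), zero_add, add_zero, ite_zero_mul_ite_zero]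
    congr 1
    have h5 := pab_eq m n
    simp only [h5, mul_one]
  have hli : LinearIndependent F u := by
    rw [Fintype.linearIndependent_iff]
    intro c hc m
    have h1 := congrArg (fun w => φ (ρ (r m)⁻¹ w)) hc
    simp only [map_sum, map_smul, map_zero, smul_eq_mul, hM, mul_ite, mul_one, mul_zero, Finset.sum_ite_eq,
      Finset.mem_univ, if_true] at h1
    exact (mul_eq_zero.1 h1).resolve_right hα
  have h3 := hli.fintype_card_le_finrank
  rw [D.ev.dim, Fintype.card_fin] at h3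
  norm_num at h3

/-- the case `α = 0` -/
theorem case_eq (hα : D.q 2 + D.q 0 = 0) : False := by
  have h2 := D.ev.two
  have hcyc : ∀ {a b c d : Fin 12}, a ≠ 0 → b ≠ 0 → c ≠ 0 → d ≠ 0 → a ≠ b → b ≠ c → c ≠ d → d ≠ a →
      vp ρ v a b + vp ρ v b c + vp ρ v c d + vp ρ v d a = 0 := by
    intro a b c d ha hb hc hd hab hbc hcd hda
    apply D.sep
    intro g hg
    rw [D.cyc ha hb hc hd hab hbc hcd hda hg, hα, zero_mul]
  have hk : ∀ {a b c : Fin 12}, a ≠ 0 → b ≠ 0 → c ≠ 0 → a ≠ 1 → b ≠ 1 → c ≠ 1 → a ≠ b → b ≠ c →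
      vp ρ v a b + vp ρ v 1 a + vp ρ v 1 b = vp ρ v b c + vp ρ v 1 b + vp ρ v 1 c := by
    intro a b c ha hb hc ha1 hb1 hc1 hab hbc
    have h1 := hcyc (a := 1) (b := a) (c := b) (d := c) (by decide) ha hb hc ha1.symm hab hbc hc1
    rw [vp_comm hc1] at h1
    have h3 : (vp ρ v a b + vp ρ v 1 a + vp ρ v 1 b) + (vp ρ v b c + vp ρ v 1 b + vp ρ v 1 c)
        = (vp ρ v 1 a + vp ρ v a b + vp ρ v b c + vp ρ v 1 c) + (vp ρ v 1 b + vp ρ v 1 b) := by abel
    rw [h1, add_self_two h2, add_zero, ← neg_eq_iff_add_eq_zero, neg_eq_two h2] at h3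
    exact h3
  have hex : ∀ a b : Fin 12, ∃ c : Fin 12, c ≠ 0 ∧ c ≠ 1 ∧ c ≠ 2 ∧ c ≠ 3 ∧ c ≠ a ∧ c ≠ b := by decide +kernel
  have hconst : ∀ {a b : Fin 12}, a ≠ 0 → b ≠ 0 → a ≠ 1 → b ≠ 1 → a ≠ b →
      vp ρ v a b + vp ρ v 1 a + vp ρ v 1 b = vp ρ v 2 3 + vp ρ v 1 2 + vp ρ v 1 3 := by
    intro a b ha hb ha1 hb1 hab
    obtain ⟨c, c0, c1, c2, c3, ca, cb⟩ := hex a b
    have e3 := hk (a := c) (b := 2) (c := 3) c0 (by decide) (by decide) c1 (by decide) (by decide) c2 (by decide)
    rw [hk ha hb c0 ha1 hb1 c1 hab cb.symm]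
    by_cases hb2 : b = 2
    · rw [← e3, hb2, vp_comm c2]
      abel
    · rw [hk hb c0 (c := 2) (by decide) hb1 c1 (by decide) cb.symm c2, e3]
  let e : Fin 11 → V := fun n => if n = 0 then vp ρ v 2 3 else vp ρ v 1 (Fin.succ n)
  have he : ∀ a : Fin 12, a ≠ 0 → a ≠ 1 → vp ρ v 1 a ∈ Submodule.span F (Set.range e) := by
    intro a ha0 ha1
    obtain ⟨n, rfl⟩ := Fin.exists_succ_eq.2 ha0
    have hn : n ≠ 0 := by
      rintro rfl
      exact ha1 rfl
    apply Submodule.subset_span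
    refine ⟨n, ?_⟩
    change (if n = 0 then _ else _) = _
    rw [if_neg hn]
  have he0 : vp ρ v 2 3 ∈ Submodule.span F (Set.range e) := Submodule.subset_span ⟨0, rfl⟩
  have hall : ∀ a b : Fin 12, a ≠ 0 → b ≠ 0 → a ≠ b → vp ρ v a b ∈ Submodule.span F (Set.range e) := by
    intro a b ha hb hab
    by_cases ha1 : a = 1
    · subst ha1
      exact he b hb hab.symm
    · by_cases hb1 : b = 1
      · subst hb1
        rw [vp_comm hab]
        exact he a ha ha1
      · have h1 := hconst ha hb ha1 hb1 hab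
        have h3 : vp ρ v a b = (vp ρ v 2 3 + vp ρ v 1 2 + vp ρ v 1 3) - vp ρ v 1 a - vp ρ v 1 b := by
          rw [← h1]
          abel
        rw [h3]
        exact Submodule.sub_mem _ (Submodule.sub_mem _ (Submodule.add_mem _ (Submodule.add_mem _ he0
          (he 2 (by decide) (by decide))) (he 3 (by decide) (by decide))) (he a ha ha1)) (he b hb hb1)
  -- the span of all `vp` is everything
  set S : Set V := {w | ∃ a b : Fin 12, a ≠ 0 ∧ b ≠ 0 ∧ a ≠ b ∧ w = vp ρ v a b} with hS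
  have hstab : StabL ρ (Submodule.span F S) := by
    intro g hg w hw
    induction hw using Submodule.span_induction with
    | mem x hx =>
      obtain ⟨a, b, ha, hb, hab, rfl⟩ := hx
      rw [(good_LL D.fix hg).2 a b ha hb hab]
      exact Submodule.subset_span ⟨_, _, ne_zero_of (LL_le hg) ha, ne_zero_of (LL_le hg) hb,
        fun h => hab ((lpe g).injective h), rfl⟩
    | zero => rw [map_zero]; exact Submodule.zero_mem _
    | add x y _ _ hx hy => rw [map_add]; exact Submodule.add_mem _ hx hy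
    | smul c x _ hx => rw [map_smul]; exact Submodule.smul_mem _ _ hx
  have hv : v ∈ Submodule.span F S := by
    apply Submodule.subset_span
    refine ⟨1, 2, by decide, by decide, by decide, ?_⟩
    unfold vp rqw
    rw [if_pos (by decide)]
    have h1 : gt2 [] trq ((1 : Fin 12) : ℕ) ((2 : Fin 12) : ℕ) = [] := rq_base
    rw [h1]
    exact (rone ρ v).symm
  have htop : Submodule.span F S = ⊤ := by
    rcases D.ev.irrL hstab with h | h
    · rw [h] at hv
      exact absurd hv D.v0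
    · exact h
  have hle : Submodule.span F S ≤ Submodule.span F (Set.range e) := by
    rw [Submodule.span_le]
    rintro w ⟨a, b, ha, hb, hab, rfl⟩
    exact hall a b ha hb hab
  rw [htop] at hle
  have h3 : Submodule.span F (Set.range e) = ⊤ := top_le_iff.1 hle
  have h4 := finrank_range_le_card (R := F) e
  rw [Set.finrank, h3, finrank_top, D.ev.dim, Fintype.card_fin] at h4
  norm_num at h4

end Dt2

/-- **Characteristic two.** -/
theorem Ev12.false (H : Ev12 ρ) : False := by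
  obtain ⟨v, hv, h1, h2, h3, h4⟩ := H.exists_fixN
  obtain ⟨φ, hφ, g1, g2, g3, g4⟩ := H.dual.exists_fixN
  have key : ∀ g, Mt.dual ρ g φ = φ → ∀ w, φ (ρ g w) = φ w := by
    intro g hg w
    nth_rewrite 1 [← hg]
    rw [dual_apply, rinv]
  have D : Dt2 ρ v φ := ⟨H, hv, hφ, ⟨h1, h2, h3, h4, H.neg_v⟩, key _ g1, key _ g2, key _ g3, key _ g4⟩
  by_cases hα : D.q 2 + D.q 0 = 0
  · exact D.case_eq hα
  · exact D.case_ne hα

end Cfsg.Agent.H932.Mt
end

-- part: H932/MtFin
section
/-!
# The socle `M₁₂` in dimension 12 (helper932)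

`P ≤ GL₁₂(F)` a core, `F` finite, `Soc P ≃* M₁₂`.

* `two_three` : the characteristic is not 2 and not 3;
* `core_fr`, `core_sd` : `Fr P p` and `SD P`;
* `m12_final` : if `P` is the core of a maximal subgroup of `Ω(Q)`, then `Q` is of plus type, `|F| = p` and `p ≡ ±1`
  modulo 24.
-/

set_option autoImplicit false
set_option linter.unusedSectionVars false

namespace Cfsg.Agent.H932.Mt

open Cfsg Cfsg.Geo Matrix Cfsg.Agent.H915.LD

universe u

variable {F : Type u} [Field F] {P : Subgroup (GL (Fin 12) F)}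

/-- **Characteristic not 2, not 3.** -/
theorem two_three [Finite F] (hC : Core P) (e : Soc P ≃* Spor.M12) : (2 : F) ≠ 0 ∧ (3 : F) ≠ 0 := by
  obtain ⟨φ, hφ, hφe⟩ := exists_cover hC e
  have hI := irr_rp hC hφ
  have h2 : (2 : F) ≠ 0 := by
    intro h2
    apply Ev12.false (ρ := rp φ)
    refine ⟨h2, by rw [Module.finrank_fin_fun], hI, ?_⟩
    by_contra hne
    rw [not_exists] at hne
    apply sig_gX
    rw [← hφe, map_eq_one_iff e e.injective]
    have h3 : φ gX = 1 := by
      apply Subtype.ext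
      apply Units.ext
      apply Matrix.toLin'.injective
      apply LinearMap.ext
      intro v
      have h4 := not_not.1 (hne v)
      rw [rp_apply] at h4
      rw [Matrix.toLin'_apply, h4, Subgroup.coe_one, Units.val_one, Matrix.toLin'_one]
      rfl
    rw [h3, map_one]
  exact ⟨h2, fun h3 => (odd12_rp h2 e hφe).three_false h3 hI⟩

/-- **The socle `M₁₂` in dimension 12.** -/
theorem m12_final [Fintype F] (p : ℕ) [hp : Fact p.Prime] [CharP F p] {Q : (Fin 12 → F) → F}
    (hQ : IsNondegenerateQuadraticForm Q) {H : Subgroup (GL (Fin 12) F)} (hH : IsMaximalIn (omegaGL Q) H)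
    (hc : IsResidualCore H P) (e : Soc P ≃* Spor.M12) :
    IsPlusTypeOn Q ⊤ ∧ Fintype.card F = p ∧ (p % 24 = 1 ∨ p % 24 = 23) := by
  have hC := core_of_residual hc
  obtain ⟨h2, h3⟩ := two_three hC e
  exact m12_core p h2 h3 hQ hH hc e

end Cfsg.Agent.H932.Mt
end

-- part: H907/L33/Ops
section
/-!
# Modules of dimension at most 12 of `SL₃(3)`: the projection onto the fixed vectors of a Sylow 3-subgroup (helper907)

Versions of helper915's results without the hypotheses `2 ≠ 0` and `dim = 12`.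
-/

set_option autoImplicit false
set_option linter.unusedSectionVars false

namespace Cfsg.Agent.H907.L33

open Module Cfsg.Agent.H915.Idem

variable {F : Type*} [Field F] {V : Type*} [AddCommGroup V] [Module F V] [FiniteDimensional F V]

section half

variable {a b c h k s : End F V} (H : Half a b c h k s)

include H

theorem h_Q : h * (av F b - av F a * av F b) = (av F b - av F a * av F b) * h := by
  rw [mul_sub, sub_mul, H.h_b, H.h_e]

theorem even' (h3 : (3 : F) ≠ 0) : Even (rk (av F b - av F a * av F b)) := by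
  by_cases h2 : (2 : F) = 0
  · have hQ := h_Q H
    have hsQ := H.sum_Q h3
    have hid := H.Qidem h3
    set Q := av F b - av F a * av F b
    have t1 : LinearMap.trace F V (a * Q) = LinearMap.trace F V (a * a * Q) := by
      refine trace_conj' (u := h) (u' := h) H.hh H.hh ?_
      rw [← mul_assoc, H.ha, mul_assoc (a * a) h Q, hQ, ← mul_assoc]
    have t2 : LinearMap.trace F V Q + LinearMap.trace F V (a * Q) + LinearMap.trace F V (a * a * Q) = 0 := by
      rw [← map_add, ← map_add]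
      have e1 : Q + a * Q + a * a * Q = (1 + a + a * a) * Q := by rw [add_mul, add_mul, one_mul]
      rw [e1, hsQ, map_zero]
    rw [← t1, trace_idem hid] at t2
    have t3 : ((rk Q : ℕ) : F) = 0 := by linear_combination t2 - LinearMap.trace F V (a * Q) * h2
    have hc : CharP F 2 := CharTwo.of_one_ne_zero_of_two_eq_zero one_ne_zero h2
    exact (even_iff_two_dvd).2 ((CharP.cast_eq_zero_iff F 2 _).1 t3)
  · exact H.even h2 h3

theorem ranks' (h3 : (3 : F) ≠ 0) (hd : finrank F V ≤ 15) (hne : a ≠ 1) :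
    rk (av F a * av F b) + 8 = finrank F V ∧ rk (av F b - av F a * av F b) = 2 := by
  have k1 := H.ab.rk h3
  obtain ⟨e1, e2, e3⟩ := H.rk_eq
  rw [e1, e2, e3] at k1
  obtain ⟨m, hm⟩ := even' H h3
  rw [hm] at k1
  have hm1 : m ≤ 1 := by omega
  interval_cases m
  · exfalso
    have z := eq_zero_of_rk (e := av F b - av F a * av F b) (by rw [hm])
    have za := eq_zero_of_rk (e := av F a - av F a * av F b) (by rw [e1, hm])
    have zm := eq_zero_of_rk (e := av F (a * b) - av F a * av F b) (by rw [e2, hm])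
    have zn := eq_zero_of_rk (e := av F (a * (b * b)) - av F a * av F b) (by rw [e3, hm])
    have hs := H.ab.sum h3
    rw [z, za, zm, zn, add_zero, add_zero, add_zero, add_zero] at hs
    apply hne
    have e4 : a * (av F a * av F b) = av F a * av F b := by rw [← mul_assoc, mul_av H.ab.ha]
    rw [← hs, mul_one] at e4
    exact e4
  · exact ⟨by omega, by omega⟩

/-- `c` acts trivially on the range of `Q` -/
theorem c_Q' (h3 : (3 : F) ≠ 0) (hr : rk (av F b - av F a * av F b) = 2) :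
    c * (av F b - av F a * av F b) = av F b - av F a * av F b := by
  have hQi := H.Qidem h3
  have haQ := H.a_Q
  have hbQ := H.b_Q
  have hsQ := H.sum_Q h3
  have hcQ : c * (av F b - av F a * av F b) = (av F b - av F a * av F b) * c := by
    rw [mul_sub, sub_mul, av_comm H.cb, H.c_e]
  have hkQ : k * (av F b - av F a * av F b) = (av F b - av F a * av F b) * k := by
    rw [mul_sub, sub_mul, H.k_b, H.k_e]
  have hhQ := h_Q H
  set Q := av F b - av F a * av F b with hQdef
  have hQ0 : Q ≠ 0 := by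
    intro h0
    rw [h0, rk_zero] at hr
    exact absurd hr (by norm_num)
  have hns : ¬ ∃ x : F, a * Q = x • Q := by
    rintro ⟨x, hx⟩
    have e1 : h * a * Q = a * a * h * Q := by rw [H.ha]
    have e2 : h * a * Q = x • (h * Q) := by rw [mul_assoc, hx, mul_smul_comm]
    have e3 : a * a * h * Q = (x * x) • (h * Q) := by
      rw [mul_assoc (a * a), hhQ, ← mul_assoc, mul_assoc a a Q, hx, mul_smul_comm, hx, smul_smul, smul_mul_assoc, ← hhQ]
    rw [e2, e3] at e1
    have e4 : x • Q = (x * x) • Q := by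
      have e5 := congrArg (fun y => h * y) e1
      simp only [mul_smul_comm, ← mul_assoc, H.hh, one_mul] at e5
      exact e5
    have e5 : (x - x * x) • Q = 0 := by rw [sub_smul, e4, sub_self]
    have e6 : x - x * x = 0 := (smul_eq_zero.1 e5).resolve_right hQ0
    have e7 : (1 + x + x * x) • Q = 0 := by
      have e8 : (1 + a + a * a) * Q = (1 + x + x * x) • Q := by
        rw [add_mul, add_mul, one_mul, hx, mul_assoc, hx, mul_smul_comm, hx, smul_smul, add_smul, add_smul, one_smul]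
      rw [← e8, hsQ]
    have e8 : 1 + x + x * x = 0 := (smul_eq_zero.1 e7).resolve_right hQ0
    have e9 : x * (1 - x) = 0 := by linear_combination e6
    rcases mul_eq_zero.1 e9 with h0 | h0
    · rw [h0] at e8
      norm_num at e8
    · have : x = 1 := by linear_combination -h0
      rw [this] at e8
      apply h3
      linear_combination e8
  have e1 : c * k * Q = k * c * Q := by
    refine comm_of_rk_two hQi hr haQ hcQ hkQ ?_ ?_ hns
    · rw [H.ac, mul_assoc (c * a) b Q, hbQ]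
    · rw [← H.ka]
  have e2 : k * c * Q = c * c * k * Q := by rw [H.kc]
  rw [e2] at e1
  have e3 : k * Q = c * k * Q := by
    have e4 := congrArg (fun y => c * c * y) e1
    simp only [← mul_assoc] at e4
    rw [H.hc, one_mul, one_mul] at e4
    exact e4
  have e4 : Q * k = c * Q * k := by rw [← hkQ, e3, mul_assoc c k Q, hkQ, ← mul_assoc]
  have e5 := congrArg (fun y => y * k) e4
  simp only [mul_assoc, H.kk, mul_one] at e5
  exact e5.symm

end half

/-- the projection onto the fixed vectors of the Sylow 3-subgroup and its properties -/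
structure Op (F : Type*) [Field F] {V : Type*} [AddCommGroup V] [Module F V] (a b c h1 h2 h3 s t C : End F V) :
    Prop where
  CC : C * C = C
  aC : a * C = C
  bC : b * C = C
  cC : c * C = C
  Ca : C * a = C
  Cb : C * b = C
  Cc : C * c = C
  h1C : h1 * C = C * h1
  h2C : h2 * C = C * h2
  h3C : h3 * C = C * h3
  eC : av F a * av F b * C = C
  Ce : C * (av F a * av F b) = C
  e'C : av F c * av F b * C = C
  Ce' : C * (av F c * av F b) = C
  avb : av F b = av F a * av F b + av F c * av F b - C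
  ce : av F c * (av F a * av F b) = C
  ae' : av F a * (av F c * av F b) = C
  ee' : (av F a * av F b) * (av F c * av F b) = C
  e'e : (av F c * av F b) * (av F a * av F b) = C
  se : s * (av F a * av F b) = (av F a * av F b) * s
  te' : t * (av F c * av F b) = (av F c * av F b) * t
  tb : t * av F b = av F c * t
  sb : s * av F b = av F a * s
  ec : (av F a * av F b) * av F c = C
  e'a : (av F c * av F b) * av F a = C
  be : av F b * (av F a * av F b) = av F a * av F b
  be' : av F b * (av F c * av F b) = av F c * av F b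
  idem : (av F a * av F b) * (av F a * av F b) = av F a * av F b

theorem exists_op {a b c h1 h2 h3 s t g g' : End F V} (K : Full a b c h1 h2 h3 s t g g') (n3 : (3 : F) ≠ 0)
    (hd : finrank F V ≤ 15) (hne : a ≠ 1) (hne' : c ≠ 1) :
    ∃ C, Op F a b c h1 h2 h3 s t C ∧ rk (av F a * av F b) = rk C + 2 ∧ rk C + 10 = finrank F V ∧
      LinearMap.trace F V (h1 * C) = LinearMap.trace F V (h2 * C) ∧
      LinearMap.trace F V (h2 * C) = LinearMap.trace F V (h3 * C) := by
  obtain ⟨r1, r2⟩ := ranks' K.H n3 hd hne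
  obtain ⟨r3, r4⟩ := ranks' K.H' n3 hd hne'
  have cQ := c_Q' K.H n3 r2
  have aQ' := c_Q' K.H' n3 r4
  obtain ⟨t1, t2, t3⟩ := K.traces n3
  have P := K.H.ab
  have P' := K.pcb
  have h1avc : h1 * av F c = av F c * h1 := av_comm K.h1c
  have h2avc : h2 * av F c = av F c * h2 := by rw [av_conj K.h2c, av_sq K.H.hc]
  have h3avc : h3 * av F c = av F c * h3 := by rw [av_conj K.H.kc, av_sq K.H.hc]
  have h2e : h2 * (av F a * av F b) = (av F a * av F b) * h2 := by
    rw [← mul_assoc, av_conj K.h2a, av_sq K.H.ab.ha, mul_assoc, av_comm K.h2b, ← mul_assoc]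
  have h1e : h1 * (av F a * av F b) = (av F a * av F b) * h1 := K.H.h_e
  have h3e : h3 * (av F a * av F b) = (av F a * av F b) * h3 := K.H.k_e
  have se := K.H.s_e
  have te : t * (av F c * av F b) = (av F c * av F b) * t := by
    have h := K.H'.s_e
    rw [K.avbb] at h
    exact h
  have tb : t * av F b = av F c * t := by
    have h := K.H'.sb
    rw [K.avbb] at h
    exact h
  have c_e := K.H.c_e
  have a_e' : a * (av F c * av F b) = (av F c * av F b) * a := by
    have h := K.H'.c_e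
    rw [K.avbb] at h
    exact h
  rw [K.avbb] at r3 r4 aQ'
  have hC := Full.e_eq (F := F) (a := a) (b := b) (c := c)
  have hC' := Full.e'_eq (F := F) (a := a) (b := b) (c := c)
  have bb := av_idem n3 P.hb
  have ee := P.e_idem n3
  have e'e' := P'.e_idem n3
  have eb := P.e_b n3
  have be := P.b_e n3
  have e'b := P'.e_b n3
  have be' := P'.b_e n3
  have cb : c * av F b = av F b * c := av_comm P'.hab
  have ab : a * av F b = av F b * a := av_comm P.hab
  set C' := Full.C F a b c with hCdef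
  have ae : a * (av F a * av F b) = av F a * av F b := by rw [← mul_assoc, mul_av P.ha]
  have bE : b * (av F a * av F b) = av F a * av F b := by rw [P.e_comm, ← mul_assoc, mul_av P.hb]
  have ce' : c * (av F c * av F b) = av F c * av F b := by rw [← mul_assoc, mul_av P'.ha]
  have bE' : b * (av F c * av F b) = av F c * av F b := by rw [P'.e_comm, ← mul_assoc, mul_av P.hb]
  have ea : (av F a * av F b) * a = av F a * av F b := by
    rw [mul_assoc, ← ab, ← mul_assoc, av_mul P.ha]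
  have eB : (av F a * av F b) * b = av F a * av F b := by rw [mul_assoc, av_mul P.hb]
  have e'c : (av F c * av F b) * c = av F c * av F b := by
    rw [mul_assoc, ← cb, ← mul_assoc, av_mul P'.ha]
  have e'B : (av F c * av F b) * b = av F c * av F b := by rw [mul_assoc, av_mul P.hb]
  have ace : av F a * (av F a * av F b) = av F a * av F b := P.a_e n3
  have cce : av F c * (av F c * av F b) = av F c * av F b := P'.a_e n3
  -- Q c = Q, Q' a = Q'
  have Qc : (av F b - av F a * av F b) * c = av F b - av F a * av F b := by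
    rw [sub_mul, ← cb, ← c_e, ← mul_sub, cQ]
  have Q'a : (av F b - av F c * av F b) * a = av F b - av F c * av F b := by
    rw [sub_mul, ← ab, ← a_e', ← mul_sub, aQ']
  set e := av F a * av F b with he
  set e' := av F c * av F b with he'
  have C1 : C' = e - (av F b - e') := by rw [hC]; abel
  have C2 : C' = e' - (av F b - e) := by rw [hC']; abel
  have aC : a * C' = C' := by
    rw [C1, mul_sub, ae, aQ']
  have cC : c * C' = C' := by
    rw [C2, mul_sub, ce', cQ]
  have bC : b * C' = C' := by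
    rw [C1, mul_sub, mul_sub, bE, bE', mul_av P.hb]
  have Ca : C' * a = C' := by
    rw [C1, sub_mul, ea, Q'a]
  have Cc : C' * c = C' := by
    rw [C2, sub_mul, e'c, Qc]
  have Cb : C' * b = C' := by
    rw [C1, sub_mul, sub_mul, eB, e'B, av_mul P.hb]
  have avaC : av F a * C' = C' := av_fix_left n3 aC
  have avbC : av F b * C' = C' := av_fix_left n3 bC
  have avcC : av F c * C' = C' := av_fix_left n3 cC
  have Cava : C' * av F a = C' := av_fix_right n3 Ca
  have Cavb : C' * av F b = C' := av_fix_right n3 Cb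
  have Cavc : C' * av F c = C' := av_fix_right n3 Cc
  have eC : e * C' = C' := by rw [he, mul_assoc, avbC, avaC]
  have Ce : C' * e = C' := by rw [he, ← mul_assoc, Cava, Cavb]
  have e'C : e' * C' = C' := by rw [he', mul_assoc, avbC, avcC]
  have Ce' : C' * e' = C' := by rw [he', ← mul_assoc, Cavc, Cavb]
  have CC : C' * C' = C' := by
    have h : (e - (av F b - e')) * C' = C' := by rw [sub_mul, sub_mul, eC, avbC, e'C, sub_self, sub_zero]
    rwa [← C1] at h
  have ace' : av F a * e' = C' := by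
    have h : av F a * (av F b - e) = 0 := by rw [mul_sub, ace, ← he, sub_self]
    rw [hC', mul_add, h, add_zero, avaC]
  have cae : av F c * e = C' := by
    have h : av F c * (av F b - e') = 0 := by rw [mul_sub, cce, ← he', sub_self]
    rw [hC, mul_add, h, add_zero, avcC]
  have ee'C : e * e' = C' := by rw [he, mul_assoc, be', ace']
  have e'eC : e' * e = C' := by rw [he', mul_assoc, be, cae]
  have hQ' : (av F b - e') * (av F b - e') = av F b - e' := Pair.compl_idem e'e' bb be' e'b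
  have hCQ' : C' * (av F b - e') = 0 := by rw [mul_sub, Cavb, Ce', sub_self]
  have hQ'C : (av F b - e') * C' = 0 := by rw [sub_mul, avbC, e'C, sub_self]
  have hrk : rk e = rk C' + 2 := by
    conv_lhs => rw [hC]
    rw [rk_add CC hQ' hCQ' hQ'C, r4]
  refine ⟨C', ⟨CC, aC, bC, cC, Ca, Cb, Cc, ?_, ?_, ?_, eC, Ce, e'C, Ce', ?_, cae, ace', ee'C, e'eC, se, te, tb,
    K.H.sb, ?_, ?_, be, be', ee⟩, hrk, by omega, t1, t2⟩
  · rw [← cae, ← mul_assoc, h1avc, mul_assoc, h1e, ← mul_assoc]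
  · rw [← cae, ← mul_assoc, h2avc, mul_assoc, h2e, ← mul_assoc]
  · rw [← cae, ← mul_assoc, h3avc, mul_assoc, h3e, ← mul_assoc]
  · rw [← he, ← he', hC]; abel
  · rw [← he, ← cae]
    exact av_comm c_e.symm
  · rw [← he', ← ace']
    exact av_comm a_e'.symm

end Cfsg.Agent.H907.L33
end

-- part: H907/L33/Bruhat
section
/-!
# `SL₃(3)`: the Bruhat decomposition (helper907)
-/

set_option autoImplicit false
set_option linter.unusedSectionVars false

namespace Cfsg.Agent.H907.L33

open Matrix Cfsg.Agent.H915.L33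

/-- `u` is in the group generated by `x₁₂, x₁₃, x₂₃` -/
def InU (u : G) : Prop := ∀ K : Subgroup G, x12 ∈ K → x13 ∈ K → x23 ∈ K → u ∈ K

/-- `r` is in the group generated by `x₁₂, x₁₃` and the torus -/
def InR (r : G) : Prop := ∀ K : Subgroup G, x12 ∈ K → x13 ∈ K → h1 ∈ K → h2 ∈ K → h3 ∈ K → r ∈ K

theorem InU.one : InU 1 := fun K _ _ _ => K.one_mem
theorem InU.mul {u v : G} (hu : InU u) (hv : InU v) : InU (u * v) :=
  fun K a b c => K.mul_mem (hu K a b c) (hv K a b c)
theorem InU.inv {u : G} (hu : InU u) : InU u⁻¹ := fun K a b c => K.inv_mem (hu K a b c)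
theorem InU.u12 (t : ZMod 3) : InU (u12 t) := fun _ a _ _ => u12_mem a t
theorem InU.u13 (t : ZMod 3) : InU (u13 t) := fun _ _ b _ => u13_mem b t
theorem InU.u23 (t : ZMod 3) : InU (u23 t) := fun _ _ _ c => u23_mem c t

theorem s12_u23 (i : ZMod 3) : s12 * u23 i = u13 (2 * i) * s12 := by
  apply Subtype.ext
  revert i
  decide +kernel

theorem s23_u13 (i : ZMod 3) : s23 * u13 i = u12 (2 * i) * s23 := by
  apply Subtype.ext
  revert i
  decide +kernel

theorem upper_form (g : G) (h10 : g.1 1 0 = 0) (h20 : g.1 2 0 = 0) (h21 : g.1 2 1 = 0) :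
    ∃ (i : ZMod 3) (r : G), InR r ∧ g = u23 i * r := by
  have he : g.1 = !![g.1 0 0, g.1 0 1, g.1 0 2; 0, g.1 1 1, g.1 1 2; 0, 0, g.1 2 2] := by
    have h := Matrix.eta_fin_three g.1
    rw [h10, h20, h21] at h
    exact h
  have hd : g.1 0 0 * g.1 1 1 * g.1 2 2 = 1 := by
    have h := g.2
    rw [Matrix.det_fin_three, h10, h20, h21] at h
    linear_combination h
  have hw := upper _ (g.1 0 1) (g.1 0 2) _ (g.1 1 2) _ hd
  rw [← he] at hw
  have key : g = u23 (g.1 1 2 * g.1 2 2) * (u12 (g.1 0 1 * g.1 1 1) * (u13 (g.1 0 2 * g.1 2 2) *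
      ⟨D (g.1 0 0) (g.1 1 1) (g.1 2 2), by
        unfold D
        rw [Matrix.det_fin_three]
        simp only [_root_.Fin.isValue, _root_.Matrix.of_apply, _root_.Matrix.cons_val', _root_.Matrix.cons_val_zero, _root_.Matrix.cons_val_fin_one, _root_.Matrix.cons_val_one, _root_.Matrix.cons_val, _root_.MulZeroClass.mul_zero, _root_.sub_zero, _root_.MulZeroClass.zero_mul, _root_.add_zero]
        exact hd⟩)) := Subtype.ext hw
  refine ⟨_, _, ?_, key⟩
  intro K ka kb k1 k2 k3
  exact K.mul_mem (u12_mem ka _) (K.mul_mem (u13_mem kb _) (torus_mem k1 k2 k3 _ rfl))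

theorem point_form (g : G) (h10 : g.1 1 0 = 0) (h20 : g.1 2 0 = 0) :
    ∃ (i : ZMod 3) (r : G), InR r ∧ (g = u23 i * r ∨ ∃ j, g = u23 i * (s23 * (u23 j * r))) := by
  by_cases h21 : g.1 2 1 = 0
  · obtain ⟨i, r, hr, h⟩ := upper_form g h10 h20 h21
    exact ⟨i, r, hr, Or.inl h⟩
  have he : g.1 = !![g.1 0 0, g.1 0 1, g.1 0 2; 0, g.1 1 1, g.1 1 2; 0, g.1 2 1, g.1 2 2] := by
    have h := Matrix.eta_fin_three g.1
    rw [h10, h20] at h
    exact h
  have hd : g.1 0 0 * (g.1 1 1 * g.1 2 2 - g.1 1 2 * g.1 2 1) = 1 := by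
    have h := g.2
    rw [Matrix.det_fin_three, h10, h20] at h
    linear_combination h
  obtain ⟨a, b, t1, t2, hw⟩ := lower _ (g.1 0 1) (g.1 0 2) _ _ _ _ hd h21
  rw [← he] at hw
  set t := g.1 1 1 * g.1 2 1
  have hU : (s23⁻¹ * (u23 t)⁻¹ * g).1 = !![2 * g.1 0 0, a, b; 0, t1, t2; 0, 0, (2 * g.1 0 0 * t1)] := by
    have e1 : u23 t * (s23 * (s23⁻¹ * (u23 t)⁻¹ * g)) = g := by group
    have e2 : (u23 t).1 * (s23.1 * (s23⁻¹ * (u23 t)⁻¹ * g).1) =
        X23 t * (S * !![2 * g.1 0 0, a, b; 0, t1, t2; 0, 0, (2 * g.1 0 0 * t1)]) := by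
      rw [← hw]
      exact (congrArg Subtype.val e1 :)
    have e3 : (u23 t)⁻¹.1 * (u23 t).1 = 1 := congrArg Subtype.val (inv_mul_cancel (u23 t))
    have e4 : (s23)⁻¹.1 * (s23).1 = 1 := congrArg Subtype.val (inv_mul_cancel s23)
    exact cancel e3 e4 e2
  obtain ⟨j, r, hr, hm⟩ := upper_form (s23⁻¹ * (u23 t)⁻¹ * g) (by rw [hU]; rfl) (by rw [hU]; rfl) (by rw [hU]; rfl)
  refine ⟨t, r, hr, Or.inr ⟨j, ?_⟩⟩
  rw [← hm]
  group

theorem col_one (v : ZMod 3) (M : Matrix (Fin 3) (Fin 3) (ZMod 3)) :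
    (s12.1 * (X12 v * M)) 1 0 = M 0 0 + v * M 1 0 ∧ (s12.1 * (X12 v * M)) 2 0 = 2 * M 2 0 := by
  constructor
  · simp only [Matrix.mul_apply, Matrix.vecMul, dotProduct, Fin.sum_univ_three, s12, X12, _root_.Matrix.cons_mul, _root_.Nat.succ_eq_add_one, _root_.Nat.reduceAdd, _root_.Matrix.empty_mul, _root_.Equiv.symm_apply_apply, _root_.Fin.isValue, _root_.Matrix.of_apply, _root_.Matrix.cons_val', _root_.Matrix.cons_val_fin_one, _root_.Matrix.cons_val_one, _root_.Matrix.cons_val_zero, _root_.one_mul, _root_.Matrix.cons_val, _root_.MulZeroClass.zero_mul, _root_.add_zero, _root_.zero_add]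
  · simp only [Matrix.mul_apply, Matrix.vecMul, dotProduct, Fin.sum_univ_three, s12, X12, _root_.Matrix.cons_mul, _root_.Nat.succ_eq_add_one, _root_.Nat.reduceAdd, _root_.Matrix.empty_mul, _root_.Equiv.symm_apply_apply, _root_.Fin.isValue, _root_.Matrix.of_apply, _root_.Matrix.cons_val', _root_.Matrix.cons_val_fin_one, _root_.Matrix.cons_val, _root_.Matrix.cons_val_one, _root_.Matrix.cons_val_zero, _root_.one_mul, _root_.MulZeroClass.zero_mul, _root_.add_zero, _root_.zero_add]

theorem col_two (v w : ZMod 3) (M : Matrix (Fin 3) (Fin 3) (ZMod 3)) :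
    (s12.1 * (s23.1 * (X13 v * (X23 w * M)))) 1 0 = 2 * (M 0 0 + v * M 2 0) ∧
    (s12.1 * (s23.1 * (X13 v * (X23 w * M)))) 2 0 = 2 * (M 1 0 + w * M 2 0) := by
  constructor
  · simp only [Matrix.mul_apply, Matrix.vecMul, dotProduct, Fin.sum_univ_three, s12, s23, X13, X23, _root_.Matrix.cons_mul, _root_.Nat.succ_eq_add_one, _root_.Nat.reduceAdd, _root_.Matrix.empty_mul, _root_.Equiv.symm_apply_apply, _root_.Matrix.vecMul_cons, _root_.Matrix.head_cons, _root_.one_smul, _root_.Matrix.tail_cons, _root_.zero_smul, _root_.Matrix.empty_vecMul, _root_.add_zero, _root_.zero_add, _root_.smul_add, _root_.Fin.isValue, _root_.Matrix.of_apply, _root_.Matrix.cons_val', _root_.Matrix.cons_val_fin_one, _root_.Matrix.cons_val_one, _root_.Matrix.cons_val_zero, _root_.Pi.add_apply, _root_.Pi.smul_apply, _root_.one_mul, _root_.MulZeroClass.zero_mul, _root_.Matrix.cons_val, _root_.smul_eq_mul]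
    ring
  · simp only [Matrix.mul_apply, Matrix.vecMul, dotProduct, Fin.sum_univ_three, s12, s23, X13, X23, _root_.Matrix.cons_mul, _root_.Nat.succ_eq_add_one, _root_.Nat.reduceAdd, _root_.Matrix.empty_mul, _root_.Equiv.symm_apply_apply, _root_.Matrix.vecMul_cons, _root_.Matrix.head_cons, _root_.one_smul, _root_.Matrix.tail_cons, _root_.zero_smul, _root_.Matrix.empty_vecMul, _root_.add_zero, _root_.zero_add, _root_.smul_add, _root_.Fin.isValue, _root_.Matrix.of_apply, _root_.Matrix.cons_val', _root_.Matrix.cons_val_fin_one, _root_.Matrix.cons_val, _root_.Matrix.cons_val_one, _root_.Pi.add_apply, _root_.Pi.smul_apply, _root_.Matrix.cons_val_zero, _root_.one_mul, _root_.MulZeroClass.zero_mul, _root_.smul_eq_mul]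

theorem sq_key : ∀ q : ZMod 3, q ≠ 0 → q * q = 1 := by decide

/-- **the Bruhat decomposition** -/
theorem bruhat (g : G) : ∃ u n r : G, InU u ∧ (n = 1 ∨ n = s12 ∨ n = s23 * s12) ∧ InR r ∧
    (g = u * (n * r) ∨ ∃ j : ZMod 3, g = u * (n * (s23 * (u23 j * r)))) := by
  by_cases h20 : g.1 2 0 = 0
  · by_cases h10 : g.1 1 0 = 0
    · obtain ⟨i, r, hr, h | ⟨j, h⟩⟩ := point_form g h10 h20
      · exact ⟨u23 i, 1, r, InU.u23 i, Or.inl rfl, hr, Or.inl (by rw [one_mul]; exact h)⟩
      · exact ⟨u23 i, 1, r, InU.u23 i, Or.inl rfl, hr, Or.inr ⟨j, by rw [one_mul]; exact h⟩⟩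
    · have hq := sq_key _ h10
      obtain ⟨c1, c2⟩ := col_one (-(g.1 0 0 * g.1 1 0)) g.1
      have k1 : (s12 * (u12 (-(g.1 0 0 * g.1 1 0)) * g)).1 1 0 = 0 := by
        refine c1.trans ?_
        linear_combination (-(g.1 0 0)) * hq
      have k2 : (s12 * (u12 (-(g.1 0 0 * g.1 1 0)) * g)).1 2 0 = 0 := by
        refine c2.trans ?_
        rw [h20, mul_zero]
      set v := -(g.1 0 0 * g.1 1 0)
      have hg : g = (u12 v)⁻¹ * (s12 * (s12 * (u12 v * g))) := by
        rw [← mul_assoc s12 s12, r_tt, one_mul]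
        group
      obtain ⟨i, r, hr, h | ⟨j, h⟩⟩ := point_form _ k1 k2
      · refine ⟨(u12 v)⁻¹ * u13 (2 * i), s12, r, (InU.u12 v).inv.mul (InU.u13 _), Or.inr (Or.inl rfl), hr, Or.inl ?_⟩
        rw [h, ← mul_assoc s12, s12_u23] at hg
        rw [hg]
        simp only [mul_assoc]
      · refine ⟨(u12 v)⁻¹ * u13 (2 * i), s12, r, (InU.u12 v).inv.mul (InU.u13 _), Or.inr (Or.inl rfl), hr,
          Or.inr ⟨j, ?_⟩⟩
        rw [h, ← mul_assoc s12, s12_u23] at hg
        rw [hg]
        simp only [mul_assoc]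
  · have hq := sq_key _ h20
    obtain ⟨c1, c2⟩ := col_two (-(g.1 0 0 * g.1 2 0)) (-(g.1 1 0 * g.1 2 0)) g.1
    have k1 : (s12 * (s23 * (u13 (-(g.1 0 0 * g.1 2 0)) * (u23 (-(g.1 1 0 * g.1 2 0)) * g)))).1 1 0 = 0 := by
      refine c1.trans ?_
      linear_combination (-2 * (g.1 0 0)) * hq
    have k2 : (s12 * (s23 * (u13 (-(g.1 0 0 * g.1 2 0)) * (u23 (-(g.1 1 0 * g.1 2 0)) * g)))).1 2 0 = 0 := by
      refine c2.trans ?_
      linear_combination (-2 * (g.1 1 0)) * hq
    set v := -(g.1 0 0 * g.1 2 0)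
    set w := -(g.1 1 0 * g.1 2 0)
    have hg : g = (u13 v * u23 w)⁻¹ * (s23 * (s12 * (s12 * (s23 * (u13 v * (u23 w * g)))))) := by
      rw [← mul_assoc s12 s12, r_tt, one_mul, ← mul_assoc s23 s23, r_ss, one_mul]
      group
    have hsu : ∀ i : ZMod 3, s23 * (s12 * u23 i) = u12 (2 * (2 * i)) * (s23 * s12) := by
      intro i
      rw [s12_u23, ← mul_assoc, s23_u13, mul_assoc]
    obtain ⟨i, r, hr, h | ⟨j, h⟩⟩ := point_form _ k1 k2
    · refine ⟨(u13 v * u23 w)⁻¹ * u12 (2 * (2 * i)), s23 * s12, r, ((InU.u13 v).mul (InU.u23 w)).inv.mul (InU.u12 _),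
        Or.inr (Or.inr rfl), hr, Or.inl ?_⟩
      rw [h, ← mul_assoc s12, ← mul_assoc s23 (s12 * u23 i), hsu] at hg
      rw [hg]
      simp only [mul_assoc]
    · refine ⟨(u13 v * u23 w)⁻¹ * u12 (2 * (2 * i)), s23 * s12, r, ((InU.u13 v).mul (InU.u23 w)).inv.mul (InU.u12 _),
        Or.inr (Or.inr rfl), hr, Or.inr ⟨j, ?_⟩⟩
      rw [h, ← mul_assoc s12, ← mul_assoc s23 (s12 * u23 i), hsu] at hg
      rw [hg]
      simp only [mul_assoc]

end Cfsg.Agent.H907.L33
end

-- part: H907/L33/Hecke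
section
/-!
# Modules of dimension at most 12 of `SL₃(3)`: fixed vectors of a Sylow 3-subgroup (helper907)
-/

set_option autoImplicit false
set_option linter.unusedSectionVars false

namespace Cfsg.Agent.H907.L33

open Module Matrix Cfsg.Agent.H915.Idem Cfsg.Agent.H915.L33

variable {F : Type*} [Field F] {V : Type*} [AddCommGroup V] [Module F V] [FiniteDimensional F V]

/-! ### relations -/

theorem q_as : x12 * s23 = s23 * (x13 * x13) := Subtype.ext (by decide +kernel)
theorem q_bs : x13 * s23 = s23 * (x12 * x12) := Subtype.ext (by decide +kernel)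
theorem q_h1s : h1 * s23 = s23 * h1 := Subtype.ext (by decide +kernel)
theorem q_h2s : h2 * s23 = s23 * h3 := Subtype.ext (by decide +kernel)
theorem q_h3s : h3 * s23 = s23 * h2 := Subtype.ext (by decide +kernel)
theorem q_scs : s23 * (x23 * s23) = x23 * (s23 * (h2 * x23)) := Subtype.ext (by decide +kernel)
theorem q_sccs : s23 * (x23 * (x23 * s23)) = x23 * (x23 * (s23 * (h3 * (x23 * x23)))) := Subtype.ext (by decide +kernel)
theorem q_stc : s23 * (s12 * x23) = x12 * (s23 * s12) := Subtype.ext (by decide +kernel)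
theorem q_tc : s12 * x23 = x13 * (x13 * s12) := Subtype.ext (by decide +kernel)
theorem q_tsa : s12 * (s23 * x12) = x23 * (s12 * s23) := Subtype.ext (by decide +kernel)
/-! ### subgroups -/

/-- the stabiliser of a vector -/
def fixK (ρ : G →* End F V) (v : V) : Subgroup G where
  carrier := {g | ρ g v = v}
  one_mem' := by change ρ 1 v = v; rw [map_one]; rfl
  mul_mem' := by
    intro x y (hx : ρ x v = v) (hy : ρ y v = v)
    change ρ (x * y) v = v
    rw [mul_ap, hy, hx]
  inv_mem' := by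
    intro x (hx : ρ x v = v)
    change ρ x⁻¹ v = v
    have h := inv_ap ρ x v
    rwa [hx] at h

theorem mem_fixK {ρ : G →* End F V} {v : V} {g : G} : g ∈ fixK ρ v ↔ ρ g v = v := Iff.rfl

/-- elements commuting with an operator -/
def comK (ρ : G →* End F V) (e : End F V) : Subgroup G where
  carrier := {g | ρ g * e = e * ρ g}
  one_mem' := by change ρ 1 * e = e * ρ 1; rw [map_one, one_mul, mul_one]
  mul_mem' := by
    intro x y (hx : ρ x * e = e * ρ x) (hy : ρ y * e = e * ρ y)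
    change ρ (x * y) * e = e * ρ (x * y)
    rw [map_mul, mul_assoc, hy, ← mul_assoc, hx, mul_assoc]
  inv_mem' := by
    intro x (hx : ρ x * e = e * ρ x)
    change ρ x⁻¹ * e = e * ρ x⁻¹
    have h1 : ρ x⁻¹ * ρ x = 1 := by rw [← map_mul, inv_mul_cancel, map_one]
    have h2 : ρ x * ρ x⁻¹ = 1 := by rw [← map_mul, mul_inv_cancel, map_one]
    have h3 : ρ x⁻¹ * (ρ x * e) * ρ x⁻¹ = ρ x⁻¹ * (e * ρ x) * ρ x⁻¹ := by rw [hx]
    rw [← mul_assoc, h1, one_mul, mul_assoc (ρ x⁻¹), mul_assoc e, h2, mul_one] at h3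
    exact h3.symm

/-- elements absorbed by an operator -/
def absK (ρ : G →* End F V) (e : End F V) : Subgroup G where
  carrier := {g | e * ρ g = e}
  one_mem' := by change e * ρ 1 = e; rw [map_one, mul_one]
  mul_mem' := by
    intro x y (hx : e * ρ x = e) (hy : e * ρ y = e)
    change e * ρ (x * y) = e
    rw [map_mul, ← mul_assoc, hx, hy]
  inv_mem' := by
    intro x (hx : e * ρ x = e)
    change e * ρ x⁻¹ = e
    have h2 : ρ x * ρ x⁻¹ = 1 := by rw [← map_mul, mul_inv_cancel, map_one]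
    have h3 : e * ρ x * ρ x⁻¹ = e := by rw [mul_assoc, h2, mul_one]
    rwa [hx] at h3

/-! ### representations -/

/-- the set-up -/
structure Rp (ρ : G →* End F V) (C : End F V) : Prop where
  n3 : (3 : F) ≠ 0
  irr : ∀ W : Submodule F V, (∀ g : G, ∀ v ∈ W, ρ g v ∈ W) → W = ⊥ ∨ W = ⊤
  ne : ρ x12 ≠ 1
  O : Op F (ρ x12) (ρ x13) (ρ x23) (ρ h1) (ρ h2) (ρ h3) (ρ s23) (ρ s12) C

/-- fixed vectors of the Borel subgroup -/
structure Yv (ρ : G →* End F V) (C : End F V) (v : V) : Prop where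
  Cv : C v = v
  h1v : ρ h1 v = v
  h2v : ρ h2 v = v
  h3v : ρ h3 v = v

namespace Rp

variable {ρ : G →* End F V} {C : End F V} (T : Rp ρ C)

include T

theorem ev {v : V} (hv : C v = v) : (av F (ρ x12) * av F (ρ x13)) v = v := by
  rw [← hv]
  exact LinearMap.congr_fun T.O.eC v

theorem x12v {v : V} (hv : C v = v) : ρ x12 v = v := by
  rw [← hv]
  exact LinearMap.congr_fun T.O.aC v

theorem x13v {v : V} (hv : C v = v) : ρ x13 v = v := by
  rw [← hv]
  exact LinearMap.congr_fun T.O.bC v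

theorem x23v {v : V} (hv : C v = v) : ρ x23 v = v := by
  rw [← hv]
  exact LinearMap.congr_fun T.O.cC v

theorem Cu {u : G} (hu : InU u) : C * ρ u = C := hu (absK ρ C) T.O.Ca T.O.Cb T.O.Cc

theorem CU {u : G} (hu : InU u) (v : V) : C (ρ u v) = C v := LinearMap.congr_fun (T.Cu hu) v

theorem rv {r : G} (hr : InR r) {v : V} (hv : Yv ρ C v) : ρ r v = v :=
  hr (fixK ρ v) (T.x12v hv.Cv) (T.x13v hv.Cv) hv.h1v hv.h2v hv.h3v

theorem rsv {r : G} (hr : InR r) {v : V} (hv : Yv ρ C v) : ρ r (ρ s23 v) = ρ s23 v := by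
  have ha := T.x12v hv.Cv
  have hb := T.x13v hv.Cv
  refine hr (fixK ρ (ρ s23 v)) ?_ ?_ ?_ ?_ ?_
  · rw [mem_fixK, ← mul_ap, q_as, mul_ap, mul_ap, hb, hb]
  · rw [mem_fixK, ← mul_ap, q_bs, mul_ap, mul_ap, ha, ha]
  · rw [mem_fixK, ← mul_ap, q_h1s, mul_ap, hv.h1v]
  · rw [mem_fixK, ← mul_ap, q_h2s, mul_ap, hv.h3v]
  · rw [mem_fixK, ← mul_ap, q_h3s, mul_ap, hv.h2v]

/-- a non-zero operator separates -/
theorem sep {A : End F V} (hA : A ≠ 0) {x : V} (h : ∀ g, A (ρ g x) = 0) : x = 0 := by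
  let W : Submodule F V :=
    { carrier := {x | ∀ g, A (ρ g x) = 0}
      zero_mem' := fun g => by rw [map_zero, map_zero]
      add_mem' := fun {a b} ha hb g => by rw [map_add, map_add, ha g, hb g, add_zero]
      smul_mem' := fun c a ha g => by rw [map_smul, map_smul, ha g, smul_zero] }
  rcases T.irr W (fun g v hv k => by rw [← mul_ap]; exact hv _) with h1 | h1
  · have h2 : x ∈ W := h
    rw [h1] at h2
    exact (Submodule.mem_bot F).1 h2
  · exfalso
    apply hA
    ext y
    have h2 : y ∈ W := by rw [h1]; trivial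
    have h3 := h2 1
    rw [map_one] at h3
    exact h3

/-- orbits span -/
theorem span {w : V} (hw : w ≠ 0) : Submodule.span F (Set.range fun g => ρ g w) = ⊤ := by
  rcases T.irr (Submodule.span F (Set.range fun g => ρ g w)) (by
    intro g v hv
    induction hv using Submodule.span_induction with
    | mem v hv =>
      obtain ⟨k, rfl⟩ := hv
      exact Submodule.subset_span ⟨g * k, mul_ap ρ g k w⟩
    | zero => rw [map_zero]; exact Submodule.zero_mem _
    | add a b _ _ ha hb => rw [map_add]; exact Submodule.add_mem _ ha hb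
    | smul c a _ ha => rw [map_smul]; exact Submodule.smul_mem _ _ ha) with h | h
  · exfalso
    apply hw
    have h1 : ρ 1 w ∈ (⊥ : Submodule F V) := by rw [← h]; exact Submodule.subset_span ⟨1, rfl⟩
    rw [map_one] at h1
    exact (Submodule.mem_bot F).1 h1
  · exact h

/-! ### operator identities -/

theorem I1 : C * ρ s12 * ρ s23 * C = C * ρ s12 * C * ρ s23 * C := by
  have h1 : C * ρ s12 = C * ρ s12 * (av F (ρ x23) * av F (ρ x13)) := by
    rw [mul_assoc, T.O.te', ← mul_assoc, T.O.Ce']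
  have h2 : ρ s23 * C = (av F (ρ x12) * av F (ρ x13)) * (ρ s23 * C) := by
    rw [← mul_assoc, ← T.O.se, mul_assoc, T.O.eC]
  have h3 : C * ρ s12 * (ρ s23 * C) = C * ρ s12 * C * (ρ s23 * C) := by
    conv_lhs => rw [h1, h2]
    rw [mul_assoc (C * ρ s12), ← mul_assoc _ _ (ρ s23 * C), T.O.e'e, ← mul_assoc (C * ρ s12)]
  rw [← mul_assoc, ← mul_assoc] at h3
  exact h3

theorem I2 : C * ρ s23 * ρ s12 * C = C * ρ s23 * C * ρ s12 * C := by
  have h1 : C * ρ s23 = C * ρ s23 * (av F (ρ x12) * av F (ρ x13)) := by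
    rw [mul_assoc, T.O.se, ← mul_assoc, T.O.Ce]
  have h2 : ρ s12 * C = (av F (ρ x23) * av F (ρ x13)) * (ρ s12 * C) := by
    rw [← mul_assoc, ← T.O.te', mul_assoc, T.O.e'C]
  have h3 : C * ρ s23 * (ρ s12 * C) = C * ρ s23 * C * (ρ s12 * C) := by
    conv_lhs => rw [h1, h2]
    rw [mul_assoc (C * ρ s23), ← mul_assoc _ _ (ρ s12 * C), T.O.ee', ← mul_assoc (C * ρ s23)]
  rw [← mul_assoc, ← mul_assoc] at h3
  exact h3

theorem Cstc : C * ρ s23 * ρ s12 * ρ x23 = C * ρ s23 * ρ s12 := by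
  have h := congrArg ρ q_stc
  rw [map_mul, map_mul, map_mul, map_mul] at h
  have h2 : C * (ρ s23 * (ρ s12 * ρ x23)) = C * (ρ x12 * (ρ s23 * ρ s12)) := by rw [h]
  rw [← mul_assoc C (ρ x12), T.O.Ca] at h2
  simpa only [mul_assoc] using h2

theorem Ctsa : C * ρ s12 * ρ s23 * ρ x12 = C * ρ s12 * ρ s23 := by
  have h := congrArg ρ q_tsa
  rw [map_mul, map_mul, map_mul, map_mul] at h
  have h2 : C * (ρ s12 * (ρ s23 * ρ x12)) = C * (ρ x23 * (ρ s12 * ρ s23)) := by rw [h]
  rw [← mul_assoc C (ρ x23), T.O.Cc] at h2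
  simpa only [mul_assoc] using h2

theorem Ctc : C * ρ s12 * ρ x23 = C * ρ s12 := by
  have h := congrArg ρ q_tc
  rw [map_mul, map_mul, map_mul] at h
  have h2 : C * (ρ s12 * ρ x23) = C * (ρ x13 * (ρ x13 * ρ s12)) := by rw [h]
  rw [← mul_assoc C (ρ x13), T.O.Cb, ← mul_assoc C (ρ x13), T.O.Cb] at h2
  simpa only [mul_assoc] using h2

theorem I3 : C * ρ s23 * ρ s12 * ρ s23 * C = C * ρ s23 * ρ s12 * C * ρ s23 * C := by
  have h1 : C * ρ s23 * ρ s12 = C * ρ s23 * ρ s12 * av F (ρ x23) := (av_fix_right T.n3 T.Cstc).symm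
  have h2 : ρ s23 * C = (av F (ρ x12) * av F (ρ x13)) * (ρ s23 * C) := by
    rw [← mul_assoc, ← T.O.se, mul_assoc, T.O.eC]
  have h3 : C * ρ s23 * ρ s12 * (ρ s23 * C) = C * ρ s23 * ρ s12 * C * (ρ s23 * C) := by
    conv_lhs => rw [h1, h2]
    rw [mul_assoc (C * ρ s23 * ρ s12), ← mul_assoc (av F (ρ x23)) _ (ρ s23 * C), T.O.ce,
      ← mul_assoc (C * ρ s23 * ρ s12)]
  rw [← mul_assoc, ← mul_assoc] at h3
  exact h3

theorem I4 : C * ρ s12 * ρ s23 * ρ s12 * C = C * ρ s12 * ρ s23 * C * ρ s12 * C := by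
  have h1 : C * ρ s12 * ρ s23 = C * ρ s12 * ρ s23 * av F (ρ x12) := (av_fix_right T.n3 T.Ctsa).symm
  have h2 : ρ s12 * C = (av F (ρ x23) * av F (ρ x13)) * (ρ s12 * C) := by
    rw [← mul_assoc, ← T.O.te', mul_assoc, T.O.e'C]
  have h3 : C * ρ s12 * ρ s23 * (ρ s12 * C) = C * ρ s12 * ρ s23 * C * (ρ s12 * C) := by
    conv_lhs => rw [h1, h2]
    rw [mul_assoc (C * ρ s12 * ρ s23), ← mul_assoc (av F (ρ x12)) _ (ρ s12 * C), T.O.ae',
      ← mul_assoc (C * ρ s12 * ρ s23)]
  rw [← mul_assoc, ← mul_assoc] at h3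
  exact h3

end Rp

end Cfsg.Agent.H907.L33
end

-- part: H907/L33/Hecke2
section
/-!
# Modules of dimension at most 12 of `SL₃(3)`: fixed vectors of a Sylow 3-subgroup, II (helper907)
-/

set_option autoImplicit false
set_option linter.unusedSectionVars false

namespace Cfsg.Agent.H907.L33

open Module Matrix Cfsg.Agent.H915.Idem Cfsg.Agent.H915.L33

variable {F : Type*} [Field F] {V : Type*} [AddCommGroup V] [Module F V] [FiniteDimensional F V]

theorem ap_rel (ρ : G →* End F V) {x y : G} (h : x = y) (v : V) : ρ x v = ρ y v := by rw [h]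

namespace Rp

variable {ρ : G →* End F V} {C : End F V} (T : Rp ρ C)

include T

theorem CC (x : V) : C (C x) = C x := LinearMap.congr_fun T.O.CC x
theorem Cb (x : V) : C (ρ x13 x) = C x := LinearMap.congr_fun T.O.Cb x
theorem Cc (x : V) : C (ρ x23 x) = C x := LinearMap.congr_fun T.O.Cc x
theorem h1C (x : V) : ρ h1 (C x) = C (ρ h1 x) := LinearMap.congr_fun T.O.h1C x
theorem h2C (x : V) : ρ h2 (C x) = C (ρ h2 x) := LinearMap.congr_fun T.O.h2C x
theorem h3C (x : V) : ρ h3 (C x) = C (ρ h3 x) := LinearMap.congr_fun T.O.h3C x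

theorem i1 {v : V} (hv : C v = v) : C (ρ s12 (ρ s23 v)) = C (ρ s12 (C (ρ s23 v))) := by
  have h := LinearMap.congr_fun T.I1 v
  simpa only [Module.End.mul_apply, hv] using h

theorem i2 {v : V} (hv : C v = v) : C (ρ s23 (ρ s12 v)) = C (ρ s23 (C (ρ s12 v))) := by
  have h := LinearMap.congr_fun T.I2 v
  simpa only [Module.End.mul_apply, hv] using h

theorem i3 {v : V} (hv : C v = v) : C (ρ s23 (ρ s12 (ρ s23 v))) = C (ρ s23 (ρ s12 (C (ρ s23 v)))) := by
  have h := LinearMap.congr_fun T.I3 v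
  simpa only [Module.End.mul_apply, hv] using h

theorem Ys {v : V} (hv : Yv ρ C v) : Yv ρ C (C (ρ s23 v)) where
  Cv := T.CC _
  h1v := by rw [T.h1C, ← mul_ap, q_h1s, mul_ap, hv.h1v]
  h2v := by rw [T.h2C, ← mul_ap, q_h2s, mul_ap, hv.h3v]
  h3v := by rw [T.h3C, ← mul_ap, q_h3s, mul_ap, hv.h2v]

theorem e_s {v : V} (hv : C v = v) : (av F (ρ x12) * av F (ρ x13)) (ρ s23 v) = ρ s23 v := by
  have h := LinearMap.congr_fun T.O.se v
  rw [Module.End.mul_apply, T.ev hv] at h
  exact h.symm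

theorem avc_s {v : V} (hv : C v = v) : av F (ρ x23) (ρ s23 v) = C (ρ s23 v) := by
  have h := LinearMap.congr_fun T.O.ce (ρ s23 v)
  rw [Module.End.mul_apply, T.e_s hv] at h
  exact h

theorem three_ap (g : G) (x : V) : (3 : F) • av F (ρ g) x = x + ρ g x + ρ g (ρ g x) :=
  LinearMap.congr_fun (three_av T.n3 (ρ g)) x

theorem ss (x : V) : ρ s23 (ρ s23 x) = x := by rw [← mul_ap, r_ss, map_one]; rfl
theorem scs {v : V} (hv : Yv ρ C v) : ρ s23 (ρ x23 (ρ s23 v)) = ρ x23 (ρ s23 v) := by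
  have h := ap_rel ρ q_scs v
  rw [mul_ap, mul_ap, mul_ap, mul_ap, mul_ap, T.x23v hv.Cv, hv.h2v] at h
  exact h

theorem sccs {v : V} (hv : Yv ρ C v) : ρ s23 (ρ x23 (ρ x23 (ρ s23 v))) = ρ x23 (ρ x23 (ρ s23 v)) := by
  have h := ap_rel ρ q_sccs v
  rw [mul_ap, mul_ap, mul_ap, mul_ap, mul_ap, mul_ap, mul_ap, mul_ap, T.x23v hv.Cv, T.x23v hv.Cv, hv.h3v] at h
  exact h

/-- the quadratic relation for `s` -/
theorem quad_s {v : V} (hv : Yv ρ C v) : (3 : F) • C (ρ s23 (C (ρ s23 v))) = v + (2 : F) • C (ρ s23 v) := by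
  have h1 := T.three_ap x23 (ρ s23 v)
  rw [T.avc_s hv.Cv] at h1
  have h2 : (3 : F) • C (ρ s23 (C (ρ s23 v))) = C (ρ s23 ((3 : F) • C (ρ s23 v))) := by rw [map_smul, map_smul]
  rw [h2, h1, map_add, map_add, map_add, map_add, T.ss, T.scs hv, T.sccs hv, T.Cc, T.Cc, T.Cc, hv.Cv]
  module

theorem u23_cases (j : ZMod 3) : u23 j = 1 ∨ u23 j = x23 ∨ u23 j = x23 * x23 := by
  have key : ∀ t : ZMod 3, (u23 t).1 = 1 ∨ (u23 t).1 = x23.1 ∨ (u23 t).1 = (x23 * x23).1 := by decide +kernel
  rcases key j with h | h | h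
  · exact Or.inl (Subtype.ext h)
  · exact Or.inr (Or.inl (Subtype.ext h))
  · exact Or.inr (Or.inr (Subtype.ext h))

/-- `C n c = C n` for `n = 1, t, s t` -/
theorem Cnc {n : G} (hn : n = 1 ∨ n = s12 ∨ n = s23 * s12) (x : V) : C (ρ n (ρ x23 x)) = C (ρ n x) := by
  rcases hn with rfl | rfl | rfl
  · rw [map_one]; exact T.Cc x
  · exact LinearMap.congr_fun T.Ctc x
  · rw [mul_ap, mul_ap]
    exact LinearMap.congr_fun T.Cstc x

/-- **a fixed vector of the Borel subgroup with `C s v = v` is fixed by `s`** -/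
theorem claim_s (hC : C ≠ 0) {v : V} (hv : Yv ρ C v) (h : C (ρ s23 v) = v) : ρ s23 v = v := by
  have L : ∀ n : G, (n = 1 ∨ n = s12 ∨ n = s23 * s12) → C (ρ n (ρ s23 v)) = C (ρ n v) := by
    rintro n (rfl | rfl | rfl)
    · rw [map_one]
      change C (ρ s23 v) = C v
      rw [h, hv.Cv]
    · rw [T.i1 hv.Cv, h]
    · rw [mul_ap, mul_ap, T.i3 hv.Cv, h]
  rw [← sub_eq_zero]
  apply T.sep hC
  intro g
  obtain ⟨u, n, r, hu, hn, hr, rfl | ⟨j, rfl⟩⟩ := bruhat g
  · rw [mul_ap, mul_ap, T.CU hu, map_sub, map_sub, map_sub, T.rsv hr hv, T.rv hr hv, L n hn, sub_self]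
  · rw [mul_ap, mul_ap, mul_ap, mul_ap, T.CU hu, map_sub (ρ r), T.rsv hr hv, T.rv hr hv]
    have hc := T.x23v hv.Cv
    rcases T.u23_cases j with h1 | h1 | h1
    · rw [h1, map_one]
      change C (ρ n (ρ s23 (ρ s23 v - v))) = 0
      rw [map_sub, T.ss, map_sub, map_sub, L n hn, sub_self]
    · rw [h1, map_sub, hc, map_sub, T.scs hv, map_sub, map_sub, T.Cnc hn, sub_self]
    · rw [h1, mul_ap, map_sub, map_sub, hc, hc, map_sub, T.sccs hv, map_sub, map_sub, T.Cnc hn, T.Cnc hn, sub_self]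

end Rp

end Cfsg.Agent.H907.L33
end

-- part: H907/L33/Point
section
/-!
# Modules of dimension at most 12 of `SL₃(3)`: vectors fixed by the stabiliser of a point (helper907)
-/

set_option autoImplicit false
set_option linter.unusedSectionVars false

namespace Cfsg.Agent.H907.L33

open Module Matrix Cfsg.Agent.H915.Idem Cfsg.Agent.H915.L33

variable {F : Type*} [Field F] {V : Type*} [AddCommGroup V] [Module F V] [FiniteDimensional F V]

/-- the projection onto the fixed vectors of the unipotent radical of the stabiliser of a point -/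
abbrev Ee (ρ : G →* End F V) : End F V := av F (ρ x12) * av F (ρ x13)

/-- the stabiliser of a point commutes with `e` -/
theorem com_P (ρ : G →* End F V) (k : G) (h10 : k.1 1 0 = 0) (h20 : k.1 2 0 = 0) : ρ k * Ee ρ = Ee ρ * ρ k := by
  have K := full ρ
  have ha : ρ x12 * Ee ρ = Ee ρ * ρ x12 := by
    rw [← mul_assoc, mul_av K.H.ab.ha, mul_assoc, ← av_comm K.H.ab.hab, ← mul_assoc, av_mul K.H.ab.ha]
  have hb : ρ x13 * Ee ρ = Ee ρ * ρ x13 := by
    have e1 : Ee ρ * ρ x13 = Ee ρ := by rw [mul_assoc, av_mul K.H.ab.hb]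
    have e2 : ρ x13 * Ee ρ = Ee ρ := by
      change ρ x13 * (av F (ρ x12) * av F (ρ x13)) = av F (ρ x12) * av F (ρ x13)
      rw [K.H.ab.e_comm, ← mul_assoc, mul_av K.H.ab.hb]
    rw [e1, e2]
  have hh2 : ρ h2 * Ee ρ = Ee ρ * ρ h2 := by
    rw [← mul_assoc, av_conj K.h2a, av_sq K.H.ab.ha, mul_assoc, av_comm K.h2b, ← mul_assoc]
  exact point_mem (K := comK ρ (Ee ρ)) ha hb K.H.c_e K.H.h_e hh2 K.H.k_e K.H.s_e k h10 h20

/-- elements outside the stabiliser of a point -/
theorem out_form (g : G) (h : ¬ (g.1 1 0 = 0 ∧ g.1 2 0 = 0)) : ∃ k k' : G, k.1 1 0 = 0 ∧ k.1 2 0 = 0 ∧ k'.1 1 0 = 0 ∧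
    k'.1 2 0 = 0 ∧ g = k * (s12 * k') := by
  obtain ⟨k, hk1, hk2⟩ := two_trans (g.1 *ᵥ e1) (mulVec_ne g (by decide)) (fun h1 => h (first_col g (Or.inl h1)))
    (fun h1 => h (first_col g (Or.inr h1)))
  have hs : s12.1 *ᵥ e1 = e2 := by decide
  obtain ⟨d1, d2⟩ := first_col k (Or.inl hk1)
  have h1 : ((k * s12)⁻¹ * g).1 *ᵥ e1 = e1 := by
    have h2 : k.1 *ᵥ e2 = (k * s12).1 *ᵥ e1 := by rw [mulVec_mul', hs]
    rw [mulVec_mul', ← hk2, h2, inv_mulVec']
  obtain ⟨d3, d4⟩ := first_col _ (Or.inl h1)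
  exact ⟨k, _, d1, d2, d3, d4, by group⟩

section op

variable {ρ : G →* End F V} {C : End F V} (O : Op F (ρ x12) (ρ x13) (ρ x23) (ρ h1) (ρ h2) (ρ h3) (ρ s23) (ρ s12) C)

include O

theorem e_t_e : Ee ρ * ρ s12 * Ee ρ = C * ρ s12 * Ee ρ := by
  have h : Ee ρ * ρ s12 * Ee ρ = Ee ρ * ρ s12 * (av F (ρ x13) * Ee ρ) := by rw [O.be]
  rw [h, ← mul_assoc, mul_assoc (Ee ρ), O.tb, ← mul_assoc (Ee ρ), O.ec]

/-- `C ≠ 0` -/
theorem C_ne (n3 : (3 : F) ≠ 0) (hd : finrank F V ≤ 12) (hr : rk (Ee ρ) = rk C + 2) : C ≠ 0 := by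
  intro h0
  rw [h0, rk_zero] at hr
  have hE : Ee ρ ≠ 0 := by
    intro h
    rw [h, rk_zero] at hr
    omega
  obtain ⟨x, hx⟩ : ∃ x, Ee ρ x ≠ 0 := by
    by_contra h
    push Not at h
    exact hE (LinearMap.ext h)
  obtain ⟨w, hw⟩ : ∃ w, w = Ee ρ x := ⟨_, rfl⟩
  rw [← hw] at hx
  have ew : Ee ρ w = w := by rw [hw]; exact LinearMap.congr_fun O.idem x
  have key : ∀ g : G, ¬ (g.1 1 0 = 0 ∧ g.1 2 0 = 0) → Ee ρ (ρ g w) = 0 := by
    intro g hg
    obtain ⟨k, k', d1, d2, d3, d4, rfl⟩ := out_form g hg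
    rw [mul_ap, mul_ap]
    have e1 : Ee ρ (ρ k (ρ s12 (ρ k' w))) = ρ k (Ee ρ (ρ s12 (ρ k' w))) :=
      (LinearMap.congr_fun (com_P ρ k d1 d2) _).symm
    have e2 : Ee ρ (ρ k' w) = ρ k' w := by
      have := LinearMap.congr_fun (com_P ρ k' d3 d4) w
      rw [Module.End.mul_apply, ew] at this
      exact this.symm
    have e3 : Ee ρ (ρ s12 (ρ k' w)) = 0 := by
      have h : Ee ρ (ρ s12 (Ee ρ (ρ k' w))) = C (ρ s12 (Ee ρ (ρ k' w))) := LinearMap.congr_fun (e_t_e O) (ρ k' w)
      rw [e2, h0] at h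
      exact h
    rw [e1, e3, map_zero]
  choose m hm using fun i => exists_mk (pt i) (pt_ne i)
  have hli : LinearIndependent F (fun i => ρ (m i) w) := by
    rw [Fintype.linearIndependent_iff]
    intro c hc j
    have h1 : Ee ρ (ρ (m j)⁻¹ (∑ i, c i • ρ (m i) w)) = c j • w := by
      rw [map_sum, map_sum, Finset.sum_eq_single j]
      · rw [map_smul, inv_ap, map_smul, ew]
      · intro i _ hij
        rw [map_smul, map_smul, ← mul_ap, key, smul_zero]
        intro hcol
        apply hij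
        have h2 : ((m j)⁻¹ * m i).1 *ᵥ e1 = e1 ∨ ((m j)⁻¹ * m i).1 *ᵥ e1 = -e1 := by
          have h3 : ∀ M : G, M.1 1 0 = 0 ∧ M.1 2 0 = 0 → M.1 *ᵥ e1 = e1 ∨ M.1 *ᵥ e1 = -e1 := by
            intro M hM
            have h4 : M.1 *ᵥ e1 = ![M.1 0 0, 0, 0] := by
              funext i
              have h5 : (M.1 *ᵥ e1) i = M.1 i 0 := by
                simp [Matrix.mulVec, dotProduct, Fin.sum_univ_three, e1]
              rw [h5]
              fin_cases i
              · rfl
              · exact hM.1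
              · exact hM.2
            have h6 : M.1 0 0 ≠ 0 := by
              intro h0
              rw [h0] at h4
              have h7 : M.1 *ᵥ e1 = 0 := h4.trans (by decide)
              exact mulVec_ne M (by decide) h7
            have h8 : ∀ z : ZMod 3, z ≠ 0 → (![z, 0, 0] : X) = e1 ∨ (![z, 0, 0] : X) = -e1 := by decide
            rw [h4]
            exact h8 _ h6
          exact h3 _ hcol
        apply pt_inj
        rw [mulVec_mul', hm] at h2
        rcases h2 with h2 | h2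
        · left
          have h3 : (m j).1 *ᵥ (((m j)⁻¹).1 *ᵥ pt i) = (m j).1 *ᵥ e1 := congrArg (fun z => (m j).1 *ᵥ z) h2
          rw [hm, ← mulVec_mul', mul_inv_cancel] at h3
          rw [← h3]
          exact (Matrix.one_mulVec _).symm
        · right
          have h3 : (m j).1 *ᵥ (((m j)⁻¹).1 *ᵥ pt i) = (m j).1 *ᵥ (-e1) := congrArg (fun z => (m j).1 *ᵥ z) h2
          rw [Matrix.mulVec_neg, hm, ← mulVec_mul', mul_inv_cancel] at h3
          rw [← h3]
          exact (Matrix.one_mulVec _).symm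
      · intro h; exact absurd (Finset.mem_univ j) h
    rw [hc, map_zero, map_zero] at h1
    exact (smul_eq_zero.1 h1.symm).resolve_right hx
  have h1 := hli.fintype_card_le_finrank
  rw [Fintype.card_fin] at h1
  omega

end op

namespace Rp

variable {ρ : G →* End F V} {C : End F V} (T : Rp ρ C)

include T

end Rp

end Cfsg.Agent.H907.L33
end

-- part: H907/L33/Two
section
/-!
# Modules of dimension 12 of `SL₃(3)` in characteristic 2 (helper907)

The stabiliser of a point fixes a non-zero vector, the 13 conjugates of it form a vector system.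
-/

set_option autoImplicit false
set_option linter.unusedSectionVars false

namespace Cfsg.Agent.H907.L33

open Module Matrix Cfsg.Agent.H915.Idem Cfsg.Agent.H915.L33

variable {F : Type*} [Field F] {V : Type*} [AddCommGroup V] [Module F V] [FiniteDimensional F V]

theorem add_self_two (n2 : (2 : F) = 0) (x : V) : x + x = 0 := by
  have : x + x = (2 : F) • x := by module
  rw [this, n2, zero_smul]

/-- fixed vectors of an involution in characteristic two -/
theorem exists_fix_inv (n2 : (2 : F) = 0) {S : Submodule F V} {f : V →ₗ[F] V} (hf : ∀ x ∈ S, f (f x) = x)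
    (hS : ∀ x ∈ S, f x ∈ S) {x : V} (hx : x ∈ S) (h0 : x ≠ 0) : ∃ y ∈ S, y ≠ 0 ∧ f y = y := by
  by_cases h : f x = x
  · exact ⟨x, hx, h0, h⟩
  · refine ⟨x + f x, S.add_mem hx (hS x hx), fun h1 => h ?_, ?_⟩
    · have h2 := add_self_two n2 x
      rw [← h2] at h1
      exact add_left_cancel h1
    · rw [map_add, hf x hx, add_comm]

namespace Rp

variable {ρ : G →* End F V} {C : End F V} (T : Rp ρ C)

include T

/-- the space of vectors fixed by the Borel subgroup -/
theorem exists_Y (hC : C ≠ 0) (n2 : (2 : F) = 0) : ∃ v, v ≠ 0 ∧ Yv ρ C v := by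
  obtain ⟨x, hx⟩ : ∃ x, C x ≠ 0 := by
    by_contra h
    push Not at h
    exact hC (LinearMap.ext h)
  let S : Submodule F V :=
    { carrier := {y | C y = y}
      zero_mem' := map_zero _
      add_mem' := fun {a b} ha hb => by
        change C (a + b) = a + b
        rw [map_add, show C a = a from ha, show C b = b from hb]
      smul_mem' := fun c a ha => by
        change C (c • a) = c • a
        rw [map_smul, show C a = a from ha] }
  obtain ⟨y, hy, y0, hy1⟩ := exists_fix_inv n2 (S := S) (f := ρ h1)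
    (fun x _ => by rw [← mul_ap, r_h11, map_one]; rfl)
    (fun x (hx : C x = x) => by
      change C (ρ h1 x) = ρ h1 x
      rw [← T.h1C, hx]) (x := C x) (T.CC x) hx
  let S' : Submodule F V :=
    { carrier := {y | C y = y ∧ ρ h1 y = y}
      zero_mem' := ⟨map_zero _, map_zero _⟩
      add_mem' := fun {a b} ha hb => by
        refine ⟨?_, ?_⟩
        · rw [map_add, ha.1, hb.1]
        · rw [map_add, ha.2, hb.2]
      smul_mem' := fun c a ha => by
        refine ⟨?_, ?_⟩
        · rw [map_smul, ha.1]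
        · rw [map_smul, ha.2] }
  obtain ⟨z, ⟨hz1, hz2⟩, z0, hz3⟩ := exists_fix_inv n2 (S := S') (f := ρ h2)
    (fun x _ => by rw [← mul_ap, r_h22, map_one]; rfl)
    (fun x (hx : C x = x ∧ ρ h1 x = x) => by
      change C (ρ h2 x) = ρ h2 x ∧ ρ h1 (ρ h2 x) = ρ h2 x
      refine ⟨by rw [← T.h2C, hx.1], ?_⟩
      rw [← mul_ap, r_h12, ← r_h21, mul_ap, hx.2]) (x := y) ⟨hy, hy1⟩ y0
  refine ⟨z, z0, ⟨hz1, hz2, hz3, ?_⟩⟩
  rw [← r_h12, mul_ap, hz3, hz2]

/-- **the stabiliser of a point fixes a vector** -/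
theorem exists_fixed_two (hC : C ≠ 0) (n2 : (2 : F) = 0) :
    ∃ w : V, w ≠ 0 ∧ ∀ g : G, g.1 1 0 = 0 → g.1 2 0 = 0 → ρ g w = w := by
  obtain ⟨v, v0, hv⟩ := T.exists_Y hC n2
  let S : Submodule F V :=
    { carrier := {y | Yv ρ C y}
      zero_mem' := ⟨map_zero _, map_zero _, map_zero _, map_zero _⟩
      add_mem' := fun {a b} ha hb => by
        refine ⟨?_, ?_, ?_, ?_⟩
        · rw [map_add, ha.1, hb.1]
        · rw [map_add, ha.2, hb.2]
        · rw [map_add, ha.3, hb.3]
        · rw [map_add, ha.4, hb.4]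
      smul_mem' := fun c a ha => by
        refine ⟨?_, ?_, ?_, ?_⟩
        · rw [map_smul, ha.1]
        · rw [map_smul, ha.2]
        · rw [map_smul, ha.3]
        · rw [map_smul, ha.4] }
  obtain ⟨w, hw, w0, hw1⟩ := exists_fix_inv n2 (S := S) (f := C * ρ s23)
    (fun x (hx : Yv ρ C x) => by
      have h := T.quad_s hx
      rw [n2, zero_smul, add_zero] at h
      have h3 : (3 : F) = 1 := by linear_combination n2
      rw [h3, one_smul] at h
      exact h)
    (fun x (hx : Yv ρ C x) => T.Ys hx) (x := v) hv v0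
  have hs := T.claim_s hC hw hw1
  have hw' : Yv ρ C w := hw
  exact ⟨w, w0, fun g h10 h20 => point_mem (K := fixK ρ w) (T.x12v hw'.Cv) (T.x13v hw'.Cv) (T.x23v hw'.Cv) hw'.h1v
    hw'.h2v hw'.h3v hs g h10 h20⟩

end Rp

section sys

variable (ρ : G →* End F V) (w : V) (hw : ∀ g : G, g.1 1 0 = 0 → g.1 2 0 = 0 → ρ g w = w)
variable (hirr : ∀ W : Submodule F V, (∀ g : G, ∀ v ∈ W, ρ g v ∈ W) → W = ⊥ ∨ W = ⊤) (hne : ρ x12 ≠ 1)

include hw in
/-- the group permutes the 13 vectors -/
theorem exists_perm13 (g : G) : ∃ σ : Equiv.Perm (Fin 13), ∀ i, ρ g (vv ρ w (pt i)) = vv ρ w (pt (σ i)) := by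
  choose σ hσ using fun i => pt_surj _ (mulVec_ne g (pt_ne i))
  have hinj : Function.Injective σ := by
    intro i j h
    apply pt_inj
    have h1 := hσ i
    have h2 := hσ j
    rw [← h] at h2
    have h3 : g.1 *ᵥ pt i = g.1 *ᵥ pt j ∨ g.1 *ᵥ pt i = -(g.1 *ᵥ pt j) := by
      rcases h1 with h1 | h1 <;> rcases h2 with h2 | h2
      · left; rw [h1, h2]
      · right; rw [h1, h2, neg_neg]
      · right; rw [h1, h2]
      · left; rw [h1, h2]
    rcases h3 with h3 | h3
    · left
      have h4 := congrArg (fun z => (g⁻¹).1 *ᵥ z) h3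
      simpa only [inv_mulVec'] using h4
    · right
      have h4 := congrArg (fun z => (g⁻¹).1 *ᵥ z) h3
      simpa only [inv_mulVec', Matrix.mulVec_neg] using h4
  refine ⟨Equiv.ofBijective _ (Finite.injective_iff_bijective.1 hinj), fun i => ?_⟩
  rw [vv_smul ρ w hw]
  change vv ρ w (g.1 *ᵥ pt i) = vv ρ w (pt (σ i))
  rcases hσ i with h | h
  · rw [h]
  · rw [h, vv_neg ρ w hw]

include hw hirr hne in
theorem sum_zero' : ∑ i, vv ρ w (pt i) = 0 := by
  apply fix_zero ρ hirr hne
  intro g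
  obtain ⟨σ, hσ⟩ := exists_perm13 ρ w hw g
  rw [map_sum]
  simp only [hσ]
  exact Equiv.sum_comp σ (fun i => vv ρ w (pt i))

include hw hirr hne in
/-- **the vector system** -/
theorem sys' (h12 : finrank F V = 12) (hw0 : w ≠ 0) : Cfsg.Agent.H882.Del.Sys F (fun i => vv ρ w (pt i)) where
  span := span_top ρ w hw hirr hw0
  card := by rw [h12]; rfl
  pos := by rw [h12]; norm_num
  sum := sum_zero' ρ w hw hirr hne

end sys

end Cfsg.Agent.H907.L33
end

-- part: H907/L33/Core
section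
/-!
# Cores of degree 12 with socle `L₃(3)` in characteristic 2 (helper907)

* `two_main` : `|F| = 2`, `SD P`, `Fr P 2`, `FixQ P`, and every non-degenerate quadratic form fixed by `P` is of minus
  type.
-/

set_option autoImplicit false
set_option linter.unusedSectionVars false

namespace Cfsg.Agent.H907.L33

open Cfsg Cfsg.Geo Matrix Module Cfsg.Agent.H915.LD Cfsg.Agent.H915.Idem
open Cfsg.Agent.H915.L33 hiding rep rep_apply

universe u v

variable {ι : Type} [Fintype ι] [DecidableEq ι] {F : Type u} [Field F] {P : Subgroup (GL ι F)}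

theorem exists_rp (hC : Core P) (e : Soc P ≃* T33) (n3 : (3 : F) ≠ 0) (hι : Fintype.card ι ≤ 12) :
    ∃ (θ : G ≃* P) (C : End F (ι → F)), Rp (H915.L33.rep θ) C ∧ C ≠ 0 := by
  obtain ⟨θ⟩ := H915.L33.exists_equiv hC e
  have hdim : finrank F (ι → F) ≤ 12 := by rw [finrank_fintype_fun_eq_card]; exact hι
  have hne : ∀ g : G, g ≠ 1 → H915.L33.rep θ g ≠ 1 := by
    intro g hg h
    apply hg
    apply θ.injective
    rw [map_one]
    apply Subtype.ext
    apply Units.ext
    have h1 : Matrix.toLinAlgEquiv' ((θ g : P) : GL ι F).1 = (1 : End F (ι → F)) := h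
    rw [← map_one (Matrix.toLinAlgEquiv' : Matrix ι ι F ≃ₐ[F] _)] at h1
    exact Matrix.toLinAlgEquiv'.injective h1
  have n1 : x12 ≠ 1 := by
    intro h
    exact absurd (congrArg Subtype.val h) (by decide)
  have n1' : x23 ≠ 1 := by
    intro h
    exact absurd (congrArg Subtype.val h) (by decide)
  obtain ⟨C, O, r1, r2, -, -⟩ := exists_op (full (H915.L33.rep θ)) n3 (by omega) (hne _ n1) (hne _ n1')
  refine ⟨θ, C, ⟨n3, fun W hW => ?_, hne _ n1, O⟩, C_ne O n3 hdim r1⟩
  refine hC.absIrred.1 W fun s hs => ?_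
  obtain ⟨g, hg, rfl⟩ := hs
  rintro _ ⟨v, hv, rfl⟩
  have h := hW (θ.symm ⟨g, hg⟩) v hv
  rw [H915.L33.rep_apply, MulEquiv.apply_symm_apply] at h
  rwa [Matrix.toLin'_apply]

/-- the data in characteristic two -/
structure D2 (ρ : G →* End F (ι → F)) (w : ι → F) : Prop where
  hw : ∀ g : G, g.1 1 0 = 0 → g.1 2 0 = 0 → ρ g w = w
  w0 : w ≠ 0
  S : Cfsg.Agent.H882.Del.Sys F (fun i => vv ρ w (pt i))

theorem exists_d2 (hC : Core P) (e : Soc P ≃* T33) (n2 : (2 : F) = 0) (hι : Fintype.card ι = 12) :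
    ∃ (θ : G ≃* P) (w : ι → F), D2 (H915.L33.rep θ) w := by
  have n3 : (3 : F) ≠ 0 := by
    intro h
    have : (1 : F) = 0 := by linear_combination h - n2
    exact one_ne_zero this
  obtain ⟨θ, C, T, hC0⟩ := exists_rp hC e n3 hι.le
  obtain ⟨w, w0, hw⟩ := T.exists_fixed_two hC0 n2
  have hdim : finrank F (ι → F) = 12 := by rw [finrank_fintype_fun_eq_card, hι]
  exact ⟨θ, w, hw, w0, sys' _ w hw T.irr T.ne hdim w0⟩

/-- a Singer cycle -/
def SING : Matrix (Fin 3) (Fin 3) (ZMod 3) := !![0, 0, 1; 1, 0, 1; 0, 1, 0]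

/-- the 13-cycle of a Singer cycle -/
def TAU : Fin 13 → Fin 13 := ![0, 1, 2, 3, 7, 9, 11, 12, 5, 4, 8, 10, 6]

theorem sing_det : SING.det = 1 := by (simp only [detL_eq_c3625]; decide +kernel)

theorem sing_pow : SING * SING * SING = 1 + SING := by decide

/-- a Singer cycle -/
def sg : G := ⟨SING, sing_det⟩

theorem sg_pow : sg ^ 13 = 1 := by
  apply Subtype.ext
  have h : (sg ^ 13).1 = SING ^ 13 := rfl
  rw [h]
  have h9 : (1 + SING) * (1 + SING) * (1 + SING) = SING * SING * SING + 1 := by decide +kernel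
  have h10 : (SING * SING * SING + 1) * (1 + SING) * SING = 1 + 0 := by decide +kernel
  have e1 : SING ^ 13 = (SING * SING * SING) * (SING * SING * SING) * (SING * SING * SING) *
      ((SING * SING * SING) * SING) := by noncomm_ring
  rw [e1, sing_pow, h9]
  rw [← mul_assoc, h10, add_zero]
  rfl

section d2

variable {ρ : G →* End F (ι → F)} {w : ι → F} (D : D2 ρ w)

include D

/-- the vectors -/
theorem D2.zero : vv ρ w (pt 0) = w := vv_e1 ρ w D.hw

/-- the stabiliser of a point has index 13 -/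
theorem D2.index : (fixK ρ w).index = 13 := by
  classical
  let act : MulAction G (ι → F) :=
    { smul := fun g v => ρ g v
      one_smul := fun v => by
        change ρ 1 v = v
        rw [map_one]; rfl
      mul_smul := fun g h v => mul_ap ρ g h v }
  have h1 : MulAction.stabilizer G w = fixK ρ w := by
    ext g
    exact MulAction.mem_stabilizer_iff
  rw [← h1, MulAction.index_stabilizer]
  have h2 : MulAction.orbit G w = Set.range (fun i => vv ρ w (pt i)) := by
    ext v
    constructor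
    · rintro ⟨g, rfl⟩
      obtain ⟨σ, hσ⟩ := exists_perm13 ρ w D.hw g
      refine ⟨σ 0, ?_⟩
      have h3 := hσ 0
      rw [D.zero] at h3
      exact h3.symm
    · rintro ⟨i, rfl⟩
      obtain ⟨m, hm⟩ := exists_mk (pt i) (pt_ne i)
      refine ⟨m, ?_⟩
      exact (vv_eq ρ w D.hw (Or.inl hm)).symm
  rw [h2]
  have hinj : Function.Injective (fun i => vv ρ w (pt i)) := D.S.injective (by rw [Fintype.card_fin]; norm_num)
  have h3 : (Set.range fun i => vv ρ w (pt i)).ncard = Nat.card (Fin 13) := Nat.card_range_of_injective hinj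
  rw [h3, Nat.card_eq_fintype_card, Fintype.card_fin]

/-- an element of order 13 without non-zero fixed vectors -/
theorem D2.free (h13 : (13 : F) ≠ 0) : ∃ g : G, g ^ 13 = 1 ∧ ∀ v, ρ g v = v → v = 0 := by
  obtain ⟨g, τ, hτ, hg, hg13⟩ : ∃ (g : G) (τ : Fin 13 → Fin 13), Function.Injective τ ∧
      (∀ k, g.1 *ᵥ pt (τ k) = pt (τ (k + 1)) ∨ g.1 *ᵥ pt (τ k) = -pt (τ (k + 1))) ∧ g ^ 13 = 1 := by
    exact ⟨sg, TAU, by decide, by decide +kernel, sg_pow⟩
  refine ⟨g, hg13, fun v hv => ?_⟩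
  have hu : ∀ k, ρ g (vv ρ w (pt (τ k))) = vv ρ w (pt (τ (k + 1))) := by
    intro k
    rw [vv_smul ρ w D.hw]
    rcases hg k with h | h
    · rw [h]
    · rw [h, vv_neg ρ w D.hw]
  have hsum : ∑ k, vv ρ w (pt (τ k)) = 0 := by
    rw [← D.S.sum]
    exact Function.Bijective.sum_comp (Finite.injective_iff_bijective.1 hτ) (fun i => vv ρ w (pt i))
  have hof : ∀ n : ℕ, Fin.ofNat 13 (n + 1) = Fin.ofNat 13 n + 1 := by
    intro n
    apply Fin.ext
    simp [Fin.val_add]
  have hpow : ∀ (n : ℕ) (k : Fin 13), (ρ g ^ n) (vv ρ w (pt (τ k))) = vv ρ w (pt (τ (k + Fin.ofNat 13 n))) := by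
    intro n
    induction n with
    | zero =>
      intro k
      have h0 : Fin.ofNat 13 0 = 0 := rfl
      rw [h0, add_zero]
      rfl
    | succ n ih =>
      intro k
      rw [pow_succ', Module.End.mul_apply, ih, hu, hof, add_assoc]
  have hA : ∑ n : Fin 13, ρ g ^ (n : ℕ) = 0 := by
    apply D.S.ext
    intro i
    obtain ⟨k, rfl⟩ := (Finite.injective_iff_surjective.1 hτ) i
    rw [LinearMap.sum_apply, LinearMap.zero_apply]
    rw [← hsum]
    refine Eq.trans (Finset.sum_congr rfl fun n _ => hpow n k) ?_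
    have h1 : ∀ n : Fin 13, Fin.ofNat 13 (n : ℕ) = n := fun n => Fin.ext (Nat.mod_eq_of_lt n.2)
    simp only [h1]
    exact Equiv.sum_comp (Equiv.addLeft k) (fun k => vv ρ w (pt (τ k)))
  have hvn : ∀ n : ℕ, (ρ g ^ n) v = v := by
    intro n
    induction n with
    | zero => rfl
    | succ n ih => rw [pow_succ', Module.End.mul_apply, ih, hv]
  have h2 := LinearMap.congr_fun hA v
  have h4 : ∑ n : Fin 13, (ρ g ^ (n : ℕ)) v = ∑ _n : Fin 13, v := Finset.sum_congr rfl fun n _ => hvn n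
  rw [LinearMap.sum_apply, h4, Finset.sum_const, Finset.card_univ, Fintype.card_fin, LinearMap.zero_apply] at h2
  have h3 : (13 : F) • v = 0 := by
    rw [← h2]
    exact (Nat.cast_smul_eq_nsmul F 13 v)
  exact (smul_eq_zero.1 h3).resolve_left h13

end d2

theorem fixQ_of_d2 [Finite F] (hC : Core P) (hsd : SD P) (n2 : (2 : F) = 0) {θ : G ≃* P} {w : ι → F}
    (D : D2 (H915.L33.rep θ) w) : FixQ P := by
  classical
  rcases hC.forms_of_sd hsd with h | ⟨f, hf, hfix⟩
  · exact h
  have hP : H919.Q2.InvB P f := fun g hg v w => hfix _ ⟨g, hg, rfl⟩ v w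
  let K : Subgroup (GL ι F) := (fixK (H915.L33.rep θ) w).map (P.subtype.comp θ.toMonoidHom)
  have hKP : K ≤ P := by
    rintro _ ⟨x, -, rfl⟩
    exact (θ x).2
  have hidx : K.relIndex P = 13 := by
    have h1 : (K.subgroupOf P).comap θ.toMonoidHom = fixK (H915.L33.rep θ) w := by
      ext x
      rw [Subgroup.mem_comap, Subgroup.mem_subgroupOf]
      constructor
      · rintro ⟨y, hy, hxy⟩
        have h2 : θ y = θ x := Subtype.ext hxy
        rw [← θ.injective h2]
        exact hy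
      · intro hx
        exact ⟨x, hx, rfl⟩
    have h2 := Subgroup.index_comap_of_surjective (K.subgroupOf P) (f := θ.toMonoidHom) θ.surjective
    rw [h1, D.index] at h2
    exact h2.symm
  refine H919.Q2.fixQ_of_sub n2 hf hP hKP (by rw [hidx]; decide) ?_
  refine H919.Q2.of_monomial n2 hf (fun g hg => hP g (hKP hg)) (H114.AltTy.basis D.S 0) ?_
  rintro _ ⟨x, hx, rfl⟩ i
  obtain ⟨σ, hσ⟩ := exists_perm13 (H915.L33.rep θ) w D.hw x
  have hinj : Function.Injective (fun i => vv (H915.L33.rep θ) w (pt i)) :=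
    D.S.injective (by rw [Fintype.card_fin]; norm_num)
  have h0 : σ 0 = 0 := by
    apply hinj
    have h3 := hσ 0
    rw [D.zero] at h3
    have hx' : H915.L33.rep θ x w = w := hx
    rw [hx'] at h3
    change vv (H915.L33.rep θ) w (pt (σ 0)) = vv (H915.L33.rep θ) w (pt 0)
    rw [← h3, D.zero]
  have hi : σ i ≠ 0 := by
    intro h
    apply i.2
    apply σ.injective
    rw [h, h0]
  refine ⟨1, ⟨σ i, hi⟩, ?_⟩
  rw [one_smul, H114.AltTy.basis_apply, H114.AltTy.basis_apply]
  exact hσ i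

theorem pow_key : ((2 : ℕ) : ZMod 13) ^ 6 ≠ 1 := by decide

/-- **Cores of degree 12 with socle `L₃(3)` in characteristic 2** -/
theorem two_main [Fintype F] [CharP F 2] (hC : Core P) {K : Type v} [Field K] [Fintype K]
    (hK : Fintype.card K = 3) (e : Soc P ≃* Matrix.ProjectiveSpecialLinearGroup (Fin 3) K)
    (hι : Fintype.card ι = 12) :
    Fintype.card F = 2 ∧ SD P ∧ Fr P 2 ∧ FixQ P ∧ (scalars ι F).subgroupOf P = ⊥ ∧
      ∀ Q : (ι → F) → F, IsNondegenerateQuadraticForm Q → FixesQuadForm (matrixSet P) Q → ¬ IsPlusTypeOn Q ⊤ := by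
  have hp2 : Fact (Nat.Prime 2) := ⟨Nat.prime_two⟩
  have n2 : (2 : F) = 0 := by exact_mod_cast CharP.cast_eq_zero F 2
  obtain ⟨hs, hsd, hfr, -⟩ := H175.L33.l33 hC 2 (by norm_num) hK e hι.le
  have hcard := hC.card_eq 2 hfr
  let e' : Soc P ≃* T33 := e.trans
    (LieClassical.FieldTransfer.pslCongr ((ZMod.ringEquivOfPrime K (by norm_num) hK :))).symm
  obtain ⟨θ, w, D⟩ := exists_d2 hC e' n2 hι
  refine ⟨hcard, hsd, hfr, fixQ_of_d2 hC hsd n2 D, hs, fun Q hQ hfix hplus => ?_⟩
  have h13 : (13 : F) ≠ 0 := by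
    intro h
    have : (1 : F) = 0 := by linear_combination h - 6 * n2
    exact one_ne_zero this
  obtain ⟨g, hg, hfree⟩ := D.free h13
  have : Fact (Nat.Prime 13) := ⟨by norm_num⟩
  have h1 := H114.Ty.pow_eq_one_of_free (F := F) (r := 13) (by norm_num) hQ hplus (m := 6) (by rw [hι])
    (g := ((θ g : P) : GL ι F)) (by
      have h2 : ((θ g : P) : GL ι F) ^ 13 = ((θ (g ^ 13) : P) : GL ι F) := by
        rw [map_pow]; rfl
      rw [h2, hg, map_one]; rfl)
    (fun v => hfix _ ⟨_, (θ g).2, rfl⟩ v) (fun v hv => hfree v hv)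
  rw [hcard] at h1
  exact pow_key h1

end Cfsg.Agent.H907.L33
end

private theorem dce_c36254f5e729 : _root_.True := by
  try have : _root_.True := by simp only [_root_.Cfsg.Agent.H915.L33.s12.eq_1]
  try have : _root_.True := by simp only [_root_.Cfsg.Agent.H114.O12.MEl.w.eq_1]
  try have : _root_.True := by simp only [_root_.Cfsg.Agent.H915.L33.X13.eq_1]
  try have : _root_.True := by simp only [_root_.Cfsg.Agent.H932.Mt.Dt2.q.congr_simp]
  try have : _root_.True := by simp only [_root_.Cfsg.Agent.H882.Sc.ev.eq_1]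
  try have : _root_.True := by simp only [_root_.Cfsg.Agent.H114.O12.MEl.sub.eq_1]
  try have : _root_.True := by simp only [_root_.Cfsg.Agent.H915.L33.s23.eq_1]
  try have : _root_.True := by simp only [_root_.Cfsg.Agent.H915.L33.X23.eq_1]
  try have : _root_.True := by simp only [_root_.Cfsg.Agent.H915.L33.X12.eq_1]
  exact _root_.True.intro
end

-- part: H922/S12/Base
section
set_option linter.all false
open scoped Cfsg.Agent.FastGrp

/-!
# The setting of S5869: residual cores in `Sp₁₂(q)` (helper922)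

* `Cx p H P` : `H` maximal in `spGL 6 F`, `P` a residual core of `H`, `char F = p`, `P` fixes no quadratic form;
* `Cx.core`, `Cx.fixA`, `Cx.sd`, `Cx.scalar_pm` : the first consequences;
* `e12`, `Cx.coreR` … : the same in `GL (Fin 12) F`;
* `Concl P p` : the conclusion of S5869.
-/

set_option autoImplicit false
set_option linter.unusedSectionVars false

namespace Cfsg.Agent.H922.S12

open Cfsg Cfsg.Geo Matrix Cfsg.Agent.H915.LD

universe u

variable {F : Type u} [Field F]

/-- The setting of S5869. -/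
structure Cx (p : ℕ) (H P : Subgroup (GL (Fin 6 ⊕ Fin 6) F)) : Prop where
  prime : p.Prime
  char : CharP F p
  hH : IsMaximalIn (spGL 6 F) H
  hc : IsResidualCore H P
  hQ : ¬ FixQ P

/-- the conclusion of S5869 for the core `P` -/
def Concl [Fintype F] (P : Subgroup (GL (Fin 6 ⊕ Fin 6) F)) (p : ℕ) : Prop :=
    ((Nonempty ((P ⧸ (Cfsg.Geo.scalars (Fin 6 ⊕ Fin 6) F).subgroupOf P) ≃* Matrix.ProjectiveSpecialLinearGroup (Fin 2) (ZMod 11)) ∧ ((Fintype.card F = p ∧ p ≠ 11 ∧ (p % 20 = 9 ∨ p % 20 = 11 ∨ p % 20 = 1 ∨ p % 20 = 19)) ∨ (Fintype.card F = p ^ 2 ∧ p ≠ 2 ∧ (p % 5 = 2 ∨ p % 5 = 3)))) ∨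
     (Nonempty ((P ⧸ (Cfsg.Geo.scalars (Fin 6 ⊕ Fin 6) F).subgroupOf P) ≃* Matrix.ProjectiveSpecialLinearGroup (Fin 2) (ZMod 13)) ∧ ((Fintype.card F = p ∧ p ≠ 13 ∧ (p % 28 = 13 ∨ p % 28 = 15 ∨ p % 28 = 1 ∨ p % 28 = 27)) ∨ (Fintype.card F = p ^ 3 ∧ p ≠ 2 ∧ (p % 7 = 2 ∨ p % 7 = 5 ∨ p % 7 = 3 ∨ p % 7 = 4)))) ∨
     ((∃ (K : Type) (_ : Field K) (_ : Fintype K), Fintype.card K = 25 ∧ Nonempty ((P ⧸ (Cfsg.Geo.scalars (Fin 6 ⊕ Fin 6) F).subgroupOf P) ≃* Matrix.ProjectiveSpecialLinearGroup (Fin 2) K)) ∧ Fintype.card F = p ∧ p ≠ 3 ∧ (p % 5 = 2 ∨ p % 5 = 3)) ∨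
     ((∃ (K : Type) (_ : Field K) (_ : Fintype K), Fintype.card K = 5 ∧ Nonempty ((P ⧸ (Cfsg.Geo.scalars (Fin 6 ⊕ Fin 6) F).subgroupOf P) ≃* Cfsg.PSp 2 K)) ∧ ((Fintype.card F = p ∧ (p % 5 = 1 ∨ p % 5 = 4)) ∨ (Fintype.card F = p ^ 2 ∧ (p % 5 = 2 ∨ p % 5 = 3)))) ∨
     ((∃ (K : Type) (_ : Field K) (_ : Fintype K), Fintype.card K = 4 ∧ Nonempty ((P ⧸ (Cfsg.Geo.scalars (Fin 6 ⊕ Fin 6) F).subgroupOf P) ≃* Cfsg.Lie.G2 K)) ∧ Fintype.card F = p ∧ Odd p ∧ p ≠ 3) ∨
     (Nonempty ((P ⧸ (Cfsg.Geo.scalars (Fin 6 ⊕ Fin 6) F).subgroupOf P) ≃* alternatingGroup (Fin 14)) ∧ Fintype.card F = 2) ∨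
     (Cfsg.Spor.IsoSuz (P ⧸ (Cfsg.Geo.scalars (Fin 6 ⊕ Fin 6) F).subgroupOf P) ∧ Fintype.card F = 3) ∨
     (Nonempty ((P ⧸ (Cfsg.Geo.scalars (Fin 6 ⊕ Fin 6) F).subgroupOf P) ≃* Matrix.ProjectiveSpecialLinearGroup (Fin 2) F) ∧ 13 ≤ p) ∨
     (Nonempty ((P ⧸ (Cfsg.Geo.scalars (Fin 6 ⊕ Fin 6) F).subgroupOf P) ≃* Cfsg.PSp 2 F) ∧ p = 5))

/-- the coordinates -/
def e12 : Fin 6 ⊕ Fin 6 ≃ Fin 12 := finSumFinEquiv

namespace Cx

variable {p : ℕ} {H P : Subgroup (GL (Fin 6 ⊕ Fin 6) F)}

theorem core (h : Cx p H P) : Core P := core_of_residual h.hc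

theorem le_sp (h : Cx p H P) : P ≤ spGL 6 F := h.hc.le.trans h.hH.1.le

theorem fixes (h : Cx p H P) : FixesForm (matrixSet P) (sympForm 6 F) := by
  rintro _ ⟨g, hg, rfl⟩ u v
  exact h.le_sp hg u v

theorem fixA (h : Cx p H P) : FixA P := ⟨_, H924.isSymplecticForm_sympForm, h.fixes⟩

theorem sd (h : Cx p H P) : SD P :=
  H879.Nine.sd_of_form (H924.isSymplecticForm_sympForm (m := 6) (F := F)).bilinear
    (H924.isSymplecticForm_sympForm (m := 6) (F := F)).nondegenerate h.fixes

/-- the core in `GL (Fin 12) F` -/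
theorem coreR (h : Cx p H P) : Core (H912.Rx.re e12 P) := H912.Rx.core_re e12 h.core

theorem not_fixQR (h : Cx p H P) : ¬ FixQ (H912.Rx.re e12 P) := fun hq => by
  have h1 := H912.Rx.fixQ_re_of e12.symm hq
  rw [H912.Rx.re_symm] at h1
  exact h.hQ h1

/-- the scalars in `P` are `±1` -/
theorem scalar_sq (h : Cx p H P) {g : GL (Fin 6 ⊕ Fin 6) F} (hg : g ∈ P) {c : F}
    (hc : (g : Matrix (Fin 6 ⊕ Fin 6) (Fin 6 ⊕ Fin 6) F) = c • (1 : Matrix (Fin 6 ⊕ Fin 6) (Fin 6 ⊕ Fin 6) F)) :
    c ^ 2 = 1 := by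
  have hs : IsSymplecticForm (sympForm 6 F) := H924.isSymplecticForm_sympForm
  obtain ⟨⟨x, hx⟩, -⟩ := hs.nondegenerate (Pi.single (Sum.inl 0) 1) (fun h0 => by
    have := congrFun h0 (Sum.inl 0)
    rw [Pi.single_eq_same] at this
    exact one_ne_zero this)
  have h2 : sympForm 6 F ((g : Matrix (Fin 6 ⊕ Fin 6) (Fin 6 ⊕ Fin 6) F) *ᵥ x)
      ((g : Matrix (Fin 6 ⊕ Fin 6) (Fin 6 ⊕ Fin 6) F) *ᵥ Pi.single (Sum.inl 0) 1) =
        sympForm 6 F x (Pi.single (Sum.inl 0) 1) := h.fixes _ ⟨g, hg, rfl⟩ x (Pi.single (Sum.inl 0) 1)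
  rw [hc, Matrix.smul_mulVec, Matrix.one_mulVec, Matrix.smul_mulVec, Matrix.one_mulVec, hs.bilinear.smul_left,
    hs.bilinear.smul_right] at h2
  have h4 : (c ^ 2 - 1) * sympForm 6 F x (Pi.single (Sum.inl 0) 1) = 0 := by linear_combination h2
  exact sub_eq_zero.1 ((mul_eq_zero.1 h4).resolve_right hx)

/-- a scalar matrix in `P` is `1` or `-1` -/
theorem scalar_pm (h : Cx p H P) {g : GL (Fin 6 ⊕ Fin 6) F} (hg : g ∈ P) (hs : g ∈ scalars (Fin 6 ⊕ Fin 6) F) :
    (g : Matrix (Fin 6 ⊕ Fin 6) (Fin 6 ⊕ Fin 6) F) = 1 ∨ (g : Matrix (Fin 6 ⊕ Fin 6) (Fin 6 ⊕ Fin 6) F) = -1 := by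
  obtain ⟨c, hc'⟩ := (mem_scalars_iff g).1 hs
  have h1 : (c : F) = 1 ∨ (c : F) = -1 := by
    have := h.scalar_sq hg hc'
    exact mul_self_eq_one_iff.1 (by rw [← sq]; exact this)
  rcases h1 with h1 | h1
  · left; rw [hc', h1, one_smul]
  · right; rw [hc', h1, neg_one_smul]

end Cx

/-- the setting from the hypotheses of S5869 -/
theorem exists_cx {H : Subgroup (GL (Fin 6 ⊕ Fin 6) F)} [Fintype F] (hH : IsMaximalIn (spGL 6 F) H)
    (hS : InSymplecticResidualClass H) : ∃ (P : Subgroup (GL (Fin 6 ⊕ Fin 6) F)) (p : ℕ), Cx p H P := by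
  obtain ⟨P, hc, hQ, -⟩ := hS
  obtain ⟨p, hp⟩ := CharP.exists F
  exact ⟨P, p, CharP.char_is_prime F p, hp, hH, hc, hQ⟩

end Cfsg.Agent.H922.S12
end

-- part: H114/O12/Base
section
set_option linter.all false
open scoped Cfsg.Agent.FastGrp

/-!
# The setting of S5872 and S5875: residual cores in `Ω₁₂^±(q)` (helper114)

* `Cx p Q H P` : `H` is a maximal subgroup of `omegaGL Q`, `dim = 12`, with residual core `P`;
* `Cx.core`, `Cx.fixQ`, `Cx.sd`, `Cx.scalar_sq`, `Cx.scalar_pm` : the first consequences;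
* `Concl Q P p` : the conclusion of the two statements.
-/

set_option autoImplicit false
set_option linter.unusedSectionVars false

namespace Cfsg.Agent.H114.O12

open Cfsg Cfsg.Geo Matrix Cfsg.Agent.H915.LD

universe u

variable {F : Type u} [Field F]

/-- The setting: `H` maximal in `omegaGL Q`, `P` a residual core of `H`. -/
structure Cx (p : ℕ) (Q : (Fin 12 → F) → F) (H P : Subgroup (GL (Fin 12) F)) : Prop where
  prime : p.Prime
  char : CharP F p
  hQ : IsNondegenerateQuadraticForm Q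
  hH : IsMaximalIn (omegaGL Q) H
  hc : IsResidualCore H P

/-- the conclusion of S5872 for the core `P` -/
def ConclPlus [Fintype F] (P : Subgroup (GL (Fin 12) F)) (p : ℕ) : Prop :=
    ((Nonempty ((P ⧸ (Cfsg.Geo.scalars (Fin 12) F).subgroupOf P) ≃* Matrix.ProjectiveSpecialLinearGroup (Fin 2) (ZMod 11)) ∧ Fintype.card F = p ∧ (p % 55 = 1 ∨ p % 55 = 54 ∨ p % 55 = 16 ∨ p % 55 = 39 ∨ p % 55 = 19 ∨ p % 55 = 36 ∨ p % 55 = 24 ∨ p % 55 = 31 ∨ p % 55 = 26 ∨ p % 55 = 29)) ∨
     (Nonempty ((P ⧸ (Cfsg.Geo.scalars (Fin 12) F).subgroupOf P) ≃* Matrix.ProjectiveSpecialLinearGroup (Fin 2) (ZMod 13)) ∧ ((Fintype.card F = p ∧ (p % 7 = 1 ∨ p % 7 = 6) ∧ (p % 13 = 1 ∨ p % 13 = 12 ∨ p % 13 = 3 ∨ p % 13 = 10 ∨ p % 13 = 4 ∨ p % 13 = 9)) ∨ (Fintype.card F = p ^ 3 ∧ (p % 91 = 3 ∨ p % 91 = 88 ∨ p % 91 = 4 ∨ p % 91 = 87 ∨ p % 91 = 9 ∨ p % 91 = 82 ∨ p % 91 = 10 ∨ p % 91 = 81 ∨ p % 91 = 12 ∨ p % 91 = 79 ∨ p % 91 = 16 ∨ p % 91 = 75 ∨ p % 91 = 17 ∨ p % 91 = 74 ∨ p % 91 = 23 ∨ p % 91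 = 68 ∨ p % 91 = 25 ∨ p % 91 = 66 ∨ p % 91 = 30 ∨ p % 91 = 61 ∨ p % 91 = 38 ∨ p % 91 = 53 ∨ p % 91 = 40 ∨ p % 91 = 51)))) ∨
     (Nonempty ((P ⧸ (Cfsg.Geo.scalars (Fin 12) F).subgroupOf P) ≃* Matrix.ProjectiveSpecialLinearGroup (Fin 3) (ZMod 3)) ∧ Fintype.card F = p ∧ p ≠ 3 ∧ (p % 13 = 1 ∨ p % 13 = 12 ∨ p % 13 = 3 ∨ p % 13 = 10 ∨ p % 13 = 4 ∨ p % 13 = 9) ∧ (p % 12 = 1 ∨ p % 12 = 11) ∧ (∃ s : Finset F, s.card = 4 ∧ ∀ x ∈ s, x ^ 4 - 10 * x ^ 2 + 13 = 0)) ∨
     (Cfsg.Spor.IsoM12 (P ⧸ (Cfsg.Geo.scalars (Fin 12) F).subgroupOf P) ∧ Fintype.card F = p ∧ (p % 24 = 1 ∨ p % 24 = 23)) ∨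
     (Nonempty ((P ⧸ (Cfsg.Geo.scalars (Fin 12) F).subgroupOf P) ≃* alternatingGroup (Fin 13)) ∧ Fintype.card F = p ∧ (p % 13 = 1 ∨ p % 13 = 12 ∨ p % 13 = 3 ∨ p % 13 = 10 ∨ p % 13 = 4 ∨ p % 13 = 9)))

/-- the conclusion of S5875 for the core `P` -/
def ConclMinus [Fintype F] (P : Subgroup (GL (Fin 12) F)) (p : ℕ) : Prop :=
    ((Nonempty ((P ⧸ (Cfsg.Geo.scalars (Fin 12) F).subgroupOf P) ≃* Matrix.ProjectiveSpecialLinearGroup (Fin 2) (ZMod 11)) ∧ ((Fintype.card F = p ∧ (p % 55 = 4 ∨ p % 55 = 51 ∨ p % 55 = 6 ∨ p % 55 = 49 ∨ p % 55 = 9 ∨ p % 55 = 46 ∨ p % 55 = 14 ∨ p % 55 = 41 ∨ p % 55 = 21 ∨ p % 55 = 34)) ∨ (Fintype.card F = p ^ 2 ∧ (p % 5 = 2 ∨ p % 5 = 3)))) ∨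
     (Nonempty ((P ⧸ (Cfsg.Geo.scalars (Fin 12) F).subgroupOf P) ≃* Matrix.ProjectiveSpecialLinearGroup (Fin 2) (ZMod 13)) ∧ ((Fintype.card F = p ∧ (p % 7 = 1 ∨ p % 7 = 6) ∧ (p % 13 = 2 ∨ p % 13 = 11 ∨ p % 13 = 5 ∨ p % 13 = 8 ∨ p % 13 = 6 ∨ p % 13 = 7)) ∨ (Fintype.card F = p ^ 3 ∧ (p % 91 = 2 ∨ p % 91 = 89 ∨ p % 91 = 5 ∨ p % 91 = 86 ∨ p % 91 = 11 ∨ p % 91 = 80 ∨ p % 91 = 18 ∨ p % 91 = 73 ∨ p % 91 = 19 ∨ p % 91 = 72 ∨ p % 91 = 24 ∨ p % 91 = 67 ∨ p % 91 = 31 ∨ p % 91 = 60 ∨ p % 91 = 32 ∨ p % 91 = 59 ∨ p % 91 = 33 ∨ p % 91 = 58 ∨ p % 91 = 37 ∨ p % 91 = 54 ∨ p % 91 = 44 ∨ p % 91 = 47 ∨ p % 91 = 45 ∨ p % 91 = 46)))) ∨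
     (Nonempty ((P ⧸ (Cfsg.Geo.scalars (Fin 12) F).subgroupOf P) ≃* Matrix.ProjectiveSpecialLinearGroup (Fin 3) (ZMod 3)) ∧ Fintype.card F = p ∧ (p % 13 = 2 ∨ p % 13 = 11 ∨ p % 13 = 5 ∨ p % 13 = 8 ∨ p % 13 = 6 ∨ p % 13 = 7) ∧ (p % 12 = 1 ∨ p % 12 = 11 ∨ p % 12 = 2)) ∨
     (Nonempty ((P ⧸ (Cfsg.Geo.scalars (Fin 12) F).subgroupOf P) ≃* alternatingGroup (Fin 13)) ∧ Fintype.card F = p ∧ p ≠ 7 ∧ (p % 13 = 2 ∨ p % 13 = 11 ∨ p % 13 = 5 ∨ p % 13 = 8 ∨ p % 13 = 6 ∨ p % 13 = 7)) ∨
     (Nonempty ((P ⧸ (Cfsg.Geo.scalars (Fin 12) F).subgroupOf P) ≃* alternatingGroup (Fin 14)) ∧ Fintype.card F = 7))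

/-- the conclusion of the two statements -/
def Concl [Fintype F] (Q : (Fin 12 → F) → F) (P : Subgroup (GL (Fin 12) F)) (p : ℕ) : Prop :=
  (IsPlusTypeOn Q ⊤ → ConclPlus P p) ∧ (¬ IsPlusTypeOn Q ⊤ → ConclMinus P p)

namespace Cx

variable {p : ℕ} {Q : (Fin 12 → F) → F} {H P : Subgroup (GL (Fin 12) F)}

theorem core (h : Cx p Q H P) : Core P := core_of_residual h.hc

theorem le_omega (h : Cx p Q H P) : P ≤ omegaGL Q := h.hc.le.trans h.hH.1.le

theorem fixes (h : Cx p Q H P) : FixesQuadForm (matrixSet P) Q := by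
  rintro _ ⟨g, hg, rfl⟩ v
  exact H933.O10.fix_of_mem_omegaGL (h.le_omega hg) v

theorem fixQ (h : Cx p Q H P) : FixQ P := ⟨Q, h.hQ, h.fixes⟩

theorem sd (h : Cx p Q H P) : SD P := H933.O10.sd_of_le h.hQ h.le_omega

/-- the scalars in `P` are `±1` -/
theorem scalar_sq (h : Cx p Q H P) {g : GL (Fin 12) F} (hg : g ∈ P) {c : F}
    (hc : (g : Matrix (Fin 12) (Fin 12) F) = c • (1 : Matrix (Fin 12) (Fin 12) F)) : c ^ 2 = 1 := by
  obtain ⟨v, hv⟩ := H879.TL.exists_ne_of_nondeg h.hQ
  have h2 := H933.O10.fix_of_mem_omegaGL (h.le_omega hg) v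
  rw [hc, Matrix.smul_mulVec, Matrix.one_mulVec, h.hQ.smul] at h2
  have h4 : (c ^ 2 - 1) * Q v = 0 := by rw [sub_mul, h2, one_mul, sub_self]
  exact sub_eq_zero.1 ((mul_eq_zero.1 h4).resolve_right hv)

/-- a scalar matrix in `P` is `1` or `-1` -/
theorem scalar_pm (h : Cx p Q H P) {g : GL (Fin 12) F} (hg : g ∈ P) (hs : g ∈ scalars (Fin 12) F) :
    (g : Matrix (Fin 12) (Fin 12) F) = 1 ∨ (g : Matrix (Fin 12) (Fin 12) F) = -1 := by
  obtain ⟨c, hc'⟩ := (mem_scalars_iff g).1 hs
  have h1 : (c : F) = 1 ∨ (c : F) = -1 := by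
    have := h.scalar_sq hg hc'
    exact mul_self_eq_one_iff.1 (by rw [← sq]; exact this)
  rcases h1 with h1 | h1
  · left; rw [hc', h1, one_smul]
  · right; rw [hc', h1, neg_one_smul]

end Cx

end Cfsg.Agent.H114.O12
end
end
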