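import Mathlib
import Cfsg.Agent.H114.AltNorm
import Cfsg.Agent.H114.TyTwo_m3
import Cfsg.Agent.ClassicalGeometry.OrthDickson
import Cfsg.Agent.H925.OrthBasic
import Cfsg.Agent.H114.O12.MEleven_mg_m3
import Cfsg.Agent.H464.L2Num_m3
import Cfsg.Agent.H464.L2TrF_m3
import Cfsg.Agent.H912.FiveList
import Cfsg.Agent.H614.AMod.Main
import Cfsg.Agent.H882.Del.Stein
import Cfsg.Agent.H932.Spinor
import Cfsg.Agent.H905.Sp4Adj
import Mathlib.LinearAlgebra.Trace
import Mathlib.NumberTheory.LegendreSymbol.QuadraticReciprocity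
import Cfsg.Agent.H937.T2Rep_m3
import Cfsg.Agent.H936.U33All
import Cfsg.Agent.H925.U52Form
import Cfsg.Agent.H916.T8
import Cfsg.Agent.H937.G24.Qk_mg
import Cfsg.Agent.H434.LD.PSp45_m3
import Cfsg.Agent.H814.SzEightCore
import Cfsg.Agent.H434.LD.WUniq_m3
import Cfsg.Agent.H918.U43.Main
import Cfsg.Agent.H363.PslCard
import Cfsg.Agent.H936.List12c
import Cfsg.Agent.H937.G24.Row
import Cfsg.Agent.H921.M22.Final_m3
import Cfsg.Agent.H4.LDM.Stage24
import Cfsg.Agent.H659.J1Not11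
import Cfsg.Agent.H179.JoneL
import Cfsg.Agent.H95.JT.Core
import Cfsg.Agent.H878.Sz.MainP3
import Cfsg.Agent.H878.Sz.MainThree
import Cfsg.Agent.S0253
import Cfsg.Agent.S0256
import Cfsg.Agent.H637.A7Cov
import Cfsg.Agent.H637.A7Main
import Cfsg.Agent.H933.O10.Base_m3
import Cfsg.Agent.H906.A7Twelve_mg
import Cfsg.Agent.Lib.FastPerm
import Cfsg.Agent.FastGrp
import Cfsg.Agent.Prune
set_option linter.all false

section
prune_inst 0x7fbca9fbabf821dfdfff7e7fa6dccdfdf9b91fffa4dff9cb7fe061ff2b9f33008945738d0be012fe0ed6401410a87803f97eca3fe86bdc7ffffd5ff41ffbee0ff5f7b508519488340f300ff603f0778e7f3fffffffffffffffffffffffffffbeffbfffffffff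

-- part: H114/O12/Cross
section
prune_inst 0x100005001422000000000000002000002000042000000000000000000001000008800040000001000200800100050060024c0000400000000a000000000400000000020000400000000010000000000000000000000000000000000000000000000000000
set_option linter.all false
open scoped Cfsg.Agent.FastGrp

-- part: H114/TyNum
section
/-!
# Squares in finite fields for the types of `L₂(11)` and `L₂(13)` (helper114)
-/

set_option autoImplicit false

namespace Cfsg.Agent.H114.Ty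

/-- A natural number in a finite field of cardinality `p ^ (2 k + 1)`: square iff square mod `p`. -/
theorem isSquare_natCast_iff {F : Type*} [Field F] [Fintype F] {p k : ℕ} (hp : p.Prime) (h2 : p ≠ 2)
    (hF : Fintype.card F = p ^ (2 * k + 1)) (a : ℕ) (ha : (a : F) ≠ 0) : IsSquare (a : F) ↔ IsSquare (a : ZMod p) := by
  have := Fact.mk hp
  have hchar : CharP F p := by
    obtain ⟨r, hr⟩ := CharP.exists F
    obtain ⟨n, hrp, hn⟩ := FiniteField.card F r
    rw [hF] at hn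
    have h3 : p = r := (Nat.Prime.pow_inj' hp hrp (by omega) n.ne_zero hn).1
    rwa [h3]
  have hF2 : ringChar F ≠ 2 := by rw [ringChar.eq F p]; exact h2
  have hp2 : ringChar (ZMod p) ≠ 2 := by rw [ringChar.eq (ZMod p) p]; exact h2
  let f := ZMod.castHom (dvd_refl p) F
  have hf : Function.Injective f := f.injective
  have ha' : (a : ZMod p) ≠ 0 := by
    intro h
    apply ha
    have := congrArg f h
    rwa [map_natCast, map_zero] at this
  rw [FiniteField.isSquare_iff hF2 ha, FiniteField.isSquare_iff hp2 ha', hF, ZMod.card]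
  have hodd : Odd p := hp.odd_of_ne_two h2
  obtain ⟨m, hm⟩ := hodd
  have h3 : ((a : ZMod p) ^ (p / 2)) ^ 2 = 1 := by
    rw [← pow_mul, show p / 2 * 2 = p - 1 by (clear * - hm; solve | lia | omega)]
    exact ZMod.pow_card_sub_one_eq_one ha'
  have h4 : (p ^ (2 * k + 1)) / 2 = (p / 2) * ∑ i ∈ Finset.range (2 * k + 1), p ^ i := by
    have h5 : (∑ i ∈ Finset.range (2 * k + 1), p ^ i) * (p - 1) = p ^ (2 * k + 1) - 1 := by
      have := Nat.geomSum_eq (m := p) hp.two_le (2 * k + 1)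
      rw [this, Nat.div_mul_cancel]
      exact Nat.sub_one_dvd_pow_sub_one p (2 * k + 1) |>.trans (dvd_refl _)
    have h6 : Odd (p ^ (2 * k + 1)) := Odd.pow ⟨m, hm⟩
    obtain ⟨s, hs⟩ := h6
    have h7 : p - 1 = 2 * (p / 2) := by (clear * - hm; solve | lia | omega)
    rw [h7, hs] at h5
    rw [hs]
    have h8 : (2 * s + 1) / 2 = s := by omega
    rw [h8]
    have h9 : 2 * s + 1 - 1 = 2 * s := by (clear * -; omega)
    rw [h9] at h5
    have h10 : 2 * ((p / 2) * ∑ i ∈ Finset.range (2 * k + 1), p ^ i) = 2 * s := by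
      rw [← h5]; ring
    omega
  have hoddsum : Odd (∑ i ∈ Finset.range (2 * k + 1), p ^ i) := by
    have h5 : ∀ j, (∑ i ∈ Finset.range j, p ^ i) % 2 = j % 2 := by
      intro j
      induction j with
      | zero => simp
      | succ j ih =>
        rw [Finset.sum_range_succ, Nat.add_mod, ih]
        have h6 : p ^ j % 2 = 1 := Nat.odd_iff.1 (Odd.pow ⟨m, hm⟩)
        rw [h6]
        omega
    rw [Nat.odd_iff, h5]
    omega
  obtain ⟨s, hs⟩ := hoddsum
  have h5 : ((a : F)) ^ (p ^ (2 * k + 1) / 2) = f ((a : ZMod p) ^ (p / 2)) := by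
    rw [h4, pow_mul, hs, pow_succ, pow_mul]
    have h6 : (a : F) ^ (p / 2) = f ((a : ZMod p) ^ (p / 2)) := by rw [map_pow, map_natCast]
    rw [h6, ← map_pow f _ 2, h3, map_one, one_pow, one_mul]
  rw [h5]
  constructor
  · intro h
    apply hf
    rw [h, map_one]
  · intro h
    rw [h, map_one]

end Cfsg.Agent.H114.Ty

namespace Cfsg.Agent.H114.Ty

theorem isSquare_neg_iff {p : ℕ} [Fact p.Prime] (h2 : p ≠ 2) (a : ZMod p) (ha : a ≠ 0) :
    IsSquare (-a) ↔ (if p % 4 = 3 then ¬ IsSquare a else IsSquare a) := by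
  classical
  have hn : (-a) ≠ 0 := neg_ne_zero.2 ha
  have hchar : ringChar (ZMod p) ≠ 2 := by rw [ringChar.eq (ZMod p) p]; exact h2
  have hodd : p % 4 = 1 ∨ p % 4 = 3 := by
    have := (Fact.out : p.Prime).eq_two_or_odd
    omega
  have hneg : (-a) = (-1) * a := by ring
  split_ifs with h
  · have h1 : ¬ IsSquare (-1 : ZMod p) := by
      rw [ZMod.exists_sq_eq_neg_one_iff]
      simp [h]
    rw [← quadraticChar_neg_one_iff_not_isSquare] at h1
    rw [← quadraticChar_one_iff_isSquare hn, ← quadraticChar_neg_one_iff_not_isSquare, hneg, map_mul, h1]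
    constructor
    · intro h3; linarith only [h3]
    · intro h3; linarith only [h3]
  · have h1 : IsSquare (-1 : ZMod p) := by
      rw [ZMod.exists_sq_eq_neg_one_iff]
      exact h
    constructor
    · intro h3
      have := h1.mul h3
      rwa [neg_one_mul, neg_neg] at this
    · intro h3
      rw [hneg]
      exact h1.mul h3

theorem isSquare_neg_eleven {p : ℕ} [hp : Fact p.Prime] (h2 : p ≠ 2) (h11 : p ≠ 11) :
    IsSquare (-11 : ZMod p) ↔ IsSquare (p : ZMod 11) := by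
  have : Fact (Nat.Prime 11) := ⟨by norm_num⟩
  have h11' : ((11 : ℕ) : ZMod p) ≠ 0 := by
    intro h
    rw [ZMod.natCast_eq_zero_iff] at h
    have := (Nat.prime_dvd_prime_iff_eq hp.out (by norm_num)).1 h
    exact h11 this
  have h0 : (11 : ZMod p) = ((11 : ℕ) : ZMod p) := by norm_num
  rw [h0, isSquare_neg_iff h2 _ h11']
  split_ifs with h
  · rw [ZMod.exists_sq_eq_prime_iff_of_mod_four_eq_three h (by norm_num) h11, not_not]
  · have h3 : p % 4 = 1 := by
      have := hp.out.eq_two_or_odd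
      omega
    rw [ZMod.exists_sq_eq_prime_iff_of_mod_four_eq_one h3 (by norm_num)]

theorem isSquare_thirteen {p : ℕ} [hp : Fact p.Prime] (h2 : p ≠ 2) :
    IsSquare (13 : ZMod p) ↔ IsSquare (p : ZMod 13) := by
  have : Fact (Nat.Prime 13) := ⟨by norm_num⟩
  have h0 : (13 : ZMod p) = ((13 : ℕ) : ZMod p) := by norm_num
  rw [h0, ← ZMod.exists_sq_eq_prime_iff_of_mod_four_eq_one (by norm_num) h2]

section eleven

variable {F : Type*} [Field F] [Fintype F] {k : Type*} [Field k] [Algebra F k] {p : ℕ} [hp : Fact p.Prime] [CharP F p]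
  {c : k} {d : F}

theorem eleven_pow (h2 : p ≠ 2) (hc : c ^ 10 = 1) (hc2 : c ^ 2 ≠ 1)
    (hd : algebraMap F k d = - (11 * (c - c⁻¹) ^ 2)) (hq : Fintype.card F % 5 = 1 ∨ Fintype.card F % 5 = 4) :
    algebraMap F k (d ^ (Fintype.card F / 2)) =
      (-11 : k) ^ (Fintype.card F / 2) * (if Fintype.card F % 5 = 1 then 1 else -1) := by
  have hc0 : c ≠ 0 := by
    rintro rfl
    rw [zero_pow (by norm_num)] at hc
    exact zero_ne_one hc
  have hs : c - c⁻¹ ≠ 0 := by
    intro h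
    apply hc2
    have h3 := sub_eq_zero.1 h
    rw [sq]
    nth_rewrite 2 [h3]
    exact mul_inv_cancel₀ hc0
  have hodd : Fintype.card F % 2 = 1 := by
    obtain ⟨n, -, hn⟩ := FiniteField.card F p
    rw [hn]
    exact Nat.odd_iff.1 ((hp.out.odd_of_ne_two h2).pow)
  have hck : CharP k p := charP_of_injective_algebraMap (algebraMap F k).injective p
  have hfr : (c - c⁻¹) ^ Fintype.card F = c ^ Fintype.card F - (c ^ Fintype.card F)⁻¹ := by
    obtain ⟨n, -, hn⟩ := FiniteField.card F p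
    rw [hn, sub_pow_char_pow, inv_pow]
  rw [map_pow, hd]
  have h3 : (-(11 * (c - c⁻¹) ^ 2)) ^ (Fintype.card F / 2) =
      (-11) ^ (Fintype.card F / 2) * (c - c⁻¹) ^ (2 * (Fintype.card F / 2)) := by
    rw [pow_mul, ← mul_pow]
    congr 1
    ring
  rw [h3]
  congr 1
  have h4 : (c - c⁻¹) ^ (2 * (Fintype.card F / 2)) * (c - c⁻¹) = (c - c⁻¹) ^ Fintype.card F := by
    rw [← pow_succ]
    congr 1
    omega
  apply mul_right_cancel₀ hs
  rw [h4, hfr]
  split_ifs with h
  · have h5 : c ^ Fintype.card F = c := by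
      obtain ⟨m, hm⟩ : ∃ m, Fintype.card F = 10 * m + 1 := ⟨Fintype.card F / 10, by omega⟩
      rw [hm, pow_add, pow_mul, hc, one_pow, one_mul, pow_one]
    rw [h5, one_mul]
  · have h5 : c ^ Fintype.card F = c⁻¹ := by
      obtain ⟨m, hm⟩ : ∃ m, Fintype.card F = 10 * m + 9 := ⟨Fintype.card F / 10, by (clear * - hq hodd h; solve | lia | omega)⟩
      rw [hm, pow_add, pow_mul, hc, one_pow, one_mul]
      apply eq_inv_of_mul_eq_one_left
      rw [← pow_succ, hc]
    rw [h5, inv_inv]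
    ring

omit [Fintype F] in
theorem d_ne (h11 : (11 : k) ≠ 0) (hc : c ^ 10 = 1) (hc2 : c ^ 2 ≠ 1)
    (hd : algebraMap F k d = - (11 * (c - c⁻¹) ^ 2)) : d ≠ 0 := by
  have hc0 : c ≠ 0 := by
    rintro rfl
    rw [zero_pow (by norm_num)] at hc
    exact zero_ne_one hc
  rintro rfl
  rw [map_zero] at hd
  have h1 := neg_eq_zero.1 hd.symm
  rcases mul_eq_zero.1 h1 with h | h
  · exact h11 h
  · apply hc2
    have h3 := sub_eq_zero.1 ((pow_eq_zero_iff two_ne_zero).1 h)
    rw [sq]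
    nth_rewrite 2 [h3]
    exact mul_inv_cancel₀ hc0

omit [CharP F p] in
theorem five_ne [CharP k p] (hc : c ^ 10 = 1) (hc2 : c ^ 2 ≠ 1) : p ≠ 5 := by
  rintro rfl
  apply hc2
  have h1 : (c ^ 2 - 1) ^ 5 = 0 := by
    have h3 : (c ^ 2 - 1) ^ 5 = (c ^ 2) ^ 5 - 1 ^ 5 := sub_pow_char (c ^ 2) 1
    rw [h3, ← pow_mul, hc, one_pow, sub_self]
  exact sub_eq_zero.1 ((pow_eq_zero_iff (by norm_num)).1 h1)

theorem eleven_prime (h2 : p ≠ 2) (h11 : p ≠ 11) (hc : c ^ 10 = 1) (hc2 : c ^ 2 ≠ 1)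
    (hd : algebraMap F k d = - (11 * (c - c⁻¹) ^ 2)) (hF : Fintype.card F = p) :
    (p % 5 = 1 ∧ (IsSquare d ↔ IsSquare (p : ZMod 11))) ∨ (p % 5 = 4 ∧ (IsSquare d ↔ ¬ IsSquare (p : ZMod 11))) ∨
      (p % 5 = 2 ∨ p % 5 = 3) := by
  have hck : CharP k p := charP_of_injective_algebraMap (algebraMap F k).injective p
  have h5 := five_ne (p := p) hc hc2
  have h11k : (11 : k) ≠ 0 := by
    intro h
    have h3 : ((11 : ℕ) : k) = 0 := by exact_mod_cast h
    rw [CharP.cast_eq_zero_iff k p] at h3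
    exact h11 ((Nat.prime_dvd_prime_iff_eq hp.out (by norm_num)).1 h3)
  have hd0 := d_ne h11k hc hc2 hd
  have hF2 : ringChar F ≠ 2 := by rw [ringChar.eq F p]; exact h2
  have h5' : p % 5 ≠ 0 := by
    intro h
    exact h5 ((Nat.prime_dvd_prime_iff_eq (by norm_num) hp.out).1 (Nat.dvd_of_mod_eq_zero h)).symm
  -- `(-11)^(p/2)` in `k`
  have hleg : (-11 : k) ^ (p / 2) = if IsSquare (p : ZMod 11) then 1 else -1 := by
    classical
    let f := ZMod.castHom (dvd_refl p) k
    have h6 : (-11 : k) ^ (p / 2) = f ((-11 : ZMod p) ^ (p / 2)) := by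
      rw [map_pow, map_neg]
      congr 2
      exact (map_natCast f 11).symm
    have h7 : (-11 : ZMod p) ≠ 0 := by
      intro h
      apply h11k
      have := congrArg f h
      rw [map_neg, map_zero] at this
      have h8 : f 11 = 11 := map_natCast f 11
      rw [h8] at this
      exact neg_eq_zero.1 this
    have h8 : ringChar (ZMod p) ≠ 2 := by rw [ringChar.eq (ZMod p) p]; exact h2
    have h9 := FiniteField.isSquare_iff h8 h7
    rw [ZMod.card] at h9
    rw [h6]
    split_ifs with h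
    · rw [h9.1 ((isSquare_neg_eleven h2 h11).2 h), map_one]
    · have h10 := ZMod.pow_div_two_eq_neg_one_or_one p h7
      rcases h10 with h10 | h10
      · exact absurd ((isSquare_neg_eleven h2 h11).1 (h9.2 h10)) h
      · rw [h10, map_neg, map_one]
  have hne : (-1 : k) ≠ 1 := by
    intro h
    have h6 : ((2 : ℕ) : k) = 0 := by
      push_cast
      linear_combination -h
    rw [CharP.cast_eq_zero_iff k p] at h6
    exact h2 ((Nat.prime_dvd_prime_iff_eq hp.out Nat.prime_two).1 h6)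
  have key : ∀ h : p % 5 = 1 ∨ p % 5 = 4, (IsSquare d ↔
      (if IsSquare (p : ZMod 11) then (1 : k) else -1) * (if p % 5 = 1 then 1 else -1) = 1) := by
    intro h
    rw [FiniteField.isSquare_iff hF2 hd0]
    have h6 := eleven_pow (p := p) h2 hc hc2 hd (by rw [hF]; exact h)
    rw [hF, hleg] at h6
    rw [hF, ← h6]
    constructor
    · intro h7; rw [h7, map_one]
    · intro h7
      apply (algebraMap F k).injective
      rw [h7, map_one]
  have h6 : p % 5 = 1 ∨ p % 5 = 4 ∨ (p % 5 = 2 ∨ p % 5 = 3) := by (clear * - h5'; omega)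
  rcases h6 with h6 | h6 | h6
  · left
    refine ⟨h6, ?_⟩
    rw [key (Or.inl h6), if_pos h6, mul_one]
    by_cases h : IsSquare (p : ZMod 11)
    · simp only [h, ↓ _root_.reduceIte]
    · simp only [h, hne, ↓ _root_.reduceIte]
  · right; left
    refine ⟨h6, ?_⟩
    have h61 : ¬ p % 5 = 1 := by omega
    rw [key (Or.inr h6), if_neg h61]
    by_cases h : IsSquare (p : ZMod 11)
    · simp only [h, hne, ↓ _root_.reduceIte, _root_.mul_neg, _root_.mul_one, _root_.not_true_eq_false]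
    · simp only [h, ↓ _root_.reduceIte, _root_.mul_neg, _root_.mul_one, _root_.neg_neg, _root_.not_false_eq_true]
  · right; right
    exact h6

theorem eleven_sq (h2 : p ≠ 2) (h11 : p ≠ 11) (hc : c ^ 10 = 1) (hc2 : c ^ 2 ≠ 1)
    (hd : algebraMap F k d = - (11 * (c - c⁻¹) ^ 2)) (hF : Fintype.card F = p ^ 2)
    (h5 : p % 5 = 2 ∨ p % 5 = 3) : ¬ IsSquare d := by
  have hck : CharP k p := charP_of_injective_algebraMap (algebraMap F k).injective p
  have h11k : (11 : k) ≠ 0 := by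
    intro h
    have h3 : ((11 : ℕ) : k) = 0 := by exact_mod_cast h
    rw [CharP.cast_eq_zero_iff k p] at h3
    exact h11 ((Nat.prime_dvd_prime_iff_eq hp.out (by norm_num)).1 h3)
  have hd0 := d_ne h11k hc hc2 hd
  have hF2 : ringChar F ≠ 2 := by rw [ringChar.eq F p]; exact h2
  have hmod : Fintype.card F % 5 = 4 := by
    rw [hF, Nat.pow_mod]
    rcases h5 with h | h <;> rw [h]
  rw [FiniteField.isSquare_iff hF2 hd0]
  intro h
  have h6 := eleven_pow (p := p) h2 hc hc2 hd (Or.inr hmod)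
  rw [h, map_one, if_neg (by omega), hF] at h6
  have hne : (-1 : k) ≠ 1 := by
    intro h
    have h6 : ((2 : ℕ) : k) = 0 := by
      push_cast
      linear_combination -h
    rw [CharP.cast_eq_zero_iff k p] at h6
    exact h2 ((Nat.prime_dvd_prime_iff_eq hp.out Nat.prime_two).1 h6)
  have h7 : (-11 : k) ^ (p ^ 2 / 2) = 1 := by
    have hodd : p % 2 = 1 := Nat.odd_iff.1 (hp.out.odd_of_ne_two h2)
    obtain ⟨m, hm⟩ : ∃ m, p = 2 * m + 1 := ⟨p / 2, by omega⟩
    have h8 : p ^ 2 / 2 = (p - 1) * (m + 1) := by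
      have h9 : p ^ 2 = 2 * ((p - 1) * (m + 1)) + 1 := by
        have h10 : p - 1 = 2 * m := by omega
        rw [h10]
        rw [hm]
        ring
      (clear * - h9; omega)
    let f := ZMod.castHom (dvd_refl p) k
    have h9 : (-11 : k) ^ (p ^ 2 / 2) = f ((-11 : ZMod p) ^ (p ^ 2 / 2)) := by
      rw [map_pow, map_neg]
      congr 2
      exact (map_natCast f 11).symm
    have h10 : (-11 : ZMod p) ≠ 0 := by
      intro h
      apply h11k
      have := congrArg f h
      rw [map_neg, map_zero] at this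
      have h8 : f 11 = 11 := map_natCast f 11
      rw [h8] at this
      exact neg_eq_zero.1 this
    rw [h9, h8, pow_mul, ZMod.pow_card_sub_one_eq_one h10, one_pow, map_one]
  rw [h7, one_mul] at h6
  exact hne h6.symm

end eleven

end Cfsg.Agent.H114.Ty
end

-- part: H114/O12/Num
section
/-!
# Residues for S5872 and S5875 (helper114)
-/

set_option autoImplicit false

namespace Cfsg.Agent.H114.O12

theorem sq11 : ∀ r : Fin 11, (IsSquare ((r : ℕ) : ZMod 11) → (r : ℕ) ≠ 0 →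
    ((r : ℕ) = 1 ∨ (r : ℕ) = 3 ∨ (r : ℕ) = 4 ∨ (r : ℕ) = 5 ∨ (r : ℕ) = 9)) ∧
  (¬ IsSquare ((r : ℕ) : ZMod 11) →
    ((r : ℕ) = 2 ∨ (r : ℕ) = 6 ∨ (r : ℕ) = 7 ∨ (r : ℕ) = 8 ∨ (r : ℕ) = 10)) := by
  decide +kernel

theorem mod11 (p : ℕ) (h11 : p % 11 ≠ 0) :
    (IsSquare (p : ZMod 11) → (p % 11 = 1 ∨ p % 11 = 3 ∨ p % 11 = 4 ∨ p % 11 = 5 ∨ p % 11 = 9)) ∧
    (¬ IsSquare (p : ZMod 11) → (p % 11 = 2 ∨ p % 11 = 6 ∨ p % 11 = 7 ∨ p % 11 = 8 ∨ p % 11 = 10)) := by
  have h := sq11 ⟨p % 11, Nat.mod_lt _ (by norm_num)⟩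
  have h3 : ((p % 11 : ℕ) : ZMod 11) = (p : ZMod 11) := ZMod.natCast_mod p 11
  simp only [h3] at h
  exact ⟨fun a => h.1 a h11, h.2⟩

theorem mod55 (p : ℕ) (h11 : p % 11 ≠ 0) :
    (p % 5 = 1 → IsSquare (p : ZMod 11) → (p % 55 = 1 ∨ p % 55 = 16 ∨ p % 55 = 36 ∨ p % 55 = 31 ∨ p % 55 = 26)) ∧
    (p % 5 = 4 → ¬ IsSquare (p : ZMod 11) → (p % 55 = 54 ∨ p % 55 = 39 ∨ p % 55 = 19 ∨ p % 55 = 24 ∨ p % 55 = 29)) ∧
    (p % 5 = 1 → ¬ IsSquare (p : ZMod 11) → (p % 55 = 51 ∨ p % 55 = 6 ∨ p % 55 = 46 ∨ p % 55 = 41 ∨ p % 55 = 21)) ∧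
    (p % 5 = 4 → IsSquare (p : ZMod 11) → (p % 55 = 4 ∨ p % 55 = 49 ∨ p % 55 = 9 ∨ p % 55 = 14 ∨ p % 55 = 34)) := by
  have h := mod11 p h11
  refine ⟨fun a b => ?_, fun a b => ?_, fun a b => ?_, fun a b => ?_⟩
  · have := h.1 b
    (clear * - a this; solve | lia | omega)
  · have := h.2 b
    (clear * - a this; solve | lia | omega)
  · have := h.2 b
    (solve | lia | omega)
  · have := h.1 b
    (clear * - a this; solve | lia | omega)

theorem sq13' : ∀ r : Fin 13, (IsSquare ((r : ℕ) : ZMod 13) → (r : ℕ) ≠ 0 →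
    ((r : ℕ) = 1 ∨ (r : ℕ) = 12 ∨ (r : ℕ) = 3 ∨ (r : ℕ) = 10 ∨ (r : ℕ) = 4 ∨ (r : ℕ) = 9)) ∧
  (¬ IsSquare ((r : ℕ) : ZMod 13) →
    ((r : ℕ) = 2 ∨ (r : ℕ) = 11 ∨ (r : ℕ) = 5 ∨ (r : ℕ) = 8 ∨ (r : ℕ) = 6 ∨ (r : ℕ) = 7)) := by
  decide +kernel

theorem mod13 (p : ℕ) (h13 : p % 13 ≠ 0) :
    (IsSquare (p : ZMod 13) → (p % 13 = 1 ∨ p % 13 = 12 ∨ p % 13 = 3 ∨ p % 13 = 10 ∨ p % 13 = 4 ∨ p % 13 = 9)) ∧
    (¬ IsSquare (p : ZMod 13) → (p % 13 = 2 ∨ p % 13 = 11 ∨ p % 13 = 5 ∨ p % 13 = 8 ∨ p % 13 = 6 ∨ p % 13 = 7)) := by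
  have h := sq13' ⟨p % 13, Nat.mod_lt _ (by norm_num)⟩
  have h3 : ((p % 13 : ℕ) : ZMod 13) = (p : ZMod 13) := ZMod.natCast_mod p 13
  simp only [h3] at h
  exact ⟨fun a => h.1 a h13, h.2⟩

theorem sq91p : ∀ r : Fin 91, ((r : ℕ) % 7 = 2 ∨ (r : ℕ) % 7 = 3 ∨ (r : ℕ) % 7 = 4 ∨ (r : ℕ) % 7 = 5) →
    ((r : ℕ) % 13 = 1 ∨ (r : ℕ) % 13 = 12 ∨ (r : ℕ) % 13 = 3 ∨ (r : ℕ) % 13 = 10 ∨ (r : ℕ) % 13 = 4 ∨
      (r : ℕ) % 13 = 9) →
    ((r : ℕ) = 3 ∨ (r : ℕ) = 88 ∨ (r : ℕ) = 4 ∨ (r : ℕ) = 87 ∨ (r : ℕ) = 9 ∨ (r : ℕ) = 82 ∨ (r : ℕ) = 10 ∨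
      (r : ℕ) = 81 ∨ (r : ℕ) = 12 ∨ (r : ℕ) = 79 ∨ (r : ℕ) = 16 ∨ (r : ℕ) = 75 ∨ (r : ℕ) = 17 ∨ (r : ℕ) = 74 ∨
      (r : ℕ) = 23 ∨ (r : ℕ) = 68 ∨ (r : ℕ) = 25 ∨ (r : ℕ) = 66 ∨ (r : ℕ) = 30 ∨ (r : ℕ) = 61 ∨ (r : ℕ) = 38 ∨
      (r : ℕ) = 53 ∨ (r : ℕ) = 40 ∨ (r : ℕ) = 51) := by
  decide +kernel

theorem sq91m : ∀ r : Fin 91, ((r : ℕ) % 7 = 2 ∨ (r : ℕ) % 7 = 3 ∨ (r : ℕ) % 7 = 4 ∨ (r : ℕ) % 7 = 5) →
    ((r : ℕ) % 13 = 2 ∨ (r : ℕ) % 13 = 11 ∨ (r : ℕ) % 13 = 5 ∨ (r : ℕ) % 13 = 8 ∨ (r : ℕ) % 13 = 6 ∨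
      (r : ℕ) % 13 = 7) →
    ((r : ℕ) = 2 ∨ (r : ℕ) = 89 ∨ (r : ℕ) = 5 ∨ (r : ℕ) = 86 ∨ (r : ℕ) = 11 ∨ (r : ℕ) = 80 ∨ (r : ℕ) = 18 ∨
      (r : ℕ) = 73 ∨ (r : ℕ) = 19 ∨ (r : ℕ) = 72 ∨ (r : ℕ) = 24 ∨ (r : ℕ) = 67 ∨ (r : ℕ) = 31 ∨ (r : ℕ) = 60 ∨
      (r : ℕ) = 32 ∨ (r : ℕ) = 59 ∨ (r : ℕ) = 33 ∨ (r : ℕ) = 58 ∨ (r : ℕ) = 37 ∨ (r : ℕ) = 54 ∨ (r : ℕ) = 44 ∨
      (r : ℕ) = 47 ∨ (r : ℕ) = 45 ∨ (r : ℕ) = 46) := by
  decide +kernel

theorem mod91p (p : ℕ) (h7 : p % 7 = 2 ∨ p % 7 = 3 ∨ p % 7 = 4 ∨ p % 7 = 5)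
    (h13 : p % 13 = 1 ∨ p % 13 = 12 ∨ p % 13 = 3 ∨ p % 13 = 10 ∨ p % 13 = 4 ∨ p % 13 = 9) :
    (p % 91 = 3 ∨ p % 91 = 88 ∨ p % 91 = 4 ∨ p % 91 = 87 ∨ p % 91 = 9 ∨ p % 91 = 82 ∨ p % 91 = 10 ∨ p % 91 = 81 ∨ p % 91 = 12 ∨ p % 91 = 79 ∨ p % 91 = 16 ∨ p % 91 = 75 ∨ p % 91 = 17 ∨ p % 91 = 74 ∨ p % 91 = 23 ∨ p % 91 = 68 ∨ p % 91 = 25 ∨ p % 91 = 66 ∨ p % 91 = 30 ∨ p % 91 = 61 ∨ p % 91 = 38 ∨ p % 91 = 53 ∨ p % 91 = 40 ∨ p % 91 = 51) := by
  have h := sq91p ⟨p % 91, Nat.mod_lt _ (by norm_num)⟩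
  have h1 : p % 91 % 7 = p % 7 := Nat.mod_mod_of_dvd p (by norm_num)
  have h2 : p % 91 % 13 = p % 13 := Nat.mod_mod_of_dvd p (by norm_num)
  simp only [h1, h2] at h
  exact h h7 h13

theorem mod91m (p : ℕ) (h7 : p % 7 = 2 ∨ p % 7 = 3 ∨ p % 7 = 4 ∨ p % 7 = 5)
    (h13 : p % 13 = 2 ∨ p % 13 = 11 ∨ p % 13 = 5 ∨ p % 13 = 8 ∨ p % 13 = 6 ∨ p % 13 = 7) :
    (p % 91 = 2 ∨ p % 91 = 89 ∨ p % 91 = 5 ∨ p % 91 = 86 ∨ p % 91 = 11 ∨ p % 91 = 80 ∨ p % 91 = 18 ∨ p % 91 = 73 ∨ p % 91 = 19 ∨ p % 91 = 72 ∨ p % 91 = 24 ∨ p % 91 = 67 ∨ p % 91 = 31 ∨ p % 91 = 60 ∨ p % 91 = 32 ∨ p % 91 = 59 ∨ p % 91 = 33 ∨ p % 91 = 58 ∨ p % 91 = 37 ∨ p % 91 = 54 ∨ p % 91 = 44 ∨ p % 91 = 47 ∨ p % 91 = 45 ∨ p % 91 = 46) := by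
  have h := sq91m ⟨p % 91, Nat.mod_lt _ (by norm_num)⟩
  have h1 : p % 91 % 7 = p % 7 := Nat.mod_mod_of_dvd p (by norm_num)
  have h2 : p % 91 % 13 = p % 13 := Nat.mod_mod_of_dvd p (by norm_num)
  simp only [h1, h2] at h
  exact h h7 h13

end Cfsg.Agent.H114.O12
end

-- part: H114/TyL2Two
section
/-!
# The quadratic form fixed by `PSL₂(11)`, `PSL₂(13)` of degree 12 in characteristic two is of minus type (helper114)
-/

set_option autoImplicit false
set_option linter.unusedSectionVars false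

namespace Cfsg.Agent.H114.Ty

open Matrix Module Cfsg Cfsg.Geo Cfsg.Agent.H464.Sl2 Cfsg.Agent.H915.LD

section Plane

variable {ι : Type} [Fintype ι] [DecidableEq ι] {F : Type*} [Field F]

/-- A plane with an isometry without eigenvectors is anisotropic. -/
theorem aniso_of_isometry {Q : (ι → F) → F} (hQ : IsNondegenerateQuadraticForm Q) {W : Submodule F (ι → F)}
    (hW : finrank F W = 2) {T : Module.End F (ι → F)} (hT : ∀ v, Q (T v) = Q v) (hTW : ∀ w ∈ W, T w ∈ W)
    (h1 : ∀ w ∈ W, ∀ μ : F, T w = μ • w → w = 0) (h2 : ∀ w ∈ W, ∀ μ : F, T (T w) = μ • w → w = 0)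
    (hnd : ∀ w ∈ W, (∀ w' ∈ W, QuadraticMap.polar Q w w' = 0) → w = 0)
    (halt : ∀ w, QuadraticMap.polar Q w w = 2 * Q w) :
    ∀ w ∈ W, Q w = 0 → w = 0 := by
  intro w hw hQw
  by_contra hw0
  have hB := hQ.polar_bilinear
  have hfd : FiniteDimensional F W := FiniteDimensional.of_finrank_pos (by omega)
  have hli : LinearIndependent F ![(⟨w, hw⟩ : W), ⟨T w, hTW w hw⟩] := by
    rw [LinearIndependent.pair_iff]
    intro s r hsr
    have h3 : s • w + r • T w = 0 := congrArg Subtype.val hsr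
    by_cases hr : r = 0
    · rw [hr, zero_smul, add_zero] at h3
      exact ⟨(smul_eq_zero.1 h3).resolve_right hw0, hr⟩
    · exfalso
      apply hw0
      apply h1 w hw (-(r⁻¹ * s))
      have h4 : T w = r⁻¹ • (r • T w) := by rw [smul_smul, inv_mul_cancel₀ hr, one_smul]
      rw [h4, show r • T w = - (s • w) from eq_neg_of_add_eq_zero_right h3, smul_neg, smul_smul, neg_smul]
  have hspan : ∀ x ∈ W, ∃ α β : F, x = α • w + β • T w := by
    intro x hx
    have h3 : Submodule.span F (Set.range ![(⟨w, hw⟩ : W), ⟨T w, hTW w hw⟩]) = ⊤ :=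
      hli.span_eq_top_of_card_eq_finrank' (by rw [hW, Fintype.card_fin])
    have h4 : (⟨x, hx⟩ : W) ∈ Submodule.span F (Set.range ![(⟨w, hw⟩ : W), ⟨T w, hTW w hw⟩]) := by rw [h3]; trivial
    rw [Matrix.range_cons, Matrix.range_cons, Matrix.range_empty, Set.union_empty, Set.singleton_union,
      Submodule.mem_span_pair] at h4
    obtain ⟨α, β, h5⟩ := h4
    exact ⟨α, β, (congrArg Subtype.val h5).symm⟩
  have hpol : ∀ x y : ι → F, Q (x + y) = Q x + Q y + QuadraticMap.polar Q x y := by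
    intro x y
    unfold QuadraticMap.polar
    ring
  have hwT : QuadraticMap.polar Q w (T w) ≠ 0 := by
    intro h
    apply hw0
    apply hnd w hw
    intro x hx
    obtain ⟨α, β, rfl⟩ := hspan x hx
    rw [hB.add_right, hB.smul_right, hB.smul_right, h, halt, hQw, mul_zero, mul_zero, mul_zero, add_zero]
  obtain ⟨α, β, h3⟩ := hspan (T (T w)) (hTW _ (hTW _ hw))
  have h4 : Q (T (T w)) = 0 := by rw [hT, hT, hQw]
  rw [h3, hpol, hQ.smul, hQ.smul, hT, hQw, hB.smul_left, hB.smul_right] at h4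
  have h5 : α * β * QuadraticMap.polar Q w (T w) = 0 := by linear_combination h4
  rcases mul_eq_zero.1 ((mul_eq_zero.1 h5).resolve_right hwT) with h6 | h6
  · rw [h6, zero_smul, zero_add] at h3
    have h7 := h1 (T w) (hTW _ hw) β h3
    apply hw0
    have h8 := h2 w hw 0
    apply h8
    rw [h7, map_zero, zero_smul]
  · rw [h6, zero_smul, add_zero] at h3
    exact hw0 (h2 w hw α h3)

end Plane

theorem dec1 : ((2 : ℕ) : ZMod 13) ^ 6 ≠ 1 := by decide
theorem dec2 : ((8 : ℕ) : ZMod 13) ^ 6 ≠ 1 := by decide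
theorem dec3 : ((4 : ℕ) : ZMod 11) ^ 6 ≠ - ((4 : ℕ) : ZMod 11) := by decide

section Core

variable {F : Type*} [Field F] [Fintype F] [CharP F 2]
  {K : Type*} [Field K] [Fintype K] (ρ : _root_.Matrix.SpecialLinearGroup (Fin 2) K →* GL (Fin 12) F)

theorem u_pow (x : K) (j : ℕ) : (u x) ^ j = u ((j : K) * x) := by
  induction j with
  | zero => rw [pow_zero, Nat.cast_zero, zero_mul, u_zero]
  | succ j ih => rw [pow_succ, ih, ← u_add]; congr 1; push_cast; ring

theorem u_fix (hr : (Fintype.card K).Prime) {v : Fin 12 → F}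
    (hv : (ρ (u 1) : Matrix (Fin 12) (Fin 12) F) *ᵥ v = v) (x : K) :
    (ρ (u x) : Matrix (Fin 12) (Fin 12) F) *ᵥ v = v := by
  have := Fact.mk hr
  obtain ⟨m, hm⟩ : ∃ m : ZMod (Fintype.card K), (ZMod.ringEquivOfPrime K hr rfl) m = x :=
    (ZMod.ringEquivOfPrime K hr rfl).surjective _
  have h1 : u x = (u 1) ^ m.val := by
    rw [u_pow, mul_one]
    congr 1
    rw [← hm]
    conv_lhs => rw [← ZMod.natCast_zmod_val m]
    rw [map_natCast]
  rw [h1, map_pow]
  have h2 : ∀ j : ℕ, (((ρ (u 1)) ^ j : GL (Fin 12) F) : Matrix (Fin 12) (Fin 12) F) *ᵥ v = v := by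
    intro j
    induction j with
    | zero => simp
    | succ j ih => rw [pow_succ, Units.val_mul, ← Matrix.mulVec_mulVec, hv, ih]
  exact h2 _

theorem E0_fix (hr : (Fintype.card K).Prime) (hK : (Fintype.card K : F) ≠ 0) {v : Fin 12 → F}
    (hv : (ρ (u 1) : Matrix (Fin 12) (Fin 12) F) *ᵥ v = v) : E0 ρ *ᵥ v = v := by
  unfold E0
  rw [Matrix.smul_mulVec, Matrix.sum_mulVec, Finset.sum_congr rfl fun x _ => u_fix ρ hr hv x, Finset.sum_const,
    Finset.card_univ, ← Nat.cast_smul_eq_nsmul F, smul_smul, inv_mul_cancel₀ hK, one_smul]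

theorem u_E0 (x : K) : (ρ (u x) : Matrix (Fin 12) (Fin 12) F) * E0 ρ = E0 ρ := by
  unfold E0
  rw [mul_smul_comm, Finset.mul_sum]
  congr 1
  rw [← Equiv.sum_comp (Equiv.addLeft x) fun y : K => (ρ (u y) : Matrix (Fin 12) (Fin 12) F)]
  refine Finset.sum_congr rfl fun y _ => ?_
  rw [Equiv.coe_addLeft, u_add, map_mul, Units.val_mul]

theorem t_E0 (a : Kˣ) : (ρ (t a) : Matrix (Fin 12) (Fin 12) F) * E0 ρ = E0 ρ * (ρ (t a) : Matrix (Fin 12) (Fin 12) F) := by
  unfold E0
  rw [mul_smul_comm, Finset.mul_sum, smul_mul_assoc, Finset.sum_mul]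
  congr 1
  have ha : (a : K) ^ 2 ≠ 0 := pow_ne_zero 2 a.ne_zero
  rw [← Equiv.sum_comp (Equiv.mulLeft₀ ((a : K) ^ 2) ha)
    fun y : K => (ρ (u y) : Matrix (Fin 12) (Fin 12) F) * (ρ (t a) : Matrix (Fin 12) (Fin 12) F)]
  refine Finset.sum_congr rfl fun y _ => ?_
  rw [Equiv.mulLeft₀_apply, ← Units.val_mul, ← map_mul, t_mul_u, map_mul, Units.val_mul]

theorem u_pow_card : (ρ (u 1)) ^ Fintype.card K = 1 := by
  rw [← map_pow, u_pow, mul_one]
  have : (Fintype.card K : K) = 0 := Nat.cast_card_eq_zero K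
  rw [this, u_zero, map_one]

/-- **`PSL₂(13)`, degree 12, characteristic 2**. -/
theorem not_plus_thirteen (hρ : ρ ≠ 1)
    (hspan : Submodule.span F (Set.range fun g => (ρ g : Matrix (Fin 12) (Fin 12) F)) = ⊤)
    (hK : Fintype.card K = 13) (hF : Fintype.card F = 2 ∨ Fintype.card F = 8)
    {Q : (Fin 12 → F) → F} (hQ : IsNondegenerateQuadraticForm Q)
    (hfix : ∀ g v, Q ((ρ g : Matrix (Fin 12) (Fin 12) F) *ᵥ v) = Q v) : ¬ IsPlusTypeOn Q ⊤ := by
  classical
  intro hplus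
  have hr : (Fintype.card K).Prime := by rw [hK]; norm_num
  have hKF : (Fintype.card K : F) ≠ 0 := by
    rw [hK]
    intro h
    rw [CharP.cast_eq_zero_iff F 2] at h
    omega
  let k := AlgebraicClosure F
  have hKk : (Fintype.card K : k) ≠ 0 := by
    intro h
    apply hKF
    apply (algebraMap F k).injective
    rw [map_natCast, map_zero]
    exact h
  obtain ⟨ψ, hψ⟩ := exists_prim hKk
  have hR : _root_.Cfsg.Agent.H464.Sl2.ext ρ k ≠ 1 := ext_ne_one ρ k hρ
  have hs := span_ext ρ k hspan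
  have hfr : finrank k (Fin 12 → k) = 12 := by rw [finrank_fintype_fun_eq_card, Fintype.card_fin]
  have hdim := dim_cases (_root_.Cfsg.Agent.H464.Sl2.ext ρ k) hψ hKk hs hR
  rw [hfr] at hdim
  have h1 : ∀ b : K, b ≠ 0 → finrank k (LinearMap.range (E (_root_.Cfsg.Agent.H464.Sl2.ext ρ k) ψ b)) = 1 := by
    rcases hdim with h | h
    · exact h.1
    · omega
  have h0 : finrank k (LinearMap.range (E (_root_.Cfsg.Agent.H464.Sl2.ext ρ k) ψ 0)) = 0 := by
    have h4 := finrank_eq (_root_.Cfsg.Agent.H464.Sl2.ext ρ k) hψ hKk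
    rw [hfr, Finset.sum_congr rfl fun b hb => h1 b (Finset.ne_of_mem_erase hb), Finset.sum_const,
      Finset.card_erase_of_mem (Finset.mem_univ _), Finset.card_univ, smul_eq_mul, mul_one] at h4
    omega
  have hE0 : E0 ρ = 0 := by
    rw [Submodule.finrank_eq_zero, LinearMap.range_eq_bot, ← E0_ext ρ ψ] at h0
    have h2 : (E0 ρ).map (algebraMap F k) = 0 := by
      apply Matrix.toLin'.injective
      rw [h0, map_zero]
    ext i j
    apply (algebraMap F k).injective
    have h3 := congrFun (congrFun h2 i) j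
    rw [Matrix.map_apply] at h3
    rw [h3]
    simp
  have hfr13 : Fact (Nat.Prime 13) := ⟨by norm_num⟩
  have h4 := pow_eq_one_of_free (r := 13) (by norm_num) hQ hplus (m := 6) (by simp) (g := ρ (u 1))
    (by have := u_pow_card ρ; rwa [hK] at this) (hfix _) (by
      intro v hv
      have h5 := E0_fix ρ hr hKF hv
      rw [hE0, Matrix.zero_mulVec] at h5
      exact h5.symm)
  rcases hF with h | h <;> rw [h] at h4
  · exact dec1 h4
  · exact dec2 h4

/-- **`PSL₂(11)`, degree 12, characteristic 2**. -/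
theorem not_plus_eleven (hρ : ρ ≠ 1)
    (hspan : Submodule.span F (Set.range fun g => (ρ g : Matrix (Fin 12) (Fin 12) F)) = ⊤)
    (hK : Fintype.card K = 11) (hF : Fintype.card F = 4)
    {Q : (Fin 12 → F) → F} (hQ : IsNondegenerateQuadraticForm Q)
    (hfix : ∀ g v, Q ((ρ g : Matrix (Fin 12) (Fin 12) F) *ᵥ v) = Q v) : ¬ IsPlusTypeOn Q ⊤ := by
  classical
  intro hplus
  have hr : (Fintype.card K).Prime := by rw [hK]; norm_num
  have hKF : (Fintype.card K : F) ≠ 0 := by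
    rw [hK]
    intro h
    rw [CharP.cast_eq_zero_iff F 2] at h
    omega
  obtain ⟨c, hc1, hcmul, ⟨a, ha⟩, hD, hrank⟩ := plus_data ρ hρ hspan hr (by rw [hK]; decide) hKF (by rw [hK])
  have hc10 : c a ^ 10 = 1 := by
    have := c_pow_card hc1 hcmul a
    rwa [hK] at this
  have hca0 : c a ≠ 0 := by
    intro h
    rw [h, zero_pow (by norm_num)] at hc10
    exact zero_ne_one hc10
  -- the fixed space
  let W : Submodule F (Fin 12 → F) := LinearMap.range (Matrix.toLin' (E0 ρ))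
  have hWd : finrank F W = 2 := hrank
  have hWfix : ∀ v, v ∈ W ↔ (ρ (u 1) : Matrix (Fin 12) (Fin 12) F) *ᵥ v = v := by
    intro v
    constructor
    · rintro ⟨y, rfl⟩
      rw [Matrix.toLin'_apply, Matrix.mulVec_mulVec, u_E0]
    · intro h
      exact ⟨v, by rw [Matrix.toLin'_apply, E0_fix ρ hr hKF h]⟩
  have hWE : ∀ v ∈ W, E0 ρ *ᵥ v = v := fun v hv => E0_fix ρ hr hKF ((hWfix v).1 hv)
  have hB := hQ.polar_bilinear
  -- fixed vectors of `t (a ^ j)` in `W`
  have hfree : ∀ b : Kˣ, c b ^ 2 ≠ 1 → ∀ w ∈ W, (ρ (t b) : Matrix (Fin 12) (Fin 12) F) *ᵥ w = w → w = 0 := by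
    intro b hb w hw hbw
    have hb0 : c b ≠ 0 := by
      have h := c_pow_card hc1 hcmul b
      intro h0
      rw [hK, h0, zero_pow (by norm_num)] at h
      exact zero_ne_one h
    have hDne : (Dm ρ b).det ≠ 0 := by
      intro h
      have h6 := hD b
      rw [h, map_zero] at h6
      rcases mul_eq_zero.1 h6.symm with h5 | h5
      · apply hKF
        apply (algebraMap F (AlgebraicClosure F)).injective
        rw [map_natCast, map_zero]
        exact neg_eq_zero.1 h5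
      · apply hb
        have h7 := sub_eq_zero.1 (pow_eq_zero_iff two_ne_zero |>.1 h5)
        rw [sq]
        nth_rewrite 2 [h7]
        exact mul_inv_cancel₀ hb0
    have hbw' : (ρ (t b⁻¹) : Matrix (Fin 12) (Fin 12) F) *ᵥ w = w := by
      conv_lhs => rw [← hbw]
      rw [Matrix.mulVec_mulVec, ← Units.val_mul, ← map_mul, ← t_mul, inv_mul_cancel, t_one, map_one, Units.val_one,
        Matrix.one_mulVec]
    have h7 : Dm ρ b *ᵥ w = 0 := by
      unfold Dm
      rw [Matrix.add_mulVec, Matrix.sub_mulVec, u_fix ρ hr ((hWfix w).1 hw), u_fix ρ hr ((hWfix w).1 hw), sub_self,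
        zero_add, ← Matrix.mulVec_mulVec, hWE w hw, ← Matrix.mulVec_mulVec, Matrix.sub_mulVec, hbw, hbw', sub_self,
        Matrix.mulVec_zero]
    by_contra hw0
    exact hDne (Matrix.exists_mulVec_eq_zero_iff.1 ⟨w, hw0, h7⟩)
  -- the isometry of order five
  let T : Module.End F (Fin 12 → F) := Matrix.toLin' (ρ (t (a ^ 2)) : Matrix (Fin 12) (Fin 12) F)
  have hT : ∀ v, T v = (ρ (t (a ^ 2)) : Matrix (Fin 12) (Fin 12) F) *ᵥ v := fun v => Matrix.toLin'_apply _ _
  have ha10 : a ^ 10 = 1 := by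
    have := pow_card_eq_one (x := a)
    rwa [Fintype.card_units, hK] at this
  have hF3 : ∀ μ : F, μ ≠ 0 → μ ^ 3 = 1 := by
    intro μ hμ
    have := FiniteField.pow_card_sub_one_eq_one μ hμ
    rwa [hF] at this
  -- eigenvectors of `T`
  have hTeig : ∀ w ∈ W, ∀ μ : F, T w = μ • w → w = 0 := by
    intro w hw μ hμ
    by_contra hw0
    have hTpow : ∀ j : ℕ, (ρ (t (a ^ (2 * j))) : Matrix (Fin 12) (Fin 12) F) *ᵥ w = μ ^ j • w := by
      intro j
      induction j with
      | zero => rw [mul_zero, pow_zero, t_one, map_one, Units.val_one, Matrix.one_mulVec, pow_zero, one_smul]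
      | succ j ih =>
        have h8 : a ^ (2 * (j + 1)) = a ^ (2 * j) * a ^ 2 := by rw [mul_add, mul_one, pow_add]
        rw [h8, t_mul, map_mul, Units.val_mul, ← Matrix.mulVec_mulVec, ← hT, hμ, Matrix.mulVec_smul, ih, smul_smul,
          pow_succ, mul_comm]
    have h5 := hTpow 5
    rw [ha10, t_one, map_one, Units.val_one, Matrix.one_mulVec] at h5
    have h6 : (μ ^ 5 - 1) • w = 0 := by rw [sub_smul, one_smul, ← h5, sub_self]
    have h7 : μ ^ 5 = 1 := sub_eq_zero.1 ((smul_eq_zero.1 h6).resolve_right hw0)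
    have hμ0 : μ ≠ 0 := by
      rintro rfl
      rw [zero_pow (by norm_num)] at h7
      exact zero_ne_one h7
    have h8 := hF3 μ hμ0
    have h9 : μ = 1 := by
      have h10 : μ * μ ^ 5 = (μ ^ 3) ^ 2 := by ring
      rwa [h7, h8, mul_one, one_pow] at h10
    rw [h9, one_smul, hT] at hμ
    apply hw0
    refine hfree (a ^ 2) ?_ w hw hμ
    intro h10
    apply ha
    have h11 : c a ^ 4 = 1 := by
      rw [c_pow hc1 hcmul] at h10
      rw [← h10]; ring
    have h12 : c a ^ 2 * (c a ^ 4) ^ 2 = c a ^ 10 := by ring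
    rwa [h11, hc10, one_pow, mul_one] at h12
  have hTW : ∀ w ∈ W, T w ∈ W := by
    rintro _ ⟨y, rfl⟩
    refine ⟨(ρ (t (a ^ 2)) : Matrix (Fin 12) (Fin 12) F) *ᵥ y, ?_⟩
    rw [hT, Matrix.toLin'_apply, Matrix.toLin'_apply, Matrix.mulVec_mulVec, Matrix.mulVec_mulVec, t_E0]
  have h2F : (2 : F) = 0 := CharTwo.two_eq_zero
  have hchar : ∀ w : Fin 12 → F, QuadraticMap.polar Q w w = 2 * Q w := by
    intro w
    have h5 : w + w = (2 : F) • w := by rw [two_smul]
    unfold QuadraticMap.polar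
    rw [h5, hQ.smul]
    ring
  have han := aniso_of_isometry hQ hWd (T := T) (fun v => by rw [hT]; exact hfix _ _) hTW hTeig ?_ ?_ hchar
  · have hfr11 : Fact (Nat.Prime 11) := ⟨by norm_num⟩
    have h4 := pow_eq_neg_of_aniso (r := 11) (by norm_num) hQ hplus (m := 6) (by simp) (g := ρ (u 1))
      (by have := u_pow_card ρ; rwa [hK] at this) (hfix _) hWfix hWd han
    rw [hF] at h4
    exact dec3 h4
  · -- eigenvectors of `T²`
    intro w hw μ hμ
    have h5 : T w = μ ^ 3 • w := by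
      have h6 : T (T (T (T (T (T w))))) = μ ^ 3 • w := by
        rw [hμ]
        simp only [map_smul, hμ, smul_smul]
        congr 1
        ring
      have h7 : T (T (T (T (T w)))) = w := by
        simp only [hT, Matrix.mulVec_mulVec, ← Units.val_mul, ← map_mul, ← t_mul]
        rw [show a ^ 2 * (a ^ 2 * (a ^ 2 * (a ^ 2 * a ^ 2))) = a ^ 10 by simp only [← pow_add], ha10, t_one, map_one,
          Units.val_one, Matrix.one_mulVec]
      rw [h7] at h6
      exact h6
    exact hTeig w hw _ h5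
  · -- nondegenerate on `W`
    intro w hw h5
    by_contra hw0
    obtain ⟨v, hv⟩ := (hQ.nondegenerate w hw0).2
    apply hv
    have h6 := adj_E0 ρ hQ hfix w v
    rw [hWE w hw] at h6
    rw [← h6]
    exact h5 _ ⟨v, Matrix.toLin'_apply _ _⟩

end Core

end Cfsg.Agent.H114.Ty
end

-- part: H114/TyWeil
section
/-!
# `SL₂(q)`, `q ≡ 1 (mod 4)`, degree `(q - 1) / 2`: no quadratic form in characteristic two (helper114)

* `even_rank` : a perfect group of isometries consists of elements with `rank (g - 1)` even;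
* `no_quad` : `ρ : SL₂(K) → GL_n(F)` irreducible, `2 n + 1 = |K|`, `n` even, `ρ (-1) = 1` (e.g. `char F = 2`) ⟹ no
  invariant non-degenerate quadratic form.
-/

set_option autoImplicit false
set_option linter.unusedSectionVars false

namespace Cfsg.Agent.H114.Ty

open Matrix Module Cfsg Cfsg.Geo Cfsg.Agent.H464.Sl2 Cfsg.Agent.H915.LD
open Cfsg.Agent.ClassicalGeometry.OrthDickson

section Even

variable {ι : Type} [Fintype ι] [DecidableEq ι] {F : Type*} [Field F] {P : Subgroup (GL ι F)}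

theorem fix_dim_add_rank (M : Matrix ι ι F) :
    (M - 1).rank + finrank F (LinearMap.ker (Matrix.toLin' (M - 1))) = Fintype.card ι := by
  have h1 := LinearMap.finrank_range_add_finrank_ker (Matrix.toLin' (M - 1))
  rw [finrank_fintype_fun_eq_card] at h1
  exact h1

/-- **A perfect group of isometries consists of elements with `rank (g - 1)` even.** -/
theorem even_rank (hP : commutator P = ⊤) {Q : (ι → F) → F} (hQ : IsNondegenerateQuadraticForm Q)
    (hfix : ∀ g ∈ P, ∀ v, Q ((g : Matrix ι ι F) *ᵥ v) = Q v) (h4 : Fintype.card ι ≠ 4) {g : GL ι F} (hg : g ∈ P) :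
    Even ((g : Matrix ι ι F) - 1).rank := by
  have hnd : (QuadraticMap.polarBilin (H925.qf hQ)).Nondegenerate := by
    refine ⟨fun x hx => ?_, fun x hx => ?_⟩
    · by_contra h
      obtain ⟨y, hy⟩ := (hQ.nondegenerate x h).2
      exact hy (hx y)
    · by_contra h
      obtain ⟨y, hy⟩ := (hQ.nondegenerate x h).1
      exact hy (hx y)
  have hle : P ≤ isometryGroup F (⇑(H925.qf hQ)) := fun g hg v _ => hfix g hg v
  let φ : P →* ℤˣ := (dsignHom (H925.qf hQ) hnd (Or.inr h4)).comp (Subgroup.inclusion hle)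
  have h1 : φ ⟨g, hg⟩ = 1 := by
    have h2 : (⟨g, hg⟩ : P) ∈ commutator P := by rw [hP]; trivial
    exact Abelianization.commutator_subset_ker φ h2
  have h2 : φ ⟨g, hg⟩ = dsign (H925.qf hQ) ⟨g, hle hg⟩ := rfl
  rw [h2, dsign_def] at h1
  have h3 := fix_dim_add_rank (g : Matrix ι ι F)
  have h5 : LinearMap.ker (Matrix.toLin' ((g : Matrix ι ι F) - 1)) =
      Cfsg.Agent.ClassicalGeometry.OrthCharTwo.fixSp (⟨g, hle hg⟩ : isometryGroup F (⇑(H925.qf hQ))) := by
    ext x
    rw [LinearMap.mem_ker, Matrix.toLin'_apply, Matrix.sub_mulVec, Matrix.one_mulVec, sub_eq_zero]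
    rfl
  rw [h5] at h3
  rw [← h3] at h1
  by_contra hodd
  rw [Nat.not_even_iff_odd] at hodd
  obtain ⟨m, hm⟩ := hodd
  have h6 : Odd (finrank F (Cfsg.Agent.ClassicalGeometry.OrthCharTwo.fixSp
      (⟨g, hle hg⟩ : isometryGroup F (⇑(H925.qf hQ)))) + (((g : Matrix ι ι F) - 1).rank +
      finrank F (Cfsg.Agent.ClassicalGeometry.OrthCharTwo.fixSp (⟨g, hle hg⟩ : isometryGroup F (⇑(H925.qf hQ)))))) := by
    rw [hm]
    exact ⟨m + finrank F (Cfsg.Agent.ClassicalGeometry.OrthCharTwo.fixSp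
      (⟨g, hle hg⟩ : isometryGroup F (⇑(H925.qf hQ)))), by ring⟩
  rw [h6.neg_one_pow] at h1
  exact absurd h1 (by decide)

end Even

section Weil

variable {n : ℕ} {F : Type*} [Field F] [Finite F] {K : Type*} [Field K] [Fintype K]
  (ρ : _root_.Matrix.SpecialLinearGroup (Fin 2) K →* GL (Fin n) F)

/-- the fixed space of a torus generator is one-dimensional -/
theorem finrank_fix (hρ : ρ ≠ 1) (hspan : Submodule.span F (Set.range fun g => (ρ g : Matrix (Fin n) (Fin n) F)) = ⊤)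
    (hodd : Odd (Fintype.card K)) (hK : (Fintype.card K : F) ≠ 0) (hn : 2 * n + 1 = Fintype.card K)
    (hn1 : 1 < n) (hz : ρ (t (-1)) = 1) {a : Kˣ} (ha : orderOf a = Fintype.card K - 1) :
    ((ρ (t a) : Matrix (Fin n) (Fin n) F) - 1).rank + 1 = n := by
  classical
  let k := AlgebraicClosure F
  have hKk : (Fintype.card K : k) ≠ 0 := by
    intro h
    apply hK
    apply (algebraMap F k).injective
    rw [map_natCast, map_zero]
    exact h
  obtain ⟨ψ, hψ⟩ := exists_prim hKk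
  have hR : _root_.Cfsg.Agent.H464.Sl2.ext ρ k ≠ 1 := ext_ne_one ρ k hρ
  have hs := span_ext ρ k hspan
  have hfr : finrank k (Fin n → k) = n := by rw [finrank_fintype_fun_eq_card, Fintype.card_fin]
  set R := _root_.Cfsg.Agent.H464.Sl2.ext ρ k with hRdef
  -- a weight
  obtain ⟨b₀, hb₀, hb₀'⟩ := exists_E_ne R hψ hKk hR
  have hone : finrank k (LinearMap.range (E R ψ b₀)) = 1 := by
    have := finrank_E_le_one R hψ hKk hs hb₀
    omega
  -- the orbit weights
  have horb : ∀ x : Kˣ, finrank k (LinearMap.range (E R ψ ((x : K) ^ 2 * b₀))) = 1 := by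
    intro x
    rw [finrank_E_mul_sq R, hone]
  -- the number of orbit weights is n
  have hcardsq : (Finset.univ.image fun x : Kˣ => ((x : K) ^ 2 * b₀)).card = n := by
    have h1 : 2 * (Finset.univ.image fun x : Kˣ => ((x : K) ^ 2 * b₀)).card = Fintype.card Kˣ := by
      have h2 : ∀ y ∈ Finset.univ.image (fun x : Kˣ => ((x : K) ^ 2 * b₀)),
          (Finset.univ.filter fun x : Kˣ => ((x : K) ^ 2 * b₀) = y).card = 2 := by
        intro y hy
        obtain ⟨x, -, rfl⟩ := Finset.mem_image.1 hy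
        have h3 : (Finset.univ.filter fun z : Kˣ => ((z : K) ^ 2 * b₀) = (x : K) ^ 2 * b₀) = {x, -x} := by
          ext z
          rw [Finset.mem_filter, Finset.mem_insert, Finset.mem_singleton]
          constructor
          · rintro ⟨-, h⟩
            have h4 := mul_right_cancel₀ hb₀ h
            rcases sq_eq_sq_iff_eq_or_eq_neg.1 h4 with h5 | h5
            · exact Or.inl (Units.ext h5)
            · exact Or.inr (Units.ext (by rw [h5]; rfl))
          · rintro (rfl | rfl)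
            · exact ⟨Finset.mem_univ _, rfl⟩
            · refine ⟨Finset.mem_univ _, ?_⟩
              rw [Units.val_neg, neg_sq]
        rw [h3, Finset.card_pair]
        intro h4
        have h5 : (x : K) = -(x : K) := by
          have := congrArg Units.val h4
          rwa [Units.val_neg] at this
        have h6 : (2 : K) * x = 0 := by linear_combination h5
        have h7 : (2 : K) = 0 := (mul_eq_zero.1 h6).resolve_right x.ne_zero
        have h8 : ringChar K = 2 := CharP.ringChar_of_prime_eq_zero Nat.prime_two (by exact_mod_cast h7)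
        have h9 := FiniteField.even_card_iff_char_two.1 h8
        rcases hodd with ⟨m, hm⟩
        omega
      rw [← Finset.card_univ, Finset.card_eq_sum_card_image (fun x : Kˣ => ((x : K) ^ 2 * b₀)) Finset.univ,
        Finset.sum_congr rfl h2, Finset.sum_const, smul_eq_mul, mul_comm]
    rw [Fintype.card_units] at h1
    omega
  -- all other weights vanish
  have hzero : ∀ b : K, (∀ x : Kˣ, b ≠ (x : K) ^ 2 * b₀) → E R ψ b = 0 := by
    intro b hb
    have h1 := finrank_eq_sum R hψ hKk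
    rw [hfr] at h1
    have h2 : ∑ c ∈ Finset.univ.image (fun x : Kˣ => ((x : K) ^ 2 * b₀)), finrank k (LinearMap.range (E R ψ c)) = n := by
      rw [Finset.sum_congr rfl (g := fun _ => 1), Finset.sum_const, smul_eq_mul, mul_one, hcardsq]
      intro c hc
      obtain ⟨x, -, rfl⟩ := Finset.mem_image.1 hc
      exact horb x
    have h3 : b ∉ Finset.univ.image (fun x : Kˣ => ((x : K) ^ 2 * b₀)) := by
      intro h
      obtain ⟨x, -, hx⟩ := Finset.mem_image.1 h
      exact hb x hx.symm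
    have h4 : ∑ c ∈ insert b (Finset.univ.image (fun x : Kˣ => ((x : K) ^ 2 * b₀))),
        finrank k (LinearMap.range (E R ψ c)) ≤ ∑ c : K, finrank k (LinearMap.range (E R ψ c)) :=
      Finset.sum_le_sum_of_subset (Finset.subset_univ _)
    rw [Finset.sum_insert h3, h2, ← h1] at h4
    have h5 : finrank k (LinearMap.range (E R ψ b)) = 0 := by omega
    rwa [Submodule.finrank_eq_zero, LinearMap.range_eq_bot] at h5
  -- the fixed space over `k`
  have hrank : ((ρ (t a) : Matrix (Fin n) (Fin n) F) - 1).rank =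
      finrank k (LinearMap.range (R (t a) - 1)) := by
    rw [← H593.RobinsonRank.rank_map (algebraMap F k), Matrix.rank]
    have h1 : Matrix.mulVecLin (((ρ (t a) : Matrix (Fin n) (Fin n) F) - 1).map (algebraMap F k)) = R (t a) - 1 := by
      rw [hRdef, ext_apply]
      have h2 : ((ρ (t a) : Matrix (Fin n) (Fin n) F) - 1).map (algebraMap F k) =
          (ρ (t a) : Matrix (Fin n) (Fin n) F).map (algebraMap F k) - 1 := by
        rw [Matrix.map_sub _ (map_sub _), Matrix.map_one _ (map_zero _) (map_one _)]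
      rw [h2]
      change Matrix.toLin' _ = _
      rw [map_sub, Matrix.toLin'_one]
      rfl
    rw [h1]
  have hker : finrank k (LinearMap.ker (R (t a) - 1)) = 1 := by
    have hmem : ∀ v : Fin n → k, v ∈ LinearMap.ker (R (t a) - 1) ↔ R (t a) v = v := by
      intro v
      rw [LinearMap.mem_ker, LinearMap.sub_apply, Module.End.one_apply, sub_eq_zero]
    have hpow : ∀ (j : ℕ), t (a ^ j) = (t a) ^ j := fun j => map_pow tHom a j
    have hpowfix : ∀ v : Fin n → k, R (t a) v = v → ∀ j : ℕ, R (t (a ^ j)) v = v := by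
      intro v hv j
      rw [hpow, map_pow]
      induction j with
      | zero => simp
      | succ j ih => rw [pow_succ, Module.End.mul_apply, hv, ih]
    -- the map to the weight space
    let f : LinearMap.ker (R (t a) - 1) →ₗ[k] LinearMap.range (E R ψ b₀) :=
      (LinearMap.rangeRestrict (E R ψ b₀)).comp (Submodule.subtype _)
    have hf : ∀ v, (f v : Fin n → k) = E R ψ b₀ v := fun v => rfl
    have hgen : ∀ x : Kˣ, ∃ j : ℕ, x = a ^ j := by
      intro x
      have h1 : x ∈ Subgroup.zpowers a := by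
        have h2 : Subgroup.zpowers a = ⊤ := by
          rw [← Subgroup.card_eq_iff_eq_top, Nat.card_zpowers, ha, Nat.card_eq_fintype_card, Fintype.card_units]
        rw [h2]; trivial
      rw [← mem_powers_iff_mem_zpowers] at h1
      obtain ⟨j, hj⟩ := h1
      exact ⟨j, hj.symm⟩
    have hinj : Function.Injective f := by
      rw [← LinearMap.ker_eq_bot, LinearMap.ker_eq_bot']
      rintro ⟨v, hv⟩ h1
      have h2 : E R ψ b₀ v = 0 := congrArg Subtype.val h1
      have hfix := (hmem v).1 hv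
      have h3 : ∀ b, E R ψ b v = 0 := by
        intro b
        by_cases hb : ∃ x : Kˣ, b = (x : K) ^ 2 * b₀
        · obtain ⟨x, rfl⟩ := hb
          obtain ⟨j, hj⟩ := hgen x⁻¹
          have h4 := congrArg (fun g : Module.End k (Fin n → k) => g v) (t_mul_E R ψ x⁻¹ b₀)
          simp only [Module.End.mul_apply] at h4
          rw [h2, map_zero, hj, hpowfix v hfix, ← hj] at h4
          have h5 : b₀ / ((x⁻¹ : Kˣ) : K) ^ 2 = (x : K) ^ 2 * b₀ := by
            rw [Units.val_inv_eq_inv_val]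
            have := x.ne_zero
            field_simp
          rw [h5] at h4
          exact h4.symm
        · push Not at hb
          rw [hzero b hb, LinearMap.zero_apply]
      apply Subtype.ext
      change v = 0
      have h4 := congrArg (fun g : Module.End k (Fin n → k) => g v) (sum_E R hψ hKk)
      simp only [LinearMap.sum_apply, Module.End.one_apply] at h4
      rw [← h4]
      exact Finset.sum_eq_zero fun b _ => h3 b
    have hR1 : R (t (-1)) = 1 := by
      rw [hRdef, ext_apply, hz, Units.val_one, Matrix.map_one _ (map_zero _) (map_one _), Matrix.toLin'_one]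
      rfl
    have han : a ^ n = -1 := by
      have h1 : (a ^ n) ^ 2 = 1 := by
        rw [← pow_mul, mul_comm, show 2 * n = orderOf a by rw [ha]; omega, pow_orderOf_eq_one]
      have h2 : a ^ n ≠ 1 := by
        intro h
        have := orderOf_dvd_of_pow_eq_one h
        rw [ha] at this
        have := Nat.le_of_dvd (by omega) this
        omega
      have h3 : ((a ^ n : Kˣ) : K) ^ 2 = 1 := by
        rw [← Units.val_pow_eq_pow_val, h1, Units.val_one]
      rcases (mul_self_eq_one_iff.1 (by rw [← sq]; exact h3) : ((a ^ n : Kˣ) : K) = 1 ∨ ((a ^ n : Kˣ) : K) = -1) with h4 | h4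
      · exact absurd (Units.ext h4) h2
      · exact Units.ext (by rw [h4]; rfl)
    have hsurj : Function.Surjective f := by
      rintro ⟨e, he⟩
      have hee : E R ψ b₀ e = e := E_apply_self R hψ hKk ⟨e, he⟩
      let v : Fin n → k := ∑ i ∈ Finset.range n, R (t (a ^ i)) e
      have hv : R (t a) v = v := by
        change R (t a) (∑ i ∈ Finset.range n, R (t (a ^ i)) e) = _
        rw [map_sum]
        have h1 : ∀ i ∈ Finset.range n, R (t a) (R (t (a ^ i)) e) = R (t (a ^ (i + 1))) e := by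
          intro i _
          rw [← Module.End.mul_apply, ← map_mul, ← t_mul, pow_succ']
        rw [Finset.sum_congr rfl h1]
        have h2 := Finset.sum_range_succ (fun i => R (t (a ^ i)) e) n
        have h3 := Finset.sum_range_succ' (fun i => R (t (a ^ i)) e) n
        rw [h2] at h3
        rw [han, hR1, Module.End.one_apply, pow_zero, t_one, map_one, Module.End.one_apply] at h3
        exact (add_right_cancel h3).symm
      refine ⟨⟨v, (hmem v).2 hv⟩, Subtype.ext ?_⟩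
      rw [hf]
      change E R ψ b₀ (∑ i ∈ Finset.range n, R (t (a ^ i)) e) = e
      rw [map_sum, Finset.sum_eq_single 0]
      · rw [pow_zero, t_one, map_one, Module.End.one_apply, hee]
      · intro i hi hi0
        have h1 := congrArg (fun g : Module.End k (Fin n → k) => g e) (t_mul_E R ψ (a ^ i) (((a ^ i : Kˣ) : K) ^ 2 * b₀))
        simp only [Module.End.mul_apply] at h1
        have h2 : (((a ^ i : Kˣ) : K) ^ 2 * b₀) / ((a ^ i : Kˣ) : K) ^ 2 = b₀ := by
          have := (a ^ i).ne_zero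
          field_simp
        rw [h2] at h1
        rw [← h1]
        have h3 : ((a ^ i : Kˣ) : K) ^ 2 * b₀ ≠ b₀ := by
          intro h
          have h4 : ((a ^ i : Kˣ) : K) ^ 2 = 1 := mul_right_cancel₀ hb₀ (by rw [h, one_mul])
          have h5 : a ^ (i * 2) = 1 := by
            apply Units.ext
            rw [pow_mul, Units.val_pow_eq_pow_val, h4, Units.val_one]
          have h6 := orderOf_dvd_of_pow_eq_one h5
          rw [ha] at h6
          have h7 := Nat.le_of_dvd (by omega) h6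
          rw [Finset.mem_range] at hi
          omega
        rw [E_apply_ne R hψ hKk h3 ⟨e, he⟩, map_zero]
      · intro h
        exfalso
        apply h
        rw [Finset.mem_range]
        omega
    rw [(LinearEquiv.ofBijective f ⟨hinj, hsurj⟩).finrank_eq, hone]
  have h1 := LinearMap.finrank_range_add_finrank_ker (R (t a) - 1)
  rw [hker, hfr] at h1
  rw [hrank, h1]

/-- **No invariant quadratic form.** -/
theorem no_quad {P : Subgroup (GL (Fin n) F)} (hC : Core P) (hρP : ρ.range = P) (hρ : ρ ≠ 1)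
    (hspan : Submodule.span F (Set.range fun g => (ρ g : Matrix (Fin n) (Fin n) F)) = ⊤)
    (hodd : Odd (Fintype.card K)) (hK : (Fintype.card K : F) ≠ 0) (hn : 2 * n + 1 = Fintype.card K)
    (heven : Even n) (hn4 : n ≠ 4) (hn0 : n ≠ 0) (hz : ρ (t (-1)) = 1) : ¬ FixQ P := by
  classical
  rintro ⟨Q, hQ, hfix⟩
  obtain ⟨a, ha⟩ := IsCyclic.exists_generator (α := Kˣ)
  have hord : orderOf a = Fintype.card K - 1 := by
    rw [orderOf_eq_card_of_forall_mem_zpowers ha, Nat.card_eq_fintype_card, Fintype.card_units]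
  have h1 := finrank_fix ρ hρ hspan hodd hK hn (by obtain ⟨m, hm⟩ := heven; omega) hz hord
  have h2 := even_rank hC.commutator_top hQ (fun g hg v => hfix _ ⟨g, hg, rfl⟩ v)
    (by rw [Fintype.card_fin]; exact hn4) (g := ρ (t a)) (by rw [← hρP]; exact ⟨_, rfl⟩)
  rw [← h1] at heven
  obtain ⟨x, hx⟩ := h2
  obtain ⟨y, hy⟩ := heven
  omega

end Weil

end Cfsg.Agent.H114.Ty
end

-- part: H114/RtThirteen
section
/-!
# `L₂(13)` is not maximal in `Ω₁₂(7^k)` (overgroup `A₁₄`) (helper114)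
-/

set_option autoImplicit false
set_option linter.unusedSectionVars false

namespace Cfsg.Agent.H114.Rt

open Matrix Module Cfsg Cfsg.Geo Cfsg.Agent.H464.Sl2 Cfsg.Agent.H882.Del Cfsg.Agent.H915.LD
open Cfsg.Agent.LieClassical.OrthCore Cfsg.Agent.LieClassical.OrthTrans Cfsg.Agent.LieClassical.OrthFinite

universe u v

theorem fixesQuadForm_of_le {ι : Type} [Fintype ι] [DecidableEq ι] {F : Type u} [Field F] {Q : (ι → F) → F}
    {H P : Subgroup (GL ι F)} (hH : H ≤ omegaGL Q) (hP : P ≤ H) : FixesQuadForm (matrixSet P) Q := by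
  rintro _ ⟨g, hg, rfl⟩ v
  obtain ⟨g', -, h⟩ := hH (hP hg)
  have := g'.2 v v
  rw [← h]
  exact this

theorem units_sq {K : Type*} [Field K] {ε : Kˣ} (hε : ε ^ 2 = 1) : ε = 1 ∨ ε = -1 := by
  have h1 : (ε : K) * (ε : K) = 1 := by
    have := congrArg (fun z : Kˣ => (z : K)) hε
    rw [← sq]
    simpa only [_root_.sq_eq_one_iff, _root_.Units.val_eq_one, _root_.Units.val_eq_neg_one, _root_.Units.val_pow_eq_pow_val, _root_.Units.val_one] using this
  rcases mul_self_eq_one_iff.1 h1 with h | h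
  · exact Or.inl (Units.ext h)
  · exact Or.inr (Units.ext (by rw [h]; simp))

/-- **`L₂(13)`, degree 12, characteristic 7.** -/
theorem not_thirteen {F : Type u} [Field F] [Finite F] [CharP F 7] {Q : (Fin 12 → F) → F}
    (hQ : IsNondegenerateQuadraticForm Q) {H P : Subgroup (GL (Fin 12) F)} (hH : IsMaximalIn (omegaGL Q) H)
    (hP : IsResidualCore H P) (e : Soc P ≃* ProjectiveSpecialLinearGroup (Fin 2) (ZMod 13)) : False := by
  classical
  have h7 : Fact (Nat.Prime 7) := ⟨by norm_num⟩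
  have hC := core_of_residual hP
  have hfixQ : FixQ P := ⟨Q, hQ, fixesQuadForm_of_le hH.1.le hP.le⟩
  have hcard : Fintype.card (ZMod 13) = 13 := ZMod.card 13
  obtain ⟨ρ, hρ, hρe⟩ := l2_rep hC (by rw [hcard]; norm_num) (by rw [hcard]; norm_num) e
  have hne : ∀ m : ℕ, ¬ 7 ∣ m → (m : F) ≠ 0 := fun m hm h => hm ((CharP.cast_eq_zero_iff F 7 m).1 h)
  have hspan : Submodule.span F (Set.range fun g => (ρ g : Matrix (Fin 12) (Fin 12) F)) = ⊤ := by
    apply span_eq_top
    rw [hρ]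
    exact hC.absIrred
  have hker1 : ∀ g, ρ g ∈ scalars (Fin 12) F → g ∈ Subgroup.center (_root_.Matrix.SpecialLinearGroup (Fin 2) (ZMod 13)) := by
    intro g hg
    have h3 : ρ g ∈ P := by rw [← hρ]; exact ⟨g, rfl⟩
    have h4 := hρe g h3
    have h5 : (QuotientGroup.mk ⟨ρ g, h3⟩ : Soc P) = 1 := by
      rw [QuotientGroup.eq_one_iff, Subgroup.mem_subgroupOf]
      exact hg
    have h6 : toSoc P ⟨ρ g, h3⟩ = 1 := h5
    rw [h6, map_one] at h4
    exact (QuotientGroup.eq_one_iff g).1 h4.symm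
  have hker : ∀ g, ρ g = 1 → ∀ x, g * x = x * g := by
    intro g hg x
    have h3 := hker1 g (by rw [hg]; exact one_mem _)
    exact (Subgroup.mem_center_iff.1 h3 x).symm
  have hbot : (scalars (Fin 12) F).subgroupOf P = ⊥ := by
    by_contra hcon
    exact ((Cfsg.Agent.H830.Sl2Form.l2_type 7 (by norm_num) hC (by rw [hcard]; norm_num) (by rw [hcard]; norm_num)
      (by rw [hcard]; norm_num) e).2 hcon).1 hfixQ
  have hm1 : ρ (t (-1)) = 1 := (Cfsg.Agent.H830.Sl2Form.scalars_bot_iff ρ hρ hC.absIrred hker1).1 hbot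
  have hcen : ∀ ε : (ZMod 13)ˣ, ε ^ 2 = 1 → ρ (t ε) = 1 := by
    intro ε hε
    rcases units_sq hε with h | h
    · rw [h, t_one, map_one]
    · rw [h, hm1]
  -- over the algebraic closure
  let k := AlgebraicClosure F
  have hchk : CharP k 7 := charP_of_injective_algebraMap (algebraMap F k).injective 7
  have hKk : (Fintype.card (ZMod 13) : k) ≠ 0 := by
    rw [hcard]
    intro h
    have := (CharP.cast_eq_zero_iff k 7 13).1 h
    revert this
    norm_num
  have hρ1 : ρ ≠ 1 := by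
    intro h
    have h1 := hker (u 1) (by rw [h]; rfl) (w 1)
    have h2 := congrFun (congrFun (congrArg Subtype.val h1) 0) 0
    revert h2
    decide
  obtain ⟨ψ, hψ⟩ := exists_prim hKk
  have hR : _root_.Cfsg.Agent.H464.Sl2.ext ρ k ≠ 1 := ext_ne_one ρ k hρ1
  have hs := span_ext ρ k hspan
  have hfr : finrank k (Fin 12 → k) = 12 := by rw [finrank_fintype_fun_eq_card, Fintype.card_fin]
  have hdim := dim_cases (_root_.Cfsg.Agent.H464.Sl2.ext ρ k) hψ hKk hs hR
  rw [hfr, hcard] at hdim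
  have h1 : ∀ b : ZMod 13, b ≠ 0 → finrank k (LinearMap.range (_root_.Cfsg.Agent.H464.Sl2.E (_root_.Cfsg.Agent.H464.Sl2.ext ρ k) ψ b)) = 1 := by
    rcases hdim with h | h
    · exact h.1
    · omega
  have h0 : finrank k (LinearMap.range (_root_.Cfsg.Agent.H464.Sl2.E (_root_.Cfsg.Agent.H464.Sl2.ext ρ k) ψ 0)) = 0 := by
    have h4 := finrank_eq (_root_.Cfsg.Agent.H464.Sl2.ext ρ k) hψ hKk
    rw [hfr, Finset.sum_congr rfl fun b hb => h1 b (Finset.ne_of_mem_erase hb), Finset.sum_const,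
      Finset.card_erase_of_mem (Finset.mem_univ _), Finset.card_univ, smul_eq_mul, mul_one, hcard] at h4
    omega
  have hcen' : ∀ ε : (ZMod 13)ˣ, ε ^ 2 = 1 → _root_.Cfsg.Agent.H464.Sl2.ext ρ k (t ε) = 1 := by
    intro ε hε
    rw [ext_apply, hcen ε hε, Units.val_one, Matrix.map_one _ (map_zero _) (map_one _), Matrix.toLin'_one]
    rfl
  have hchi := chi_eq_fix (_root_.Cfsg.Agent.H464.Sl2.ext ρ k) hψ hKk (by decide) (by rw [hcard]; norm_num) hs h1 h0 hcen'
    (chi_nonsplit (_root_.Cfsg.Agent.H464.Sl2.ext ρ k) hfr hcen')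
  have hT : ∀ g, (ρ g : Matrix (Fin 12) (Fin 12) F).trace = (fix g : F) - 2 := by
    intro g
    apply (algebraMap F k).injective
    rw [← trace_ext, map_sub, map_natCast, map_ofNat]
    exact hchi g
  have hE0 : ∑ x : ZMod 13, (ρ (u x) : Matrix (Fin 12) (Fin 12) F) = 0 := by
    have h5 : _root_.Cfsg.Agent.H464.Sl2.E (_root_.Cfsg.Agent.H464.Sl2.ext ρ k) ψ 0 = 0 := by
      rw [Submodule.finrank_eq_zero, LinearMap.range_eq_bot] at h0
      exact h0
    rw [← Ty.E0_ext ρ ψ] at h5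
    have h6 : (Ty.E0 ρ).map (algebraMap F k) = 0 := by
      have := Matrix.toLin'.injective (h5.trans (map_zero _).symm)
      exact this
    have h8 : Ty.E0 ρ = 0 := by
      ext i j
      have h9 := congrFun (congrFun h6 i) j
      rw [Matrix.map_apply] at h9
      apply (algebraMap F k).injective
      rw [h9, Matrix.zero_apply, Matrix.zero_apply, map_zero]
    unfold Ty.E0 at h8
    refine (smul_eq_zero.1 h8).resolve_left (inv_ne_zero ?_)
    rw [hcard]
    exact hne 13 (by norm_num)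
  have hζ : ∃ ζ : (ZMod 13)ˣ, ζ ^ 3 = 1 ∧ ζ ≠ 1 := ⟨⟨3, 9, by decide, by decide⟩, by decide, by decide⟩
  obtain ⟨ζ, hζ3, hζ1⟩ := hζ
  have hiu : ∃ iu : (ZMod 13)ˣ, (iu : ZMod 13) ^ 2 = -1 := ⟨⟨5, 8, by decide, by decide⟩, by decide⟩
  obtain ⟨iu, hi⟩ := hiu
  have hcu : Fintype.card (ZMod 13)ˣ = 12 := by rw [ZMod.card_units_eq_totient]; decide
  refine kill (ρ := ρ) (by decide) (by rw [hcard]; decide) hζ3 hζ1 hT hspan hE0 ?_ hi hcen hker ?_ ?_ ?_ ?_
    (Q := Cfsg.Agent.H887.OmegaBridge.qf Q hQ) (Cfsg.Agent.H887.OmegaBridge.nondeg_qf Q hQ) (H := H) hH ?_ ?_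
  · rw [hcu]
    have := hne 24 (by norm_num)
    push_cast at this ⊢
    norm_num only [_root_.ne_eq] at this ⊢
    exact this
  · rw [hcard]
  · exact_mod_cast hne 3 (by norm_num)
  · rw [hcard]; norm_num
  · rw [hcard]; decide
  · rw [hρ]; exact hP.le
  · rw [hρ]; exact hP.normal

end Cfsg.Agent.H114.Rt
end

-- part: H114/O12/L2
section
/-!
# The rows `L₂(q)` of S5872 and S5875, cross characteristic (helper114)
-/

set_option autoImplicit false
set_option linter.unusedSectionVars false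

namespace Cfsg.Agent.H114.O12

open Cfsg Cfsg.Geo Matrix Cfsg.Agent.H915.LD Cfsg.Agent.H464.Sl2 Cfsg.Agent.H114.Ty

universe u v

variable {F : Type u} [Field F] [Fintype F] {p : ℕ} {Q : (Fin 12 → F) → F} {H P : Subgroup (GL (Fin 12) F)}

theorem Cx.fixρ (h : Cx p Q H P) {G : Type*} [Group G] {ρ : G →* GL (Fin 12) F} (hρ : ρ.range = P) (g : G)
    (v : Fin 12 → F) : Q ((ρ g : Matrix (Fin 12) (Fin 12) F) *ᵥ v) = Q v :=
  H933.O10.fix_of_mem_omegaGL (h.le_omega (by rw [← hρ]; exact ⟨g, rfl⟩)) v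

theorem two_ne (h : Cx p Q H P) (h2 : p ≠ 2) : (2 : F) ≠ 0 := by
  have := h.char
  intro h3
  have h4 : ((2 : ℕ) : F) = 0 := by exact_mod_cast h3
  rw [CharP.cast_eq_zero_iff F p] at h4
  exact h2 ((Nat.prime_dvd_prime_iff_eq h.prime Nat.prime_two).1 h4)

theorem cast_ne (h : Cx p Q H P) {r : ℕ} (hr : r.Prime) (hpr : p ≠ r) : (r : F) ≠ 0 := by
  have := h.char
  intro h4
  rw [CharP.cast_eq_zero_iff F p] at h4
  exact hpr ((Nat.prime_dvd_prime_iff_eq h.prime hr).1 h4)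

theorem mod_ne {r : ℕ} (hp : p.Prime) (hr : r.Prime) (hpr : p ≠ r) : p % r ≠ 0 := fun h =>
  hpr.symm ((Nat.prime_dvd_prime_iff_eq hr hp).1 (Nat.dvd_of_mod_eq_zero h))

/-- **`L₂(11)`.** -/
theorem row_eleven (h : Cx p Q H P) {K : Type} [Field K] [Fintype K] (hK : Fintype.card K = 11)
    (hp11 : p ≠ 11) (e : Soc P ≃* ProjectiveSpecialLinearGroup (Fin 2) K) : Concl Q P p := by
  have hpF := Fact.mk h.prime
  have := h.char
  have hC := h.core
  have he : Nonempty (Soc P ≃* ProjectiveSpecialLinearGroup (Fin 2) (ZMod 11)) :=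
    H912.Five.psl_zmod (by norm_num) ⟨K, inferInstance, inferInstance, hK, ⟨e⟩⟩
  obtain ⟨ρ, hρ, hρ1, hspan⟩ := Ty.setup hC (by omega) (by omega) e
  obtain ⟨hp5, -, hF⟩ := l2_11_12 p hC hK hp11 e (by rw [Fintype.card_fin])
  have hm := mod55 p (mod_ne h.prime (by norm_num) hp11)
  have key : (IsPlusTypeOn Q ⊤ → Fintype.card F = p ∧
      ((p % 5 = 1 ∧ IsSquare (p : ZMod 11)) ∨ (p % 5 = 4 ∧ ¬ IsSquare (p : ZMod 11)))) ∧
      (¬ IsPlusTypeOn Q ⊤ → (Fintype.card F = p ∧
      ((p % 5 = 1 ∧ ¬ IsSquare (p : ZMod 11)) ∨ (p % 5 = 4 ∧ IsSquare (p : ZMod 11)))) ∨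
        (Fintype.card F = p ^ 2 ∧ (p % 5 = 2 ∨ p % 5 = 3))) := by
    by_cases hp2 : p = 2
    · subst hp2
      rcases hF with ⟨-, h1⟩ | ⟨hF, h1⟩
      · omega
      · have h3 := not_plus_eleven ρ hρ1 hspan hK (by rw [hF]; norm_num) h.hQ (h.fixρ hρ)
        exact ⟨fun h4 => absurd h4 h3, fun _ => Or.inr ⟨hF, h1⟩⟩
    · obtain ⟨c, d, hc, hc2, hd, hiff⟩ := plus_iff_plus ρ hρ1 hspan (by rw [hK]; norm_num) (by rw [hK]; decide)
        (by rw [hK]; exact cast_ne h (by norm_num) hp11) (by rw [hK]) (m := 6) (by norm_num) (two_ne h hp2) h.hQ (h.fixρ hρ)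
      rw [hK] at hc hd
      have hd' : algebraMap F (AlgebraicClosure F) d = - (11 * (c - c⁻¹) ^ 2) := by
        rw [hd]
        push_cast
        ring
      rw [hiff]
      rcases hF with ⟨hF, h1⟩ | ⟨hF, h1⟩
      · rcases eleven_prime hp2 hp11 hc hc2 hd' hF with ⟨h3, h4⟩ | ⟨h3, h4⟩ | h3
        · rw [h4]
          exact ⟨fun h5 => ⟨hF, Or.inl ⟨h3, h5⟩⟩, fun h5 => Or.inl ⟨hF, Or.inl ⟨h3, h5⟩⟩⟩
        · rw [h4]
          exact ⟨fun h5 => ⟨hF, Or.inr ⟨h3, h5⟩⟩, fun h5 => Or.inl ⟨hF, Or.inr ⟨h3, not_not.1 h5⟩⟩⟩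
        · (clear * - h1 h3; solve | lia | omega)
      · have h3 := eleven_sq hp2 hp11 hc hc2 hd' hF h1
        exact ⟨fun h4 => absurd h4 h3, fun _ => Or.inr ⟨hF, h1⟩⟩
  obtain ⟨m1, m2, m3, m4⟩ := hm
  refine ⟨fun hplus => Or.inl ⟨he, (key.1 hplus).1, ?_⟩, fun hminus => Or.inl ⟨he, ?_⟩⟩
  · rcases (key.1 hplus).2 with ⟨h1, h2⟩ | ⟨h1, h2⟩
    · have := m1 h1 h2
      (clear * - h1 this; solve | lia | omega)
    · have := m2 h1 h2
      (clear * - h1 this; solve | lia | omega)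
  · rcases key.2 hminus with ⟨hF, ⟨h1, h2⟩ | ⟨h1, h2⟩⟩ | h1
    · refine Or.inl ⟨hF, ?_⟩
      have := m3 h1 h2
      (clear * - this; solve | lia | omega)
    · refine Or.inl ⟨hF, ?_⟩
      have := m4 h1 h2
      (clear * - this; solve | lia | omega)
    · exact Or.inr h1

/-- **`L₂(13)`.** -/
theorem row_thirteen (h : Cx p Q H P) {K : Type} [Field K] [Fintype K] (hK : Fintype.card K = 13)
    (hp13 : p ≠ 13) (e : Soc P ≃* ProjectiveSpecialLinearGroup (Fin 2) K) : Concl Q P p := by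
  have hpF := Fact.mk h.prime
  have := h.char
  have hC := h.core
  have he : Nonempty (Soc P ≃* ProjectiveSpecialLinearGroup (Fin 2) (ZMod 13)) :=
    H912.Five.psl_zmod (by norm_num) ⟨K, inferInstance, inferInstance, hK, ⟨e⟩⟩
  obtain ⟨ρ, hρ, hρ1, hspan⟩ := Ty.setup hC (by omega) (by omega) e
  obtain ⟨-, hF⟩ := l2_13_12 p hC hK hp13 e (by rw [Fintype.card_fin])
  have hp7 : p ≠ 7 := by
    rintro rfl
    obtain ⟨e'⟩ := he
    exact Rt.not_thirteen h.hQ h.hH h.hc e'
  have hF' : (Fintype.card F = p ∧ (p % 7 = 1 ∨ p % 7 = 6)) ∨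
      (Fintype.card F = p ^ 3 ∧ (p % 7 = 2 ∨ p % 7 = 3 ∨ p % 7 = 4 ∨ p % 7 = 5)) := by
    rcases hF with ⟨hF, h1 | h1 | h1⟩ | hF
    · exact Or.inl ⟨hF, Or.inl h1⟩
    · exact Or.inl ⟨hF, Or.inr h1⟩
    · exact absurd h1 hp7
    · exact Or.inr hF
  have hm := mod13 p (mod_ne h.prime (by norm_num) hp13)
  have key : IsPlusTypeOn Q ⊤ ↔ IsSquare (p : ZMod 13) := by
    by_cases hp2 : p = 2
    · subst hp2
      have h3 := not_plus_thirteen ρ hρ1 hspan hK (by
        rcases hF' with ⟨h3, -⟩ | ⟨h3, -⟩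
        · exact Or.inl h3
        · exact Or.inr (by rw [h3]; norm_num)) h.hQ (h.fixρ hρ)
      have h4 : ¬ IsSquare ((2 : ℕ) : ZMod 13) := by decide
      exact ⟨fun h5 => absurd h5 h3, fun h5 => absurd h5 h4⟩
    · rw [plus_iff_minus ρ hρ1 hspan (by rw [hK]; norm_num) (by rw [hK]; decide)
        (by rw [hK]; exact cast_ne h (by norm_num) hp13) (by rw [hK]) (m := 6) (by norm_num) (two_ne h hp2) h.hQ (h.fixρ hρ)
        (by rw [hK]; norm_num), hK]
      have h3 : ((-1 : F)) ^ 6 * ((13 : ℕ) : F) = ((13 : ℕ) : F) := by norm_num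
      rw [h3]
      have h4 : IsSquare ((13 : ℕ) : F) ↔ IsSquare ((13 : ℕ) : ZMod p) := by
        rcases hF' with ⟨h5, -⟩ | ⟨h5, -⟩
        · exact isSquare_natCast_iff (k := 0) h.prime hp2 (by rw [h5]; ring) 13 (cast_ne h (by norm_num) hp13)
        · exact isSquare_natCast_iff (k := 1) h.prime hp2 (by rw [h5]) 13 (cast_ne h (by norm_num) hp13)
      rw [h4]
      exact_mod_cast isSquare_thirteen hp2
  refine ⟨fun hplus => Or.inr (Or.inl ⟨he, ?_⟩), fun hminus => Or.inr (Or.inl ⟨he, ?_⟩)⟩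
  · have h1 := hm.1 (key.1 hplus)
    rcases hF' with ⟨h3, h4⟩ | ⟨h3, h4⟩
    · exact Or.inl ⟨h3, h4, h1⟩
    · exact Or.inr ⟨h3, mod91p p h4 h1⟩
  · have h1 := hm.2 (fun h5 => hminus (key.2 h5))
    rcases hF' with ⟨h3, h4⟩ | ⟨h3, h4⟩
    · exact Or.inl ⟨h3, h4, h1⟩
    · exact Or.inr ⟨h3, mod91m p h4 h1⟩

/-- **`L₂(25)`.** -/
theorem row_twentyfive (h : Cx p Q H P) {K : Type} [Field K] [Fintype K] (hK : Fintype.card K = 25)
    (hp5 : p ≠ 5) (e : Soc P ≃* ProjectiveSpecialLinearGroup (Fin 2) K) : False := by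
  have hpF := Fact.mk h.prime
  have := h.char
  have hC := h.core
  have hpK : ¬ p ∣ Fintype.card K := not_dvd_card p (r := 5) (s := 2) (by norm_num) (by rw [hK]; norm_num) hp5
  obtain ⟨hbot, -, -⟩ := l2_25_12 p hC hK hp5 e (by rw [Fintype.card_fin])
  by_cases hp2 : p = 2
  · have hb := hbot.2 hp2
    obtain ⟨ρ, hρ, hρe⟩ := exists_rep hC.perfect (by omega) (by omega) (by omega) e
    have ht : ρ (t (-1)) = 1 := by
      refine (H830.Sl2Form.scalars_bot_iff ρ hρ hC.absIrred ?_).1 hb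
      intro g hg
      have h3 : ρ g ∈ P := by rw [← hρ]; exact ⟨g, rfl⟩
      have h4 := hρe g h3
      have h5 : (QuotientGroup.mk ⟨ρ g, h3⟩ : Soc P) = 1 := by
        rw [QuotientGroup.eq_one_iff, Subgroup.mem_subgroupOf]
        exact hg
      rw [h5, map_one] at h4
      exact (QuotientGroup.eq_one_iff g).1 h4.symm
    have hρ1 : ρ ≠ 1 := by
      intro h1
      rw [h1] at hρ
      apply hC.nonabelian
      have h3 : Subsingleton P := by
        constructor
        rintro ⟨a, ha⟩ ⟨b, hb⟩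
        rw [← hρ] at ha hb
        obtain ⟨x, rfl⟩ := ha
        obtain ⟨y, rfl⟩ := hb
        rfl
      have h2 : Subsingleton (P ⧸ (scalars (Fin 12) F).subgroupOf P) := by
        constructor
        intro a b
        induction a using QuotientGroup.induction_on with
        | H a =>
          induction b using QuotientGroup.induction_on with
          | H b => rw [Subsingleton.elim a b]
      exact ⟨⟨fun a b => Subsingleton.elim _ _⟩⟩
    exact no_quad ρ hC hρ hρ1 (by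
      apply span_eq_top
      rw [hρ]
      exact hC.absIrred) (by rw [hK]; decide)
      (fun h3 => hpK ((CharP.cast_eq_zero_iff F p _).1 h3)) (by rw [hK]) (by decide) (by norm_num) (by norm_num) ht h.fixQ
  · exact ((H830.Sl2Form.l2_type p hp2 hC (by omega) (by omega) hpK e).2 (fun h3 => hp2 (hbot.1 h3))).1 h.fixQ

/-- **`L₂(q)`, `p ∤ q`.** -/
theorem row_l2 (h : Cx p Q H P) {K : Type} [Field K] [Fintype K] (h5 : 5 ≤ Fintype.card K)
    (h9 : Fintype.card K ≠ 9) (hpK : ¬ p ∣ Fintype.card K) (e : Soc P ≃* ProjectiveSpecialLinearGroup (Fin 2) K) :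
    Concl Q P p := by
  have hpF := Fact.mk h.prime
  have := h.char
  have hC := h.core
  have hd := l2_degrees p hC h5 h9 hpK e (by rw [Fintype.card_fin])
  simp only [Fintype.card_fin] at hd
  rcases hd with ⟨hK, hd⟩ | ⟨hK, hd⟩ | ⟨hK, hd⟩ | ⟨hK, hd⟩ | ⟨hK, hd⟩ | ⟨hK, hd⟩ | ⟨hK, hd⟩ | ⟨hK, hd⟩ | ⟨hK, hd⟩
  · exact absurd hd (by decide)
  · exact absurd hd (by decide)
  · exact absurd hd (by decide)
  · refine row_eleven h hK ?_ e
    rintro rfl
    exact hpK (by rw [hK])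
  · refine row_thirteen h hK ?_ e
    rintro rfl
    exact hpK (by rw [hK])
  · exact absurd hd (by decide)
  · exact absurd hd (by decide)
  · have hp23 : p ≠ 23 := by
      rintro rfl
      exact hpK (by rw [hK])
    exact absurd h.sd (l2_23_12 p hC hK hp23 e (by rw [Fintype.card_fin])).2.1
  · refine (row_twentyfive h hK ?_ e).elim
    rintro rfl
    exact hpK (by rw [hK]; norm_num)

end Cfsg.Agent.H114.O12
end

-- part: H114/O12/Alt
section
/-!
# The rows `A_m`, `m ≥ 8`, of S5872 and S5875 (helper114)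
-/

set_option autoImplicit false
set_option linter.unusedSectionVars false

namespace Cfsg.Agent.H114.O12

open Module Cfsg Cfsg.Geo Matrix Cfsg.Agent.H915.LD Cfsg.Agent.H114.AltNat

universe u v

variable {F : Type u} [Field F] [Fintype F] {p : ℕ} {Q : (Fin 12 → F) → F} {H P : Subgroup (GL (Fin 12) F)}

/-- the module of H964 -/
theorem natM_of {m : ℕ} {φ : P ≃* alternatingGroup (Fin m)} {w : Fin m → Fin m → Fin 12 → F}
    (hw : H964.AltMod.NatM (H964.AltMod.rep φ) w) : NatM (AltNat.rep (th φ.symm)) w where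
  anti := hw.anti
  add := hw.tri
  equiv := fun g i j => by
    have h1 := hw.act g i j
    rw [H964.AltMod.rep_apply] at h1
    exact h1
  span := hw.span
  ne := hw.ne

theorem irr_of (hC : Core P) {m : ℕ} (φ : P ≃* alternatingGroup (Fin m)) (W : Submodule F (Fin 12 → F))
    (hW : ∀ g : alternatingGroup (Fin m), ∀ w ∈ W, AltNat.rep (th φ.symm) g w ∈ W) : W = ⊥ ∨ W = ⊤ := by
  refine H964.AltMod.irr_rep φ hC W fun g w hw => ?_
  have h1 := hW g w hw
  rw [H964.AltMod.rep_apply]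
  exact h1

/-- **`A_m`, `m ≥ 8`.** -/
theorem row_alt (h : Cx p Q H P) {m : ℕ} (hm : 8 ≤ m) (h82 : ¬ (m = 8 ∧ p = 2))
    (e : Soc P ≃* alternatingGroup (Fin m)) : Concl Q P p := by
  have hpF := Fact.mk h.prime
  have := h.char
  have hC := h.core
  have hcard : Fintype.card (Fin 12) = 12 := Fintype.card_fin 12
  rcases H614.AMod.Main.alt_cases hC p e hm (by rw [hcard]) h82 with hN | hN | hN
  · have hd := hN.dim hC hm p
    rw [hcard] at hd
    obtain ⟨φ, -, w, hw⟩ := hN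
    have hF : Fintype.card F = p := H964.AltMod.card_eq hC (by rwa [Fintype.card_fin]) hw p
    have hM := natM_of hw
    have hfix : ∀ g v, Q (AltNat.rep (th φ.symm) g v) = Q v := fun g v =>
      H933.O10.fix_of_mem_omegaGL (h.le_omega (φ.symm g).2) v
    have hspan : Submodule.span F (Set.range fun g => (th φ.symm g : Matrix (Fin 12) (Fin 12) F)) = ⊤ := by
      apply H464.Sl2.span_eq_top
      have hr : (th φ.symm).range = P := by
        ext x
        constructor
        · rintro ⟨g, rfl⟩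
          exact (φ.symm g).2
        · intro hx
          exact ⟨φ ⟨x, hx⟩, by rw [th_apply, MulEquiv.symm_apply_apply]⟩
      rw [hr]
      exact hC.absIrred
    rcases hd with ⟨hpm, hm13⟩ | ⟨hpm, hm14⟩
    · -- `A_13`
      have hm' : m = 13 := by omega
      subst hm'
      have hp13 : p ≠ 13 := fun h3 => hpm (by rw [h3])
      have h13F : ((13 : ℕ) : F) ≠ 0 := cast_ne h (by norm_num) hp13
      have hmod := mod13 p (mod_ne h.prime (by norm_num) hp13)
      have key : IsPlusTypeOn Q ⊤ ↔ IsSquare (p : ZMod 13) := by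
        by_cases hp2 : p = 2
        · subst hp2
          have h4 : ¬ IsSquare ((2 : ℕ) : ZMod 13) := by decide
          refine ⟨fun hplus => absurd ?_ (show ¬ (((2 : ℕ) : ZMod 13) ^ 6 = 1) by decide), fun h5 => absurd h5 h4⟩
          have h13 : Fact (Nat.Prime 13) := ⟨by norm_num⟩
          have h5 := plus_pow (k := 6) (by norm_num) hM h.hQ hplus (fun g v => hfix g v) (by rw [hcard]) (by rw [hcard])
            (by norm_num)
          rwa [hF] at h5
        · have h5 := hM.plusA h.hQ hfix (two_ne h hp2) (by rw [Fintype.card_fin]; norm_num)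
            (by rw [hcard, Fintype.card_fin]) (by rw [Fintype.card_fin]; exact h13F) (k := 6) (by rw [hcard])
          rw [h5, Fintype.card_fin]
          have h3 : ((-1 : F)) ^ 6 * ((13 : ℕ) : F) = ((13 : ℕ) : F) := by norm_num
          rw [h3, Ty.isSquare_natCast_iff (k := 0) h.prime hp2 (by rw [hF]; ring) 13 h13F]
          exact_mod_cast Ty.isSquare_thirteen hp2
      refine ⟨fun hplus => ?_, fun hminus => ?_⟩
      · exact Or.inr (Or.inr (Or.inr (Or.inr ⟨⟨e⟩, hF, hmod.1 (key.1 hplus)⟩)))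
      · refine Or.inr (Or.inr (Or.inr (Or.inl ⟨⟨e⟩, hF, ?_, hmod.2 (fun h5 => hminus (key.2 h5))⟩)))
        rintro rfl
        refine not_maximal_of_dvd (two_ne h (by norm_num)) ?_ (by norm_num) φ.symm hspan hM (by rw [hcard]) h13F ?_
          h.hQ h.hH h.hc.le h.hc.normal
        · have := cast_ne h (r := 3) (by norm_num) (by norm_num)
          exact_mod_cast this
        · have h14 : ((14 : ℕ) : F) = 0 := by
            rw [CharP.cast_eq_zero_iff F 7]
            norm_num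
          have h15 : ((13 : ℕ) : F) + 1 = ((14 : ℕ) : F) := by push_cast; norm_num
          rw [h15, h14]
    · -- `A_14`
      have hm' : m = 14 := by omega
      subst hm'
      have h14F : ((14 : ℕ) : F) = 0 := (CharP.cast_eq_zero_iff F p 14).2 hpm
      have hfr : finrank F (Fin 12 → F) = 12 := by rw [finrank_fintype_fun_eq_card, hcard]
      have h0 : ∀ i0, ∑ j, w j i0 = 0 := by
        rcases hM.cases (by rw [Fintype.card_fin]; norm_num) (irr_of hC φ) (by rw [hfr]; norm_num) with h3 | h3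
        · rw [hfr, Fintype.card_fin] at h3
          omega
        · exact h3.2.2
      have hp27 : p = 2 ∨ p = 7 := by
        have h3 : p ∣ 2 * 7 := hpm
        rcases (Nat.Prime.dvd_mul h.prime).1 h3 with h4 | h4
        · exact Or.inl ((Nat.prime_dvd_prime_iff_eq h.prime Nat.prime_two).1 h4)
        · exact Or.inr ((Nat.prime_dvd_prime_iff_eq h.prime (by norm_num)).1 h4)
      rcases hp27 with rfl | rfl
      · exfalso
        exact no_form (by rw [Fintype.card_fin]; norm_num) hM h.hQ hfix (by rw [hcard, Fintype.card_fin]) 0 (h0 0)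
          (k := 45) (by rw [Fintype.card_fin])
      · have h5 := hM.plusB h.hQ hfix (two_ne h (by norm_num)) (by rw [Fintype.card_fin]; norm_num)
          (by rw [hcard, Fintype.card_fin]) 0 (h0 0) (k := 6) (by rw [hcard])
        rw [hcard] at h5
        have hns : ¬ IsPlusTypeOn Q ⊤ := by
          rw [h5]
          have h3 : ((-1 : F)) ^ 6 * ((12 + 1 : ℕ) : F) = ((13 : ℕ) : F) := by norm_num
          rw [h3, Ty.isSquare_natCast_iff (k := 0) h.prime (by norm_num) (by rw [hF]; ring) 13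
            (cast_ne h (by norm_num) (by norm_num))]
          decide
        exact ⟨fun hplus => absurd hplus hns, fun _ => Or.inr (Or.inr (Or.inr (Or.inr ⟨⟨e⟩, hF⟩)))⟩
  · have := hN.n8
    rw [hcard] at this
    omega
  · have := hN.1
    rw [hcard] at this
    omega

end Cfsg.Agent.H114.O12
end

-- part: H915/L33Omega
section
/-!
# `L₃(3)` in `Ω₁₂(p)` (helper915)
-/

set_option autoImplicit false
set_option linter.unusedSectionVars false

namespace Cfsg.Agent.H915.L33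

open Cfsg Cfsg.Geo Matrix Module Cfsg.Agent.H915.LD
open Cfsg.Agent.ClassicalGeometry.AutPSL.Auto

universe u

/-! ### the stabiliser of a point -/

/-- the stabiliser of the point `⟨e₁⟩` -/
def KG : Subgroup G where
  carrier := {g | g.1 *ᵥ e1 = e1 ∨ g.1 *ᵥ e1 = -e1}
  one_mem' := Or.inl (Matrix.one_mulVec _)
  mul_mem' := by
    intro g h hg hh
    change (g * h).1 *ᵥ e1 = e1 ∨ (g * h).1 *ᵥ e1 = -e1
    rw [mulVec_mul']
    rcases hh with hh | hh
    · rw [hh]; exact hg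
    · rw [hh, Matrix.mulVec_neg]
      rcases hg with hg | hg
      · right; rw [hg]
      · left; rw [hg, neg_neg]
  inv_mem' := by
    intro g hg
    change (g⁻¹).1 *ᵥ e1 = e1 ∨ (g⁻¹).1 *ᵥ e1 = -e1
    have h := inv_mulVec' g e1
    rcases hg with hg | hg
    · left; rwa [hg] at h
    · right
      rw [hg, Matrix.mulVec_neg] at h
      have h2 : (g⁻¹).1 *ᵥ e1 = -(-((g⁻¹).1 *ᵥ e1)) := (neg_neg _).symm
      rw [h2, h]

theorem mem_KG {g : G} : g ∈ KG ↔ g.1 *ᵥ e1 = e1 ∨ g.1 *ᵥ e1 = -e1 := Iff.rfl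

open Classical in
/-- the number of a point -/
noncomputable def idx (x : X) : Fin 13 := if h : x = 0 then 0 else Classical.choose (pt_surj x h)

theorem idx_spec {x : X} (h : x ≠ 0) : x = pt (idx x) ∨ x = -pt (idx x) := by
  unfold idx
  rw [dif_neg h]
  exact Classical.choose_spec (pt_surj x h)

theorem idx_pt (i : Fin 13) : idx (pt i) = i := by
  rcases idx_spec (pt_ne i) with h | h
  · exact (pt_inj _ _ (Or.inl h)).symm
  · exact (pt_inj _ _ (Or.inr h)).symm

theorem idx_key : ∀ x y p q : X, (x = p ∨ x = -p) → (y = q ∨ y = -q) → (x = y ∨ x = -y) → (p = q ∨ p = -q) := by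
  rintro x y p q (rfl | rfl) (rfl | rfl) (h | h)
  · left; exact h
  · right; exact h
  · right; exact h
  · left; rw [h, neg_neg]
  · right; rw [← h, neg_neg]
  · left; exact neg_injective h
  · left; exact neg_injective h
  · right; rw [neg_neg] at h; rw [← h, neg_neg]

theorem idx_eq {x y : X} (hx : x ≠ 0) (hy : y ≠ 0) : idx x = idx y ↔ x = y ∨ x = -y := by
  constructor
  · intro h
    rcases idx_spec hx with h1 | h1 <;> rcases idx_spec hy with h2 | h2
    · left; rw [h1, h2, h]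
    · right; rw [h1, h2, h, neg_neg]
    · right; rw [h1, h2, h]
    · left; rw [h1, h2, h]
  · intro h
    apply pt_inj
    exact idx_key _ _ _ _ (idx_spec hx) (idx_spec hy) h

theorem e1_ne : e1 ≠ 0 := by decide

theorem KG_index : KG.index = 13 := by
  have hrel : ∀ g h : G, (QuotientGroup.leftRel KG) g h ↔ idx (g.1 *ᵥ e1) = idx (h.1 *ᵥ e1) := by
    intro g h
    rw [QuotientGroup.leftRel_apply, idx_eq (mulVec_ne g e1_ne) (mulVec_ne h e1_ne), mem_KG, mulVec_mul']
    constructor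
    · rintro (h1 | h1)
      · left
        have h2 := congrArg (fun z => g.1 *ᵥ z) h1
        simp only [← mulVec_mul', mul_inv_cancel_left] at h2
        exact h2.symm
      · right
        have h2 := congrArg (fun z => g.1 *ᵥ z) h1
        simp only [← mulVec_mul', mul_inv_cancel_left, Matrix.mulVec_neg] at h2
        rw [h2, neg_neg]
    · rintro (h1 | h1)
      · left; rw [← h1, inv_mulVec']
      · right
        have h2 : h.1 *ᵥ e1 = -(g.1 *ᵥ e1) := by rw [h1, neg_neg]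
        rw [h2, Matrix.mulVec_neg, inv_mulVec']
  let f : G ⧸ KG → Fin 13 := Quotient.lift (fun g : G => idx (g.1 *ᵥ e1)) (fun g h hgh => (hrel g h).1 hgh)
  have hf : Function.Bijective f := by
    constructor
    · intro a b
      induction a using Quotient.inductionOn
      induction b using Quotient.inductionOn
      intro h
      exact Quotient.sound ((hrel _ _).2 h)
    · intro i
      obtain ⟨g, hg⟩ := exists_mk (pt i) (pt_ne i)
      refine ⟨Quotient.mk _ g, ?_⟩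
      change idx (g.1 *ᵥ e1) = i
      rw [hg, idx_pt]
  have h : Nat.card (G ⧸ KG) = Nat.card (Fin 13) := Nat.card_congr (Equiv.ofBijective f hf)
  rw [Nat.card_eq_fintype_card (α := Fin 13), Fintype.card_fin] at h
  exact h

theorem KG_dc {g g' : G} (hg : g ∉ KG) (hg' : g' ∉ KG) : ∃ k ∈ KG, ∃ k' ∈ KG, g' = k * g * k' := by
  rw [mem_KG, not_or] at hg hg'
  obtain ⟨k, k1, k2⟩ := two_trans (g.1 *ᵥ e1) (mulVec_ne g e1_ne) hg.1 hg.2
  obtain ⟨k', k1', k2'⟩ := two_trans (g'.1 *ᵥ e1) (mulVec_ne g' e1_ne) hg'.1 hg'.2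
  have hk : k ∈ KG := Or.inl k1
  have hk' : k' ∈ KG := Or.inl k1'
  have h1 : (k' * k⁻¹ * g).1 *ᵥ e1 = g'.1 *ᵥ e1 := by
    rw [mulVec_mul', ← k2, mulVec_mul', inv_mulVec', k2']
  refine ⟨k' * k⁻¹, KG.mul_mem hk' (KG.inv_mem hk), (k' * k⁻¹ * g)⁻¹ * g', ?_, by group⟩
  left
  rw [mulVec_mul', ← h1, inv_mulVec']

/-! ### the order -/

theorem card_G_dvd : Nat.card G ∣ 11232 := by
  have h1 : Nat.card G ∣ Nat.card (GL (Fin 3) (ZMod 3)) := by
    let f : G →* GL (Fin 3) (ZMod 3) := Matrix.SpecialLinearGroup.toGL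
    have hf : Function.Injective f := by
      intro a b h
      apply Subtype.ext
      exact congrArg (fun x : GL (Fin 3) (ZMod 3) => (x : Matrix (Fin 3) (Fin 3) (ZMod 3))) h
    exact Subgroup.card_dvd_of_injective f hf
  have hfact : Fact (Nat.Prime 3) := ⟨Nat.prime_three⟩
  have h2 : Nat.card (GL (Fin 3) (ZMod 3)) = 11232 := by
    rw [Matrix.card_GL_field (𝔽 := ZMod 3) 3, Fin.prod_univ_three]
    simp
  rwa [h2] at h1

theorem not_alt : ¬ Nonempty (G ≃* alternatingGroup (Fin 13)) := by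
  rintro ⟨e⟩
  have h1 := card_G_dvd
  rw [Nat.card_congr e.toEquiv, nat_card_alternatingGroup, Nat.card_eq_fintype_card, Fintype.card_fin] at h1
  have h2 := Nat.le_of_dvd (by norm_num) h1
  norm_num [Nat.factorial] at h2

end Cfsg.Agent.H915.L33
end

-- part: H915/L33OmMain
section
/-!
# `L₃(3)` in `Ω₁₂(p)`, II (helper915)
-/

set_option autoImplicit false
set_option linter.unusedSectionVars false

namespace Cfsg.Agent.H915.L33

open Cfsg Cfsg.Geo Matrix Module Cfsg.Agent.H915.LD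
open Cfsg.Agent.ClassicalGeometry.AutPSL.Auto
open Cfsg.Agent.LieClassical.OrthCore

universe u

theorem Data.thirteen {F : Type*} [Field F] {V : Type*} [AddCommGroup V] [Module F V] [FiniteDimensional F V]
    {ρ : G →* End F V} {w : V} (T : Data ρ w) : (13 : F) ≠ 0 := by
  intro h13
  obtain ⟨f, hf⟩ := T.sys.exists_map (fun _ : Fin 13 => (1 : F)) (by
    rw [Finset.sum_const, Finset.card_univ, Fintype.card_fin, nsmul_eq_mul]
    push_cast
    rw [h13, zero_mul])
  have hg : ∀ g : G, ∀ v : V, f (ρ g v) = f v := by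
    intro g v
    have h1 : f ∘ₗ (ρ g : V →ₗ[F] V) = f := T.ext (fun i => by
      rw [LinearMap.comp_apply, hf]
      change f (ρ g (vv ρ w (pt i))) = 1
      rw [vv_smul ρ w T.hw]
      obtain ⟨j, h | h⟩ := pt_surj _ (mulVec_ne g (pt_ne i))
      · rw [h]; exact hf j
      · rw [h, vv_neg ρ w T.hw]; exact hf j)
    exact LinearMap.congr_fun h1 v
  rcases T.irr (LinearMap.ker f) (fun g v hv => by
    rw [LinearMap.mem_ker] at hv ⊢
    rw [hg, hv]) with h | h
  · have h1 := LinearMap.finrank_range_add_finrank_ker f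
    rw [h, finrank_bot, T.dim] at h1
    have h2 : finrank F (LinearMap.range f) ≤ 1 := by
      have := Submodule.finrank_le (LinearMap.range f)
      rwa [finrank_self] at this
    omega
  · have h1 : T.u 0 ∈ LinearMap.ker f := by rw [h]; trivial
    rw [LinearMap.mem_ker, hf] at h1
    exact one_ne_zero h1

variable {ι : Type} [Fintype ι] [DecidableEq ι] {F : Type u} [Field F] [Fintype F]

theorem exists_graph (h2 : (2 : F) ≠ 0) {Q : QuadraticForm F (ι → F)} (hQ : Nondeg Q) (hι : Fintype.card ι = 12)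
    {H P : Subgroup (GL ι F)} (hH : IsMaximalIn (omegaGL (Q : (ι → F) → F)) H) (hPc : IsResidualCore H P)
    (θ : G ≃* P) {w : ι → F} (T : Data (rep θ) w) (e : Soc P ≃* T33) :
    ∃ h ∈ H, ∀ x : G, h * (θ x : GL ι F) * h⁻¹ = (θ (itr x) : GL ι F) := by
  by_contra hno
  push Not at hno
  have hmain := Cfsg.Agent.H882.Del.mat_main (v0 := w) (K := KG.map θ.toMonoidHom) h2 hQ (by omega) hH hPc
    (by rw [hι]; exact (Subgroup.index_map_equiv KG θ).trans KG_index) T.w0 (by
      rintro _ ⟨g, hg, rfl⟩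
      obtain ⟨h10, h20⟩ := first_col g hg
      exact T.hw g h10 h20) (by
      intro g hg g' hg'
      obtain ⟨g, rfl⟩ := θ.surjective g
      obtain ⟨g', rfl⟩ := θ.surjective g'
      have hm : ∀ x : G, θ x ∈ KG.map θ.toMonoidHom ↔ x ∈ KG := fun x => Subgroup.mem_map_iff_mem θ.injective
      rw [hm] at hg hg'
      obtain ⟨k, hk, k', hk', e⟩ := KG_dc hg hg'
      exact ⟨θ k, (hm k).2 hk, θ k', (hm k').2 hk', by rw [e, map_mul, map_mul]⟩) (by
      intro h hh
      let α : MulAut G := (θ.trans (Cfsg.Agent.H882.Del.cjA h (hPc.normal h hh) (hPc.normal h⁻¹ (inv_mem hh)))).trans θ.symm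
      have hα : ∀ x : G, ((θ (α x) : P) : GL ι F) = h * (θ x : GL ι F) * h⁻¹ := by
        intro x
        change ((θ (θ.symm _) : P) : GL ι F) = _
        rw [MulEquiv.apply_symm_apply]
        rfl
      rcases aut_cases α with ⟨g, hg⟩ | ⟨g, hg⟩
      · have hk : ((θ g : P) : GL ι F)⁻¹ * h ∈ H := H.mul_mem (H.inv_mem (hPc.le (θ g).2)) hh
        have hsc := hPc.centralizer_scalar _ hk (by
          intro x hx
          obtain ⟨y, hy⟩ := θ.surjective ⟨x, hx⟩
          have hy' : ((θ y : P) : GL ι F) = x := by rw [hy]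
          have h3 := hα y
          rw [hg, map_mul, map_mul, map_inv] at h3
          rw [← hy']
          have h4 : ((θ g : P) : GL ι F)⁻¹ * h * (θ y : GL ι F) * (((θ g : P) : GL ι F)⁻¹ * h)⁻¹ * (θ y : GL ι F)⁻¹ = 1 := by
            have h5 : h * (θ y : GL ι F) * h⁻¹ = (θ g : GL ι F) * (θ y : GL ι F) * (θ g : GL ι F)⁻¹ := h3.symm
            calc ((θ g : P) : GL ι F)⁻¹ * h * (θ y : GL ι F) * (((θ g : P) : GL ι F)⁻¹ * h)⁻¹ * (θ y : GL ι F)⁻¹
                = ((θ g : P) : GL ι F)⁻¹ * (h * (θ y : GL ι F) * h⁻¹) * (θ g : GL ι F) * (θ y : GL ι F)⁻¹ := by group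
              _ = 1 := by rw [h5]; group
          rw [h4]
          exact Subgroup.one_mem _)
        obtain ⟨c, hc⟩ := (mem_scalars_iff _).1 hsc
        refine ⟨(θ g : GL ι F), (θ g).2, c, ?_⟩
        have h5 : h = (θ g : GL ι F) * (((θ g : P) : GL ι F)⁻¹ * h) := by group
        conv_lhs => rw [h5]
        rw [Units.val_mul, hc, ← Matrix.mulVec_mulVec, Matrix.smul_mulVec, Matrix.one_mulVec, Matrix.mulVec_smul]
      · exfalso
        have hk : ((θ g : P) : GL ι F)⁻¹ * h ∈ H := H.mul_mem (H.inv_mem (hPc.le (θ g).2)) hh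
        obtain ⟨x, hx⟩ := hno _ hk
        apply hx
        have h3 := hα x
        rw [hg, map_mul, map_mul, map_inv] at h3
        have h5 : h * (θ x : GL ι F) * h⁻¹ = (θ g : GL ι F) * (θ (itr x) : GL ι F) * (θ g : GL ι F)⁻¹ := h3.symm
        calc ((θ g : P) : GL ι F)⁻¹ * h * (θ x : GL ι F) * (((θ g : P) : GL ι F)⁻¹ * h)⁻¹
            = ((θ g : P) : GL ι F)⁻¹ * (h * (θ x : GL ι F) * h⁻¹) * (θ g : GL ι F) := by group
          _ = (θ (itr x) : GL ι F) := by rw [h5]; group) (m := 13) (by rw [hι])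
  obtain ⟨⟨e'⟩, -⟩ := hmain
  exact not_alt ⟨(prE.trans e.symm).trans e'⟩

/-! ### the eigenspaces -/

theorem N_key {F : Type*} [Field F] {l : F} (hl : 3 * (l * l) = 1) :
    13 * ((1 + l) * (7 + 11 * l)) = (1 + 3 * l) ^ 2 * l ^ 2 * (5 + 6 * l) ^ 2 * (5 - 6 * l) := by
  linear_combination (-91 - 234 * l - 291 * l ^ 2 + 198 * l ^ 3 + 972 * l ^ 4 + 648 * l ^ 5) * hl

theorem N_prod {F : Type*} [Field F] {l : F} (hl : 3 * (l * l) = 1) (b : F) : ∏ k, b * N l k =
    (b ^ 3 * 64896 * (1 - l * l) * (1 + 3 * l) * l * (5 + 6 * l)) ^ 2 * (5 - 6 * l) := by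
  have h1 : ∏ k, b * N l k = b ^ 6 * (64896 * 64896) * (1 - l * l) ^ 2 * (13 * ((1 + l) * (7 + 11 * l))) := by
    rw [Fin.prod_univ_six]
    simp only [N, Matrix.cons_val]
    ring
  rw [h1, N_key hl]
  ring

theorem N_ne {F : Type*} [Field F] (n2 : (2 : F) ≠ 0) (n3 : (3 : F) ≠ 0) (n13 : (13 : F) ≠ 0) {l : F}
    (hl : 3 * (l * l) = 1) (k : Fin 6) : N l k ≠ 0 := by
  have n52 : (52 : F) ≠ 0 := by
    have : (52 : F) = 2 * 2 * 13 := by norm_num
    rw [this]; exact mul_ne_zero (mul_ne_zero n2 n2) n13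
  have n104 : (104 : F) ≠ 0 := by
    have : (104 : F) = 2 * 52 := by norm_num
    rw [this]; exact mul_ne_zero n2 n52
  have n312 : (312 : F) ≠ 0 := by
    have : (312 : F) = 3 * 104 := by norm_num
    rw [this]; exact mul_ne_zero n3 n104
  have h1 : (1 + l) ≠ 0 := by
    intro h
    apply n2
    linear_combination (3 - 3 * l) * h + hl
  have h2 : (1 - l) ≠ 0 := by
    intro h
    apply n2
    linear_combination (3 + 3 * l) * h + hl
  have h3 : (-84 - 132 * l) ≠ 0 := by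
    intro h
    have n12 : (12 : F) ≠ 0 := by
      have : (12 : F) = 2 * 2 * 3 := by norm_num
      rw [this]; exact mul_ne_zero (mul_ne_zero n2 n2) n3
    have h4 : (12 : F) * (2 * 13) = 0 := by
      linear_combination (-3 * (7 - 11 * l)) * h + (12 * 121) * hl
    exact (mul_ne_zero n12 (mul_ne_zero n2 n13)) h4
  fin_cases k
  · exact mul_ne_zero (neg_ne_zero.2 n52) h1
  · exact mul_ne_zero (neg_ne_zero.2 n52) h1
  · exact mul_ne_zero (neg_ne_zero.2 n52) h1
  · exact h3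
  · exact mul_ne_zero (neg_ne_zero.2 n104) h2
  · exact mul_ne_zero (neg_ne_zero.2 n312) h2

section main

open Classical in
/-- **the graph automorphism in `Ω`** -/
theorem exists_l (h2 : (2 : F) ≠ 0) {Q : QuadraticForm F (ι → F)} (hQ : Nondeg Q) (hι : Fintype.card ι = 12)
    {H P : Subgroup (GL ι F)} (hH : IsMaximalIn (omegaGL (Q : (ι → F) → F)) H) (hPc : IsResidualCore H P)
    (θ : G ≃* P) {w : ι → F} (T : Data (rep θ) w) (e : Soc P ≃* T33) :
    ∃ l : F, 3 * (l * l) = 1 ∧ IsSquare (5 - 6 * l) := by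
  obtain ⟨h, hh, hgr⟩ := exists_graph h2 hQ hι hH hPc θ T e
  have hle : H ≤ omegaGL (Q : (ι → F) → F) := hH.1.le
  have hiso : ∀ g ∈ H, ∀ v, Q ((g : Matrix ι ι F) *ᵥ v) = Q v := by
    intro g hg v
    obtain ⟨x, -, hx⟩ := hle hg
    have := x.2 v v
    rw [← hx]
    exact this
  have hpol : ∀ g ∈ H, ∀ x y, QuadraticMap.polar Q ((g : Matrix ι ι F) *ᵥ x) ((g : Matrix ι ι F) *ᵥ y) =
      QuadraticMap.polar Q x y := by
    intro g hg x y
    unfold QuadraticMap.polar
    rw [← Matrix.mulVec_add, hiso g hg, hiso g hg, hiso g hg]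
  let B : LinearMap.BilinForm F (ι → F) := QuadraticMap.polarBilin Q
  have hBap : ∀ x y, B x y = QuadraticMap.polar Q x y := fun x y => rfl
  let hE : End F (ι → F) := Matrix.toLin' (h : Matrix ι ι F)
  have hEap : ∀ x, hE x = (h : Matrix ι ι F) *ᵥ x := fun x => Matrix.toLin'_apply _ _
  have hhE : ∀ (g : G) (x : ι → F), hE (rep θ g x) = rep θ ((g⁻¹).transpose) (hE x) := by
    intro g x
    rw [hEap, hEap, rep_apply, rep_apply]
    have h3 := hgr g
    have h4 : h * (θ g : GL ι F) = (θ (itr g) : GL ι F) * h := by rw [← h3]; group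
    rw [Matrix.mulVec_mulVec, Matrix.mulVec_mulVec, ← Units.val_mul, h4]
    rfl
  have hB : ∀ (g : G) (x y : ι → F), B (rep θ g x) (rep θ g y) = B x y := by
    intro g x y
    exact hpol _ (hPc.le (θ g).2) x y
  have hisoE : ∀ x y, B (hE x) (hE y) = B x y := by
    intro x y
    rw [hEap, hEap]
    exact hpol _ hh x y
  have hsym : ∀ x y, B x y = B y x := fun x y => QuadraticMap.polar_comm Q x y
  have hnd : ∀ x, (∀ y, B x y = 0) → x = 0 := fun x hx => hQ x hx
  obtain ⟨b, l, b0, hl, hb, hu, hhh⟩ := T.polar hB hsym hnd hhE hisoE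
  have n3 := T.n3
  have n13 := T.thirteen
  refine ⟨l, hl, ?_⟩
  let g : Cfsg.isometryGroup F (Q : (ι → F) → F) := ⟨h, fun v _ => hiso h hh v⟩
  have hac : ∀ x, Cfsg.Agent.H932.Spinor.ac g x = hE x := by
    intro x
    rw [hEap]
    try rfl
  have hgg : g * g = 1 := by
    apply Subtype.ext
    apply Units.ext
    apply Matrix.toLin'.injective
    apply LinearMap.ext
    intro x
    have h3 := hhh x
    rw [hEap, hEap, Matrix.mulVec_mulVec] at h3
    rw [Matrix.toLin'_apply]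
    change ((h : Matrix ι ι F) * (h : Matrix ι ι F)) *ᵥ x = (Matrix.toLin' (1 : Matrix ι ι F)) x
    rw [h3, Matrix.toLin'_apply, Matrix.one_mulVec]
  have hl' : 3 * (-l * -l) = 1 := by rw [neg_mul_neg]; exact hl
  have hgram : ∀ l' : F, 3 * (l' * l') = 1 →
      Cfsg.Agent.H932.Spinor.gram (⇑Q) (fun k => T.E l' k) = Matrix.diagonal (fun k => b * N l' k) := by
    intro l' hl'
    ext i j
    have h4 := T.B_E hb hl' i j
    rw [Matrix.diagonal_apply]
    exact h4
  have hdet : ∀ l' : F, 3 * (l' * l') = 1 →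
      (Cfsg.Agent.H932.Spinor.gram (⇑Q) (fun k => T.E l' k)).det = ∏ k, b * N l' k := by
    intro l' hl'
    rw [hgram l' hl', Matrix.det_diagonal]
  have hdne : ∀ l' : F, 3 * (l' * l') = 1 →
      (Cfsg.Agent.H932.Spinor.gram (⇑Q) (fun k => T.E l' k)).det ≠ 0 := by
    intro l' hl'
    rw [hdet l' hl', Finset.prod_ne_zero_iff]
    intro k _
    exact mul_ne_zero b0 (N_ne h2 n3 n13 hl' k)
  have hQn : (QuadraticMap.polarBilin Q).Nondegenerate := by
    refine ⟨fun x hx => hQ x hx, fun x hx => hQ x (fun y => ?_)⟩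
    rw [QuadraticMap.polar_comm]
    exact hx y
  have hv : ∀ k, Cfsg.Agent.H932.Spinor.ac g (T.E l k) = - T.E l k := by
    intro k
    rw [hac, T.h_E hu (ε := 1) (one_mul l) (one_mul 1) hl k, neg_smul, one_smul]
  have hv' : ∀ k, Cfsg.Agent.H932.Spinor.ac g (T.E (-l) k) = T.E (-l) k := by
    intro k
    rw [hac, T.h_E hu (ε := -1) (by rw [neg_mul_neg, one_mul]) (by rw [neg_mul_neg, one_mul]) hl' k, neg_neg, one_smul]
  have hfin := Cfsg.Agent.H932.Spinor.finrank_em_le (k := 6) h2 Q g (fun k => T.E (-l) k) hv' (hdne _ hl') (by omega)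
  obtain ⟨-, hsq⟩ := Cfsg.Agent.H932.Spinor.isSquare_of_mem h2 Q hQn (by omega) g (hle hh) hgg (fun k => T.E l k) hv
    (hdne _ hl) hfin
  have hne := hdne l hl
  rw [hdet l hl, N_prod hl] at hsq hne
  obtain ⟨s, hs⟩ := hsq
  have hs0 : (b ^ 3 * 64896 * (1 - l * l) * (1 + 3 * l) * l * (5 + 6 * l)) ≠ 0 := by
    intro h0
    rw [h0] at hne
    apply hne
    ring
  refine ⟨s / (b ^ 3 * 64896 * (1 - l * l) * (1 + 3 * l) * l * (5 + 6 * l)), ?_⟩
  rw [div_mul_div_comm, eq_div_iff (mul_ne_zero hs0 hs0), ← hs]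
  ring

end main

end Cfsg.Agent.H915.L33
end

-- part: H915/L33Trace
section
/-!
# Modules of dimension 12 of `SL₃(3)`: traces, the type of the form (helper915)
-/

set_option autoImplicit false
set_option linter.unusedSectionVars false

namespace Cfsg.Agent.H915.L33

open Cfsg Cfsg.Geo Matrix Module Cfsg.Agent.H915.LD
open Cfsg.Agent.LieClassical.OrthCore

universe u

/-! ### traces of permutations of a vector system -/

section trace

variable {F : Type*} [Field F] {V : Type*} [AddCommGroup V] [Module F V] {κ : Type*} [Fintype κ]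
  {v : κ → V}

/-- **The trace of a permutation of a vector system is the number of fixed points minus one.** -/
theorem trace_sys [DecidableEq κ] [FiniteDimensional F V] (S : Cfsg.Agent.H882.Del.Sys F v)
    (hc : (Fintype.card κ : F) ≠ 0) {f : V →ₗ[F] V} {σ : Equiv.Perm κ} (h : ∀ i, f (v i) = v (σ i)) :
    LinearMap.trace F V f = ((Finset.univ.filter fun i => σ i = i).card : F) - 1 := by
  obtain ⟨c, hc'⟩ : ∃ c : F, c = (Fintype.card κ : F)⁻¹ := ⟨_, rfl⟩
  have hcc : (Fintype.card κ : F) * c = 1 := by rw [hc', mul_inv_cancel₀ hc]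
  have hex : ∀ i : κ, ∃ φ : V →ₗ[F] F, ∀ j, φ (v j) = (if i = j then 1 else 0) - c := by
    intro i
    apply S.exists_map
    rw [Finset.sum_sub_distrib, Finset.sum_ite_eq, if_pos (Finset.mem_univ i), Finset.sum_const, Finset.card_univ,
      nsmul_eq_mul, hcc, sub_self]
  choose φ hφ using hex
  have hid : f = ∑ i, (φ i).smulRight (v (σ i)) := by
    apply S.ext
    intro j
    rw [h, LinearMap.sum_apply]
    have h1 : ∀ i, ((φ i).smulRight (v (σ i))) (v j) = (if i = j then v (σ i) else 0) - c • v (σ i) := by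
      intro i
      rw [LinearMap.smulRight_apply, hφ, sub_smul]
      split_ifs <;> simp
    rw [Finset.sum_congr rfl (fun i _ => h1 i), Finset.sum_sub_distrib, Finset.sum_ite_eq', if_pos (Finset.mem_univ j),
      ← Finset.smul_sum, Equiv.sum_comp σ v, S.sum, smul_zero, sub_zero]
  conv_lhs => rw [hid]
  rw [map_sum]
  have h1 : ∀ i, LinearMap.trace F V ((φ i).smulRight (v (σ i))) = (if σ i = i then 1 else 0) - c := by
    intro i
    rw [LinearMap.trace_smulRight, hφ]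
    simp only [eq_comm]
  rw [Finset.sum_congr rfl (fun i _ => h1 i), Finset.sum_sub_distrib, Finset.sum_const, Finset.card_univ, nsmul_eq_mul, hcc,
    Finset.sum_boole]

theorem card_fixed_inv [DecidableEq κ] (σ : Equiv.Perm κ) : (Finset.univ.filter fun i => σ⁻¹ i = i).card =
    (Finset.univ.filter fun i => σ i = i).card := by
  congr 1
  ext i
  simp only [Finset.mem_filter, Finset.mem_univ, true_and]
  rw [Equiv.Perm.inv_eq_iff_eq]
  exact eq_comm

end trace

section data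

variable {F : Type*} [Field F] {V : Type*} [AddCommGroup V] [Module F V] [FiniteDimensional F V]
variable {ρ : G →* End F V} {w : V} (T : Data ρ w)

include T in
theorem exists_perm (g : G) : ∃ σ : Equiv.Perm (Fin 13), ∀ i, ρ g (T.u i) = T.u (σ i) := by
  have h1 : ∀ i, ρ g (T.u i) = T.u (idx (g.1 *ᵥ pt i)) := by
    intro i
    change ρ g (vv ρ w (pt i)) = vv ρ w (pt (idx (g.1 *ᵥ pt i)))
    rw [vv_smul ρ w T.hw]
    rcases idx_spec (mulVec_ne g (pt_ne i)) with h | h
    · rw [← h]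
    · conv_lhs => rw [h]
      rw [vv_neg ρ w T.hw]
  have hinj : Function.Injective (fun i => idx (g.1 *ᵥ pt i)) := by
    intro i j h
    apply pt_inj
    rcases (idx_eq (mulVec_ne g (pt_ne i)) (mulVec_ne g (pt_ne j))).1 h with h2 | h2
    · left
      have h3 := congrArg (fun z => (g⁻¹).1 *ᵥ z) h2
      simpa only [inv_mulVec'] using h3
    · right
      have h3 := congrArg (fun z => (g⁻¹).1 *ᵥ z) h2
      simpa only [inv_mulVec', Matrix.mulVec_neg] using h3
  exact ⟨Equiv.ofBijective _ (Finite.injective_iff_bijective.1 hinj), h1⟩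

end data

variable {ι : Type} [Fintype ι] [DecidableEq ι] {F : Type u} [Field F] {P : Subgroup (GL ι F)}

theorem tr_eq {θ : G ≃* P} {w : ι → F} (T : Data (rep θ) w) (g : G) : ∃ σ : Equiv.Perm (Fin 13),
    tr ((θ g : P) : GL ι F) = ((Finset.univ.filter fun i => σ i = i).card : F) - 1 ∧
    tr ((θ g⁻¹ : P) : GL ι F) = ((Finset.univ.filter fun i => σ i = i).card : F) - 1 := by
  obtain ⟨σ, hσ⟩ := exists_perm T g
  have hc : (Fintype.card (Fin 13) : F) ≠ 0 := by
    rw [Fintype.card_fin]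
    have := T.thirteen
    exact_mod_cast this
  have htr : ∀ g : G, tr ((θ g : P) : GL ι F) = LinearMap.trace F (ι → F) (rep θ g) := by
    intro g
    unfold tr
    exact (Matrix.trace_toLin'_eq _).symm
  have hσ' : ∀ i, rep θ g⁻¹ (T.u i) = T.u (σ⁻¹ i) := by
    intro i
    have h1 := hσ (σ⁻¹ i)
    rw [show σ (σ⁻¹ i) = i from σ.apply_symm_apply i] at h1
    rw [← h1, inv_ap]
  refine ⟨σ, ?_, ?_⟩
  · rw [htr, trace_sys T.sys hc hσ]
  · rw [htr, trace_sys T.sys hc hσ', card_fixed_inv]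

/-- **Cores of degree 12 with socle `L₃(3)`, characteristic different from 2 and 3** -/
theorem l33_twelve (p : ℕ) [Fact p.Prime] [CharP F p] (hC : Core P) (h2 : (2 : F) ≠ 0) (h3 : (3 : F) ≠ 0)
    (hι : Fintype.card ι = 12) (e : Soc P ≃* T33) : SD P ∧ Fr P p ∧ p ≠ 13 := by
  obtain ⟨θ, w, T⟩ := exists_data hC e h2 h3 hι
  refine ⟨?_, ?_, ?_⟩
  · intro g hg
    obtain ⟨σ, h4, h5⟩ := tr_eq T (θ.symm ⟨g, hg⟩)
    rw [map_inv] at h5
    rw [MulEquiv.apply_symm_apply] at h4 h5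
    change tr g⁻¹ = _ at h5
    rw [h5, ← h4]
  · intro g hg
    obtain ⟨σ, h4, -⟩ := tr_eq T (θ.symm ⟨g, hg⟩)
    rw [MulEquiv.apply_symm_apply] at h4
    change tr g = _ at h4
    rw [h4]
    have h6 : frobenius F p ((((Finset.univ.filter fun i => σ i = i).card : ℕ) : F) - 1) =
        (((Finset.univ.filter fun i => σ i = i).card : ℕ) : F) - 1 := by
      rw [map_sub, map_natCast, map_one]
    rw [frobenius_def] at h6
    exact h6
  · rintro rfl
    apply T.thirteen
    exact_mod_cast CharP.cast_eq_zero F 13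

end Cfsg.Agent.H915.L33
end

-- part: H915/L33Final
section
/-!
# `L₃(3)` in `Ω₁₂(p)`: the final statement (helper915)
-/

set_option autoImplicit false
set_option linter.unusedSectionVars false

namespace Cfsg.Agent.H915.L33

open Cfsg Cfsg.Geo Matrix Module Cfsg.Agent.H915.LD
open Cfsg.Agent.LieClassical.OrthCore

universe u

/-! ### determinant -/

theorem det_JI {F : Type*} [Field F] (b : F) (h13 : (13 : F) ≠ 0) :
    (Matrix.of fun i j : Fin 12 => b * (1 - 13 * if i = j then 1 else 0)).det = 13 * (13 ^ 5 * b ^ 6) ^ 2 := by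
  have h1 : (Matrix.of fun i j : Fin 12 => b * (1 - 13 * if i = j then 1 else 0)) =
      (-13 * b) • ((1 : Matrix (Fin 12) (Fin 12) F) +
        Matrix.replicateCol Unit (fun _ => -(13 : F)⁻¹) * Matrix.replicateRow Unit (fun _ => (1 : F))) := by
    ext i j
    rw [Matrix.of_apply, Matrix.smul_apply, Matrix.add_apply, Matrix.one_apply, smul_eq_mul, Matrix.mul_apply]
    simp only [Finset.univ_unique, Matrix.replicateCol_apply, Matrix.replicateRow_apply, Finset.sum_singleton, mul_one]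
    field_simp
    ring
  rw [h1, Matrix.det_smul, Matrix.det_one_add_replicateCol_mul_replicateRow, Fintype.card_fin]
  simp only [dotProduct, one_mul, Finset.sum_const, Finset.card_univ, Fintype.card_fin, nsmul_eq_mul]
  push_cast
  field_simp
  ring

variable {ι : Type} [Fintype ι] [DecidableEq ι] {F : Type u} [Field F] [Fintype F] {P : Subgroup (GL ι F)}

/-- **the type** -/
theorem type_iff {Q : (ι → F) → F} (hQ : IsNondegenerateQuadraticForm Q) (hι : Fintype.card ι = 12) {θ : G ≃* P}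
    {w : ι → F} (T : Data (rep θ) w) (hfix : FixesQuadForm (matrixSet P) Q) :
    IsPlusTypeOn Q ⊤ ↔ IsSquare (13 : F) := by
  have h2 := T.n2
  have h13 := T.thirteen
  let B := Cfsg.Agent.H922.toBilin hQ.polar_bilinear
  have hBap : ∀ x y, B x y = QuadraticMap.polar Q x y := fun x y => rfl
  have hB : ∀ (g : G) (x y : ι → F), B (rep θ g x) (rep θ g y) = B x y := by
    intro g x y
    have hf := hfix _ ⟨(θ g : GL ι F), (θ g).2, rfl⟩
    rw [hBap, hBap, rep_apply, rep_apply]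
    unfold QuadraticMap.polar
    rw [← Matrix.mulVec_add, hf, hf, hf]
  obtain ⟨b, hb⟩ := T.gram hB
  have b0 : b ≠ 0 := by
    rintro rfl
    have hnd := Cfsg.Agent.H922.toBilin_nondegenerate hQ.polar_bilinear hQ.nondegenerate
    apply T.sys.ne_zero 0
    apply hnd.1
    intro y
    have h1 : B (T.u 0) = 0 := T.ext (fun j => by rw [hb, zero_mul, LinearMap.zero_apply])
    change B (T.u 0) y = 0
    rw [h1, LinearMap.zero_apply]
  -- the basis of the first twelve vectors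
  have hspan : ⊤ ≤ Submodule.span F (Set.range fun i : Fin 12 => T.u i.castSucc) := by
    rw [← T.sys.span, Submodule.span_le]
    rintro _ ⟨i, rfl⟩
    refine Fin.lastCases ?_ (fun j => ?_) i
    · have h1 := T.sys.sum
      rw [Fin.sum_univ_castSucc] at h1
      have h3 : T.u (Fin.last 12) = -∑ j : Fin 12, T.u j.castSucc := by
        rw [eq_neg_iff_add_eq_zero, add_comm]; exact h1
      change T.u (Fin.last 12) ∈ _
      rw [h3]
      exact Submodule.neg_mem _ (Submodule.sum_mem _ fun j _ => Submodule.subset_span ⟨j, rfl⟩)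
    · exact Submodule.subset_span ⟨j, rfl⟩
  let bs : Basis (Fin 12) F (ι → F) := basisOfTopLeSpanOfCardEqFinrank (fun i : Fin 12 => T.u i.castSucc) hspan (by
    rw [Fintype.card_fin, T.dim])
  have hbs : ∀ i, bs i = T.u i.castSucc := fun i => by
    change basisOfTopLeSpanOfCardEqFinrank _ hspan _ i = _
    rw [coe_basisOfTopLeSpanOfCardEqFinrank]
  have hmat : LinearMap.BilinForm.toMatrix bs B = Matrix.of fun i j : Fin 12 => b * (1 - 13 * if i = j then 1 else 0) := by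
    ext i j
    rw [LinearMap.BilinForm.toMatrix_apply, hbs, hbs, hb, Matrix.of_apply]
    simp only [Fin.castSucc_inj]
  have hdet : (LinearMap.BilinForm.toMatrix bs B).det = 13 * (13 ^ 5 * b ^ 6) ^ 2 := by rw [hmat, det_JI b h13]
  have hs0 : (13 ^ 5 * b ^ 6 : F) ≠ 0 := mul_ne_zero (pow_ne_zero _ h13) (pow_ne_zero _ b0)
  constructor
  · intro hp
    obtain ⟨s, hs⟩ := Cfsg.Agent.H925.det_plus hQ hp (m := 6) (by omega) bs
    rw [hdet] at hs
    refine ⟨s / (13 ^ 5 * b ^ 6), ?_⟩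
    rw [div_mul_div_comm, eq_div_iff (mul_ne_zero hs0 hs0)]
    linear_combination hs
  · rintro ⟨r, hr⟩
    refine Cfsg.Agent.H926.plus_of_det hQ h2 (m := 6) (by omega) bs (s := r * (13 ^ 5 * b ^ 6)) ?_
    change (LinearMap.BilinForm.toMatrix bs B).det = _
    rw [hdet, hr]
    ring

/-! ### arithmetic -/

theorem sq_three : ∀ a : ZMod 3, a ≠ 0 → IsSquare a → a = 1 := by decide

theorem one_three : ∀ r : ZMod 3, r ≠ 0 → (((1 : ℤ) : ZMod 3) * r = 1 → r = 1) ∧ (((-1 : ℤ) : ZMod 3) * r = 1 → r = 2) := by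
  decide

theorem two_ne_one_three : ((1 : ℕ) : ZMod 3) ≠ 2 ∧ ((2 : ℕ) : ZMod 3) ≠ 1 ∧ ((1 : ℕ) : ZMod 3) ≠ 0 ∧
    ((2 : ℕ) : ZMod 3) ≠ 0 := by
  decide

theorem qc_three [Fact (Nat.Prime 3)] {a : ZMod 3} (h : 1 = quadraticChar (ZMod 3) a) : a = 1 := by
  by_cases ha : a = 0
  · rw [ha, MulChar.map_zero] at h
    exact absurd h (by norm_num)
  · exact sq_three a ha ((quadraticChar_one_iff_isSquare ha).1 h.symm)

theorem mod_twelve {p : ℕ} [hp : Fact p.Prime] [CharP F p] (hcard : Fintype.card F = p) (h2 : p ≠ 2) (h3 : p ≠ 3)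
    (hs : IsSquare (3 : F)) : p % 12 = 1 ∨ p % 12 = 11 := by
  classical
  have hr : ringChar F = p := ringChar.eq F p ▸ rfl
  have hf3 : Fact (Nat.Prime 3) := ⟨Nat.prime_three⟩
  have n3 : (3 : F) ≠ 0 := by
    intro h
    have h4 : ((3 : ℕ) : F) = 0 := by exact_mod_cast h
    exact h3 ((Nat.prime_dvd_prime_iff_eq hp.out Nat.prime_three).1 ((CharP.cast_eq_zero_iff F p 3).1 h4))
  have h4 := quadraticChar_odd_prime (F := F) (p := 3) (by rw [hr]; exact h2) (by norm_num) (by rw [hr]; exact h3)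
  have h5 : quadraticChar F ((3 : ℕ) : F) = 1 := by
    rw [quadraticChar_one_iff_isSquare]
    · exact_mod_cast hs
    · exact_mod_cast n3
  rw [h5, hcard] at h4
  have h6 : p % 4 = 1 ∨ p % 4 = 3 := by
    have := hp.out.eq_two_or_odd
    (clear * - h2 this; omega)
  have hmod3 : p % 3 = 1 ∨ p % 3 = 2 := by
    have h7 : ¬ 3 ∣ p := fun h => h3 ((Nat.prime_dvd_prime_iff_eq Nat.prime_three hp.out).1 h).symm
    omega
  have hcast : (p : ZMod 3) = ((p % 3 : ℕ) : ZMod 3) := by rw [ZMod.natCast_mod]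
  rcases h6 with h6 | h6
  · rw [ZMod.χ₄_nat_one_mod_four h6] at h4
    have h8 := qc_three h4
    rw [hcast] at h8
    rcases hmod3 with h7 | h7
    · (clear * - h6 h7; (solve | lia | omega))
    · exfalso
      rw [h7] at h8
      exact two_ne_one_three.2.1 ((one_three _ two_ne_one_three.2.2.2).1 h8)
  · rw [ZMod.χ₄_nat_three_mod_four h6] at h4
    have h8 := qc_three h4
    rw [hcast] at h8
    rcases hmod3 with h7 | h7
    · exfalso
      rw [h7] at h8
      exact two_ne_one_three.1 ((one_three _ two_ne_one_three.2.2.1).2 h8)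
    · omega

theorem thirteen_key : ∀ r : Fin 13, r.1 ≠ 0 → (IsSquare ((r.1 : ℕ) : ZMod 13) ↔
    (r.1 = 1 ∨ r.1 = 12 ∨ r.1 = 3 ∨ r.1 = 10 ∨ r.1 = 4 ∨ r.1 = 9)) := by
  decide +kernel

theorem mod_thirteen {p : ℕ} [hp : Fact p.Prime] [CharP F p] (hcard : Fintype.card F = p) (h2 : p ≠ 2) (h13 : p ≠ 13) :
    (IsSquare (13 : F) → (p % 13 = 1 ∨ p % 13 = 12 ∨ p % 13 = 3 ∨ p % 13 = 10 ∨ p % 13 = 4 ∨ p % 13 = 9)) ∧
    (¬ IsSquare (13 : F) → (p % 13 = 2 ∨ p % 13 = 11 ∨ p % 13 = 5 ∨ p % 13 = 8 ∨ p % 13 = 6 ∨ p % 13 = 7)) := by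
  have hr : ringChar F = p := ringChar.eq F p ▸ rfl
  have hpr : Nat.Prime 13 := by norm_num
  have hf : Fact (Nat.Prime 13) := ⟨hpr⟩
  have n13 : ((13 : ℕ) : F) ≠ 0 := by
    intro h
    exact h13 ((Nat.prime_dvd_prime_iff_eq hp.out hpr).1 ((CharP.cast_eq_zero_iff F p 13).1 h))
  have h4 := Cfsg.Agent.H830.Disc.isSquare_star_iff (F := F) (r := 13) (m := 6) (by rw [hr]; exact h2) rfl n13
  have h5 : ((-1) ^ 6 * ((13 : ℕ) : F)) = 13 := by push_cast; ring
  rw [h5, hcard] at h4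
  have h0 : p % 13 ≠ 0 := by
    intro h
    exact h13 ((Nat.prime_dvd_prime_iff_eq hpr hp.out).1 (Nat.dvd_of_mod_eq_zero h)).symm
  have hlt : p % 13 < 13 := Nat.mod_lt _ (by norm_num)
  have hcast : ((p : ℕ) : ZMod 13) = ((p % 13 : ℕ) : ZMod 13) := by rw [ZMod.natCast_mod]
  rw [hcast] at h4
  have h6 := thirteen_key ⟨p % 13, hlt⟩ h0
  simp only at h6
  rw [h4, h6]
  constructor
  · intro h; exact h
  · intro h; (clear * - h0 h; (solve | lia | omega))

/-! ### the rows -/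

section rows

variable {Q : (ι → F) → F} {H : Subgroup (GL ι F)}

/-- common part -/
theorem main (p : ℕ) [hp : Fact p.Prime] [CharP F p] (h2 : (2 : F) ≠ 0) (h3 : (3 : F) ≠ 0)
    (hQ : IsNondegenerateQuadraticForm Q) (hι : Fintype.card ι = 12) (hH : IsMaximalIn (omegaGL Q) H)
    (hPc : IsResidualCore H P) (e : Soc P ≃* T33) :
    Fintype.card F = p ∧ p ≠ 2 ∧ p ≠ 3 ∧ p ≠ 13 ∧ (p % 12 = 1 ∨ p % 12 = 11) ∧
      (∃ r y : F, r * r = 3 ∧ y * y = 5 - 2 * r) ∧ (IsPlusTypeOn Q ⊤ ↔ IsSquare (13 : F)) := by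
  have hC := core_of_residual hPc
  obtain ⟨hsd, hfr, h13⟩ := l33_twelve p hC h2 h3 hι e
  have hcard := hC.card_eq p hfr
  have hp2 : p ≠ 2 := by
    rintro rfl
    apply h2
    exact_mod_cast CharP.cast_eq_zero F 2
  have hp3 : p ≠ 3 := by
    rintro rfl
    apply h3
    exact_mod_cast CharP.cast_eq_zero F 3
  obtain ⟨θ, w, T⟩ := exists_data hC e h2 h3 hι
  have htype := type_iff hQ hι T (by
    rintro _ ⟨g, hg, rfl⟩ v
    obtain ⟨x, -, hx⟩ := hH.1.le (hPc.le hg)
    have := x.2 v v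
    rw [← hx]
    exact this)
  obtain ⟨Q', rfl, hQ'⟩ := Cfsg.Agent.H883.Bridge.exists_quadraticForm hQ
  obtain ⟨l, hl, y, hy⟩ := exists_l h2 hQ' hι hH hPc θ T e
  have hr : (3 * l) * (3 * l) = 3 := by linear_combination 3 * hl
  exact ⟨hcard, hp2, hp3, h13, mod_twelve hcard hp2 hp3 ⟨3 * l, hr.symm⟩, ⟨3 * l, y, hr, by rw [← hy]; ring⟩, htype⟩

/-- **the row of `S5872`** -/
theorem plus_row (p : ℕ) [hp : Fact p.Prime] [CharP F p] (h2 : (2 : F) ≠ 0) (h3 : (3 : F) ≠ 0)
    (hQ : IsNondegenerateQuadraticForm Q) (hplus : IsPlusTypeOn Q ⊤) (hι : Fintype.card ι = 12)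
    (hH : IsMaximalIn (omegaGL Q) H) (hPc : IsResidualCore H P) (e : Soc P ≃* T33) :
    Fintype.card F = p ∧ p ≠ 3 ∧ (p % 13 = 1 ∨ p % 13 = 12 ∨ p % 13 = 3 ∨ p % 13 = 10 ∨ p % 13 = 4 ∨ p % 13 = 9) ∧
      (p % 12 = 1 ∨ p % 12 = 11) ∧ (∃ s : Finset F, s.card = 4 ∧ ∀ x ∈ s, x ^ 4 - 10 * x ^ 2 + 13 = 0) := by
  classical
  obtain ⟨hcard, hp2, hp3, h13, h12, ⟨r, y, hr, hy⟩, htype⟩ := main p h2 h3 hQ hι hH hPc e
  obtain ⟨z, hz⟩ := htype.1 hplus
  have n13 : (13 : F) ≠ 0 := by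
    intro h
    have h4 : ((13 : ℕ) : F) = 0 := by exact_mod_cast h
    exact h13 ((Nat.prime_dvd_prime_iff_eq hp.out (by norm_num)).1 ((CharP.cast_eq_zero_iff F p 13).1 h4))
  refine ⟨hcard, hp3, (mod_thirteen hcard hp2 h13).1 ⟨z, hz⟩, h12, ?_⟩
  have hprod : (5 - 2 * r) * (5 + 2 * r) = 13 := by linear_combination (-4) * hr
  have y0 : y ≠ 0 := by
    rintro rfl
    rw [← hy, mul_zero, zero_mul] at hprod
    exact n13 hprod.symm
  obtain ⟨x, hx⟩ : ∃ x, x = z / y := ⟨_, rfl⟩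
  have hxy : x * y = z := by rw [hx, div_mul_cancel₀ _ y0]
  have hx2 : x * x = 5 + 2 * r := by
    have h5 : (y * y) * (x * x - (5 + 2 * r)) = 0 := by
      have : (y * y) * (x * x) = 13 := by rw [hz, ← hxy]; ring
      rw [mul_sub, this, hy, hprod, sub_self]
    exact sub_eq_zero.1 ((mul_eq_zero.1 h5).resolve_left (mul_ne_zero y0 y0))
  have x0 : x ≠ 0 := by
    rintro rfl
    rw [← hx2, mul_zero, mul_zero] at hprod
    exact n13 hprod.symm
  have r0 : r ≠ 0 := by
    rintro rfl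
    apply h3
    rw [← hr, mul_zero]
  have hne : x * x ≠ y * y := by
    rw [hx2, hy]
    intro h
    have h6 : (2 * 2) * r = 0 := by linear_combination h
    exact (mul_ne_zero (mul_ne_zero h2 h2) r0) h6
  have d1 : y ≠ -y := by
    intro h
    have h6 : 2 * y = 0 := by linear_combination h
    exact (mul_ne_zero h2 y0) h6
  have d2 : x ≠ -x := by
    intro h
    have h6 : 2 * x = 0 := by linear_combination h
    exact (mul_ne_zero h2 x0) h6
  have d3 : y ≠ x := by rintro rfl; exact hne rfl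
  have d4 : y ≠ -x := by rintro rfl; exact hne (by ring)
  have d5 : -y ≠ x := by rintro rfl; exact hne (by ring)
  have d6 : -y ≠ -x := fun h => d3 (neg_injective h)
  refine ⟨{y, -y, x, -x}, ?_, ?_⟩
  · rw [Finset.card_insert_of_notMem, Finset.card_insert_of_notMem, Finset.card_insert_of_notMem, Finset.card_singleton]
    · simpa using d2
    · simp only [Finset.mem_insert, Finset.mem_singleton, not_or]
      exact ⟨d5, d6⟩
    · simp only [Finset.mem_insert, Finset.mem_singleton, not_or]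
      exact ⟨d1, d3, d4⟩
  · have k1 : y ^ 4 - 10 * y ^ 2 + 13 = 0 := by
      linear_combination (y * y + (5 - 2 * r) - 10) * hy + 4 * hr
    have k2 : x ^ 4 - 10 * x ^ 2 + 13 = 0 := by
      linear_combination (x * x + (5 + 2 * r) - 10) * hx2 + 4 * hr
    intro t ht
    simp only [Finset.mem_insert, Finset.mem_singleton] at ht
    rcases ht with rfl | rfl | rfl | rfl
    · exact k1
    · rw [← k1]; ring
    · exact k2
    · rw [← k2]; ring

/-- **the row of `S5875`** -/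
theorem minus_row (p : ℕ) [hp : Fact p.Prime] [CharP F p] (h2 : (2 : F) ≠ 0) (h3 : (3 : F) ≠ 0)
    (hQ : IsNondegenerateQuadraticForm Q) (hminus : ¬ IsPlusTypeOn Q ⊤) (hι : Fintype.card ι = 12)
    (hH : IsMaximalIn (omegaGL Q) H) (hPc : IsResidualCore H P) (e : Soc P ≃* T33) :
    Fintype.card F = p ∧ (p % 13 = 2 ∨ p % 13 = 11 ∨ p % 13 = 5 ∨ p % 13 = 8 ∨ p % 13 = 6 ∨ p % 13 = 7) ∧
      (p % 12 = 1 ∨ p % 12 = 11 ∨ p % 12 = 2) := by
  obtain ⟨hcard, hp2, hp3, h13, h12, -, htype⟩ := main p h2 h3 hQ hι hH hPc e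
  refine ⟨hcard, (mod_thirteen hcard hp2 h13).2 (fun h => hminus (htype.2 h)), ?_⟩
  omega

end rows

end Cfsg.Agent.H915.L33
end

-- part: H114/O12/Rows
section
/-!
# S5872 and S5875: the rows of groups of Lie type and of degree at most 6 (helper114)
-/

set_option autoImplicit false
set_option linter.unusedSectionVars false

namespace Cfsg.Agent.H114.O12

open Cfsg Cfsg.Geo Matrix Cfsg.Agent.H915.LD Cfsg.Agent.H912.Bd

universe u v

variable {F : Type u} [Field F] [Fintype F] {p : ℕ} {Q : (Fin 12 → F) → F} {H P : Subgroup (GL (Fin 12) F)}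

theorem c12 : Fintype.card (Fin 12) ≤ 12 := by rw [Fintype.card_fin]

/-- odd primes do not divide the number of scalars in `P` -/
theorem not_dvd_scalars (h : Cx p Q H P) {r : ℕ} (hr : r.Prime) (h2 : r ≠ 2) :
    ¬ r ∣ Nat.card ((scalars (Fin 12) F).subgroupOf P) := by
  intro hd
  have := Fact.mk hr
  obtain ⟨z, hz⟩ := exists_prime_orderOf_dvd_card' r hd
  have h1 : z ^ 2 = 1 := by
    apply Subtype.ext
    apply Subtype.ext
    apply Units.ext
    have h3 : (((z : P) : GL (Fin 12) F)) ∈ scalars (Fin 12) F := Subgroup.mem_subgroupOf.1 z.2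
    rw [sq]
    change (((z : P) : GL (Fin 12) F) : Matrix (Fin 12) (Fin 12) F) * (((z : P) : GL (Fin 12) F)) = 1
    rcases h.scalar_pm (z : P).2 h3 with h4 | h4
    · rw [h4, one_mul]
    · rw [h4, neg_mul_neg, one_mul]
  have h3 := orderOf_dvd_of_pow_eq_one h1
  rw [hz, Nat.prime_dvd_prime_iff_eq hr Nat.prime_two] at h3
  exact h2 h3

theorem row_a5 (h : Cx p Q H P) (hp : p ≠ 5) (e : Nonempty (Soc P ≃* alternatingGroup (Fin 5))) : False := by
  obtain ⟨e⟩ := e
  have := Fact.mk h.prime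
  have := h.char
  have h1 := H937.T2.a5_dims p h.core e hp
  rw [Fintype.card_fin] at h1
  exact absurd h1 (by decide)

theorem row_a6 (h : Cx p Q H P) (hp : p ≠ 3) (e : Nonempty (Soc P ≃* alternatingGroup (Fin 6))) : False := by
  obtain ⟨e⟩ := e
  have := Fact.mk h.prime
  have := h.char
  have h1 := H937.T2.a6_dims p h.core e (not_dvd_scalars h Nat.prime_three (by norm_num)) hp
  rw [Fintype.card_fin] at h1
  exact absurd h1 (by decide)

theorem row_l33 (h : Cx p Q H P) (hp3 : p ≠ 3) (hT : IsL 3 3 (Soc P)) : Concl Q P p := by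
  obtain ⟨K, i1, i2, hK, ⟨e⟩⟩ := hT
  have := Fact.mk h.prime
  have := h.char
  have : Fact (Nat.Prime 3) := ⟨Nat.prime_three⟩
  obtain ⟨e'⟩ := H363.PslCard.psl_of_card (n := Fin 3) (F := K) (F' := ZMod 3) (by rw [hK, ZMod.card])
  have hne : Nonempty (Soc P ≃* ProjectiveSpecialLinearGroup (Fin 3) (ZMod 3)) := ⟨e.trans e'⟩
  by_cases hp2 : p = 2
  · subst hp2
    obtain ⟨hF, -, -, -, -, hQ⟩ := H907.L33.two_main h.core hK e (by rw [Fintype.card_fin])
    refine ⟨fun hP => absurd hP (hQ Q h.hQ h.fixes), fun _ => Or.inr (Or.inr (Or.inl ⟨hne, hF, ?_, ?_⟩))⟩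
    · norm_num
    · norm_num
  · have h2 := two_ne h hp2
    have h3 : (3 : F) ≠ 0 := by exact_mod_cast cast_ne h Nat.prime_three hp3
    refine ⟨fun hP => Or.inr (Or.inr (Or.inl ⟨hne, ?_⟩)), fun hP => Or.inr (Or.inr (Or.inl ⟨hne, ?_⟩))⟩
    · exact H915.L33.plus_row p h2 h3 h.hQ hP (by rw [Fintype.card_fin]) h.hH h.hc (e.trans e')
    · exact H915.L33.minus_row p h2 h3 h.hQ hP (by rw [Fintype.card_fin]) h.hH h.hc (e.trans e')

theorem row_u33 (h : Cx p Q H P) (hp3 : p ≠ 3) (hT : IsU 3 3 (Soc P)) : False := by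
  obtain ⟨K, i1, i2, hK, he⟩ := hT
  have := Fact.mk h.prime
  have := h.char
  have h1 := H936.U33All.u33_degree h.core p hp3 c12 (K := K) (by rw [hK]; norm_num) he
  rw [Fintype.card_fin] at h1
  omega

theorem row_u34 (h : Cx p Q H P) (hp2 : p ≠ 2) (hT : IsU 3 4 (Soc P)) : False := by
  have := Fact.mk h.prime
  have := h.char
  exact (H881.U34.main p hp2 h.core c12 hT).2.2.2.2.2 h.fixQ

theorem row_u42 (h : Cx p Q H P) (hp2 : p ≠ 2) (hp3 : p ≠ 3) (hT : IsU 4 2 (Soc P)) : False := by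
  obtain ⟨K, i1, i2, hK, ⟨e⟩⟩ := hT
  have := Fact.mk h.prime
  have := h.char
  have h1 := H659.Sp4.sd_six' h.core p hp2 hp3 c12 (k := K) (by rw [hK]; norm_num) e h.sd
  rw [Fintype.card_fin] at h1
  omega

theorem row_u52 (h : Cx p Q H P) (hp2 : p ≠ 2) (hT : IsU 5 2 (Soc P)) : False := by
  obtain ⟨K, i1, i2, hK, ⟨e⟩⟩ := hT
  have := Fact.mk h.prime
  have := h.char
  exact H925.U52.not_fixQ h.core p hp2 (by norm_num) (F₄ := K) (by rw [hK]; norm_num) e h.fixQ

theorem row_s45 (h : Cx p Q H P) (hp5 : p ≠ 5) (hT : IsS 2 5 (Soc P)) : False := by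
  have := Fact.mk h.prime
  have := h.char
  exact H434.PSp45.not_fixQ p h.core hT hp5 (by rw [Fintype.card_fin]) h.fixQ

theorem row_s62 (h : Cx p Q H P) (hp2 : p ≠ 2) (hT : IsS 3 2 (Soc P)) : False := by
  obtain ⟨K, i1, i2, hK, ⟨e⟩⟩ := hT
  have := Fact.mk h.prime
  have := h.char
  have h1 := (H916.T8.sp hK h.core p e (two_ne h hp2) (by rw [Fintype.card_fin]; norm_num)).1
  rw [Fintype.card_fin] at h1
  omega

theorem row_o82 (h : Cx p Q H P) (hp2 : p ≠ 2) (hT : IsOP 4 2 (Soc P)) : False := by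
  obtain ⟨K, i1, i2, hK, ⟨e⟩⟩ := hT
  have := Fact.mk h.prime
  have := h.char
  have h1 := (H916.T8.om hK h.core p e (two_ne h hp2) (by rw [Fintype.card_fin]; norm_num)).1
  rw [Fintype.card_fin] at h1
  omega

theorem row_l34 (h : Cx p Q H P) (hp2 : p ≠ 2) (hT : IsL 3 4 (Soc P)) : False := by
  obtain ⟨K, i1, i2, hK, ⟨e⟩⟩ := hT
  have := Fact.mk h.prime
  have := h.char
  exact not_dvd_scalars h Nat.prime_three (by norm_num)
    (H906.T12.l34_twelve p h.core hp2 hK (by rw [Fintype.card_fin]) e).2.1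

theorem row_u43 (h : Cx p Q H P) (hp3 : p ≠ 3) (hT : IsU 4 3 (Soc P)) : False := by
  obtain ⟨K, i1, i2, hK, ⟨e⟩⟩ := hT
  have := Fact.mk h.prime
  have := h.char
  have h1 := (H918.U43.u43_core h.core p hp3 (K := K) (by rw [hK]; norm_num) e c12).1
  rw [Fintype.card_fin] at h1
  omega

theorem row_sz (h : Cx p Q H P) (hp2 : p ≠ 2) (hT : IsSz8 (Soc P)) : False := by
  have h1 := (H814.Sz8.core_sz8 h.core (two_ne h hp2) c12 hT).1
  rw [Fintype.card_fin] at h1
  omega

theorem row_m12 (h : Cx p Q H P) (hT : Spor.IsoM12 (Soc P)) : Concl Q P p := by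
  obtain ⟨e⟩ := hT
  have := Fact.mk h.prime
  have := h.char
  obtain ⟨h1, h2, h3⟩ := H932.Mt.m12_final p h.hQ h.hH h.hc e
  exact ⟨fun _ => Or.inr (Or.inr (Or.inr (Or.inl ⟨⟨e⟩, h2, h3⟩))), fun hP => absurd h1 hP⟩

end Cfsg.Agent.H114.O12
end

-- part: H114/O12/Cross
section
/-!
# S5872 and S5875: cross characteristic (helper114)
-/

set_option autoImplicit false
set_option linter.unusedSectionVars false

namespace Cfsg.Agent.H114.O12

open Cfsg Cfsg.Geo Matrix Cfsg.Agent.H915.LD Cfsg.Agent.H912.Bd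
open Cfsg.Agent.H936.List12 (AltC LieC MultD SporC CandD)

universe u v

variable {F : Type u} [Field F] [Fintype F] {p : ℕ} {Q : (Fin 12 → F) → F} {H P : Subgroup (GL (Fin 12) F)}

theorem row_g24 (h : Cx p Q H P) (hp2 : p ≠ 2) (hT : H912.Bd.IsG2 4 (Soc P)) : False := by
  have := Fact.mk h.prime
  have := h.char
  exact (H937.G24.row h.core hT p hp2 c12).2.2.2.2 h.fixQ

/-- the alternating groups -/
theorem cross_alt (h : Cx p Q H P) (hc : AltC p 12 (Soc P)) (hL : ¬ IsLieTypeChar p (Soc P))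
    (r7 : Nonempty (Soc P ≃* alternatingGroup (Fin 7)) → False) : Concl Q P p := by
  obtain ⟨m, h5, h14, -, -, -, he⟩ := hc
  rcases (show m = 5 ∨ m = 6 ∨ m = 7 ∨ 8 ≤ m by omega) with rfl | rfl | rfl | h8
  · by_cases hp5 : p = 5
    · exfalso
      apply hL
      subst hp5
      obtain ⟨e⟩ := he
      have : Fact (Nat.Prime 5) := ⟨by norm_num⟩
      obtain ⟨e'⟩ := S0253.result (F := ZMod 5) (by simp)
      exact H936.List12.lie_of_isL (m := 2) (q := 5) (by norm_num) dvd_rfl le_rfl (fun _ => by norm_num)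
        ⟨ZMod 5, inferInstance, inferInstance, by simp, ⟨e.trans e'.symm⟩⟩
    · exact (row_a5 h hp5 he).elim
  · by_cases hp3 : p = 3
    · exfalso
      apply hL
      subst hp3
      obtain ⟨e⟩ := he
      obtain ⟨K, i1, i2, hK, -, he'⟩ := H937.T2.exists_nine e
      exact H936.List12.lie_of_isL (m := 2) (q := 9) (by norm_num) (by norm_num) le_rfl (fun _ => by norm_num)
        ⟨K, i1, i2, hK, he'⟩
    · exact (row_a6 h hp3 he).elim
  · exact (r7 he).elim
  · obtain ⟨e⟩ := he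
    have h82 : ¬ (m = 8 ∧ p = 2) := by
      rintro ⟨rfl, rfl⟩
      apply hL
      obtain ⟨e'⟩ := S0256.result (F := ZMod 2) (by simp)
      exact H936.List12.lie_of_isL (m := 4) (q := 2) (by norm_num) dvd_rfl (by norm_num) (by norm_num)
        ⟨ZMod 2, inferInstance, inferInstance, by simp, ⟨e.trans e'.symm⟩⟩
    exact row_alt h h8 h82 e

/-- `L₂(q)` -/
theorem cross_l2 (h : Cx p Q H P) {q : ℕ} (hq : q ∈ ({7, 8, 11, 13, 17, 19, 23, 25} : Finset ℕ)) (hpq : ¬ p ∣ q)
    (hT : IsL 2 q (Soc P)) : Concl Q P p := by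
  obtain ⟨K, iF, iT, hK, ⟨e⟩⟩ := hT
  have hq5 : 5 ≤ q ∧ q ≠ 9 := by
    simp only [Finset.mem_insert, Finset.mem_singleton] at hq
    omega
  exact row_l2 h (by omega) (by omega) (by rwa [hK]) e

/-- **Cross characteristic.** -/
theorem cross (h : Cx p Q H P) (hc : CandD p 12 (Soc P)) (hL : ¬ IsLieTypeChar p (Soc P))
    (r7 : Nonempty (Soc P ≃* alternatingGroup (Fin 7)) → False)
    (rm22 : p ≠ 2 → Spor.IsoM22 (Soc P) → False) : Concl Q P p := by
  have := Fact.mk h.prime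
  have := h.char
  rcases hc with hc | hc | hc | ⟨hp2, -, hT⟩ | hc
  · exact cross_alt h hc hL r7
  · rcases hc with ⟨q, hq, hpq, -, hT⟩ | ⟨hp, -, hT⟩ | ⟨hp, -, hT⟩ | ⟨hp, -, hT⟩ | ⟨hp2, hp3, -, hT⟩ | ⟨hp, -, hT⟩ |
      ⟨hp, -, hT⟩ | ⟨hp, -, hT⟩ | ⟨hp, -, hT⟩
    · exact cross_l2 h hq hpq hT
    · exact row_l33 h hp hT
    · exact (row_u33 h hp hT).elim
    · exact (row_u34 h hp hT).elim
    · exact (row_u42 h hp2 hp3 hT).elim
    · exact (row_u52 h hp hT).elim
    · exact (row_s45 h hp hT).elim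
    · exact (row_s62 h hp hT).elim
    · exact (row_o82 h hp hT).elim
  · rcases hc with ⟨hp, -, hT | hT | ⟨hp3, hT⟩ | hT | hT | hT⟩ | ⟨hp, -, hT⟩
    · refine cross_l2 h (q := 7) (by decide) ?_ hT
      intro h7
      exact hL (H936.List12.lie_of_isL (m := 2) (q := 7) h.prime h7 le_rfl (fun _ => by norm_num) hT)
    · exact (row_l34 h hp hT).elim
    · exact (row_u42 h hp hp3 hT).elim
    · exact (row_s62 h hp hT).elim
    · exact (row_o82 h hp hT).elim
    · exact (row_g24 h hp hT).elim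
    · exact (row_u43 h hp hT).elim
  · exact (row_sz h hp2 hT).elim
  · rcases hc with hT | hT | hT | hT | hT | hT | hT | hT | hT
    · exact (MEl.m11_twelve h.core p hT (by rw [Fintype.card_fin])).elim
    · exact row_m12 h hT
    · by_cases hp2 : p = 2
      · exfalso
        subst hp2
        obtain ⟨e⟩ := hT
        have h1 := (H921.M22.six_of_sd e h.core c12 h.sd).1
        rw [Fintype.card_fin] at h1
        omega
      · exact (rm22 hp2 hT).elim
    · obtain ⟨e⟩ := hT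
      have h1 := (H4.LDM.Stage.m23_low h.core e p c12).2.1
      rw [Fintype.card_fin] at h1
      omega
    · obtain ⟨e⟩ := hT
      have h1 := (H4.LDM.Stage.m24_low h.core e p c12).2.1
      rw [Fintype.card_fin] at h1
      omega
    · exfalso
      by_cases hp11 : p = 11
      · subst hp11
        have h0 : (11 : F) = 0 := by exact_mod_cast CharP.cast_eq_zero F 11
        have h1 := H179.JOne.j1_le12_iso h.core hT h0 c12
        rw [Fintype.card_fin] at h1
        omega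
      · exact H659.J1.not_core h.core hT p hp11 c12
    · exact (H905.JD.J2_twelve_all h.core hT (by rw [Fintype.card_fin])).elim
    · have h1 := (H95.JT.j3 p h.core hT c12).2.1
      rw [Fintype.card_fin] at h1
      omega
    · exfalso
      obtain ⟨e⟩ := hT
      by_cases hp3 : p = 3
      · subst hp3
        exact (H878.Sz.core_Suz_three h.core e c12).2.2.2.2.2 h.fixQ
      · exact H878.Sz.core_Suz_not_sd h.core e c12 p hp3 h.sd

end Cfsg.Agent.H114.O12
end
end

-- part: H114/O12/Final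
section
prune_inst 0x42440000049c0020000000090230000400a0000020040080000a0080404c8a44800020800a010001018a0040400300008000000200000000000000000011900800000000000000008c20088000000000000000000000000000000000000000000000000000
set_option linter.all false
open scoped Cfsg.Agent.FastGrp

-- part: H935/A7Q/Lin
section
/-!
# Linear algebra for the quadratic-form case of `2.A₇` in dimension twelve (helper935)

* `even_of_skew` : a subspace with a non-degenerate skew form has even dimension;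
* `decomp` : eigenspace decomposition of an invariant subspace killed by a product of distinct linear factors;
* `perp_of` : a form-preserving operator pairs `E μ` with `E μ⁻¹`.
-/

set_option autoImplicit false
set_option linter.unusedSectionVars false

namespace Cfsg.Agent.H935.A7Q

open Module Polynomial

variable {K V : Type*} [Field K] [AddCommGroup V] [Module K V]

/-- the eigenspace, as a submodule -/
def Eg (T : V →ₗ[K] V) (μ : K) : Submodule K V := LinearMap.ker (T - μ • LinearMap.id)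

theorem mem_Eg {T : V →ₗ[K] V} {μ : K} {v : V} : v ∈ Eg T μ ↔ T v = μ • v := by
  unfold Eg
  rw [LinearMap.mem_ker, LinearMap.sub_apply, LinearMap.smul_apply, LinearMap.id_apply, sub_eq_zero]

theorem finrank_le_map [FiniteDimensional K V] {U U' : Submodule K V} (f : V →ₗ[K] V) (hf : ∀ v ∈ U, f v = 0 → v = 0)
    (h : ∀ v ∈ U, f v ∈ U') : finrank K U ≤ finrank K U' := by
  refine LinearMap.finrank_le_finrank_of_injective (f := f.restrict h) ?_
  rw [← LinearMap.ker_eq_bot, LinearMap.ker_eq_bot']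
  rintro ⟨v, hv⟩ h0
  have h1 : f v = 0 := congrArg Subtype.val h0
  exact Subtype.ext (hf v hv h1)

/-- a subspace with a non-degenerate skew form has even dimension -/
theorem even_of_skew [FiniteDimensional K V] (h2 : (2 : K) ≠ 0) (U : Submodule K V) (f : V →ₗ[K] V →ₗ[K] K)
    (hs : ∀ v ∈ U, ∀ w ∈ U, f v w = -f w v) (hn : ∀ v ∈ U, (∀ w ∈ U, f v w = 0) → v = 0) :
    Even (finrank K U) := by
  let b := finBasis K U
  let M : Matrix (Fin (finrank K U)) (Fin (finrank K U)) K := Matrix.of fun i j => f (b i : V) (b j : V)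
  have hM : M.transpose = -M := by
    ext i j
    rw [Matrix.transpose_apply, Matrix.neg_apply]
    exact hs _ (b j).2 _ (b i).2
  have hd : M.det ≠ 0 := by
    intro h0
    obtain ⟨c, hc, hcM⟩ := Matrix.exists_vecMul_eq_zero_iff.2 h0
    apply hc
    set v : U := ∑ i, c i • b i with hv
    have h1 : ∀ j, f (v : V) (b j : V) = 0 := by
      intro j
      have h2 : Matrix.vecMul c M j = 0 := congrFun hcM j
      rw [hv, Submodule.coe_sum, map_sum, LinearMap.sum_apply]
      refine Eq.trans ?_ h2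
      unfold Matrix.vecMul dotProduct
      refine Finset.sum_congr rfl fun i _ => ?_
      rw [Submodule.coe_smul, map_smul, LinearMap.smul_apply, smul_eq_mul]
      rfl
    clear_value v
    have h3 : (v : V) = 0 := by
      refine hn v v.2 fun w hw => ?_
      have h4 : (⟨w, hw⟩ : U) = ∑ j, b.repr ⟨w, hw⟩ j • b j := (b.sum_repr _).symm
      have h5 : w = ((∑ j, b.repr ⟨w, hw⟩ j • b j : U) : V) := congrArg Subtype.val h4
      rw [h5, Submodule.coe_sum, map_sum]
      refine Finset.sum_eq_zero fun j _ => ?_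
      rw [Submodule.coe_smul, map_smul, h1, smul_zero]
    have h6 : v = 0 := Subtype.ext h3
    funext i
    have h7 := Fintype.linearIndependent_iff.1 b.linearIndependent c (by rw [← hv, h6]) i
    exact h7
  have h1 : M.det = (-1) ^ finrank K U * M.det := by
    conv_lhs => rw [← Matrix.det_transpose, hM, Matrix.det_neg, Fintype.card_fin]
  rcases Nat.even_or_odd (finrank K U) with h | h
  · exact h
  · exfalso
    rw [h.neg_one_pow] at h1
    have h3 : (2 : K) * M.det = 0 := by linear_combination h1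
    exact hd ((mul_eq_zero.1 h3).resolve_left h2)

section decomp

variable {ι : Type*} (T : V →ₗ[K] V) (μ : ι → K)

theorem aeval_mem {U : Submodule K V} (hU : ∀ v ∈ U, T v ∈ U) (p : K[X]) {v : V} (hv : v ∈ U) : aeval T p v ∈ U := by
  induction p using Polynomial.induction_on' with
  | add p q hp hq => rw [map_add, LinearMap.add_apply]; exact U.add_mem hp hq
  | monomial n a =>
    rw [aeval_monomial]
    change algebraMap K (Module.End K V) a ((T ^ n) v) ∈ U
    rw [Module.algebraMap_end_apply]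
    apply U.smul_mem
    induction n with
    | zero => exact hv
    | succ n ih => rw [pow_succ']; exact hU _ ih

theorem decomp [FiniteDimensional K V] (hμ : Function.Injective μ) (s : Finset ι) :
    ∀ U : Submodule K V, (∀ v ∈ U, T v ∈ U) → (∀ v ∈ U, aeval T (∏ i ∈ s, (X - C (μ i))) v = 0) →
      U ≤ ⨆ i ∈ s, (U ⊓ Eg T (μ i)) ∧ finrank K U = ∑ i ∈ s, finrank K ↥(U ⊓ Eg T (μ i)) := by
  classical
  induction s using Finset.induction_on with
  | empty =>
    intro U hU h0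
    have h1 : U = ⊥ := by
      rw [eq_bot_iff]
      intro v hv
      have := h0 v hv
      rw [Finset.prod_empty, map_one] at this
      exact this
    rw [h1]
    simp only [_root_.Finset.notMem_empty, _root_.bot_le, _root_.inf_of_le_left, _root_.not_false_eq_true, _root_.iSup_neg, _root_.iSup_bot, _root_.Std.le_refl, _root_.finrank_bot, _root_.Finset.sum_empty, _root_.and_self]
  | insert j s hj ih =>
    intro U hU h0
    set q : K[X] := ∏ i ∈ s, (X - C (μ i)) with hq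
    have hcop : IsCoprime (X - C (μ j)) q := by
      apply IsCoprime.prod_right
      intro i hi
      apply Polynomial.isCoprime_X_sub_C_of_isUnit_sub
      rw [isUnit_iff_ne_zero, sub_ne_zero]
      intro h
      apply hj
      rwa [hμ h]
    set U' : Submodule K V := U ⊓ LinearMap.ker (aeval T q) with hU'
    have hlin : ∀ v, aeval T (X - C (μ j)) v = T v - μ j • v := by
      intro v
      rw [map_sub, aeval_X, aeval_C, LinearMap.sub_apply, Module.algebraMap_end_apply]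
    have hcomm : ∀ p r : K[X], ∀ v, aeval T p (aeval T r v) = aeval T (p * r) v := by
      intro p r v
      rw [map_mul]
      rfl
    have hU'T : ∀ v ∈ U', T v ∈ U' := by
      intro v hv
      refine ⟨hU v hv.1, ?_⟩
      change aeval T q (T v) = 0
      have h1 : aeval T q (T v) = aeval T q (aeval T (X : K[X]) v) := by rw [aeval_X]
      have h2 : aeval T q v = 0 := hv.2
      rw [h1, hcomm, mul_comm, ← hcomm, h2, map_zero]
    obtain ⟨ih1, ih2⟩ := ih U' hU'T (fun v hv => hv.2)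
    have hEg : ∀ i ∈ s, U' ⊓ Eg T (μ i) = U ⊓ Eg T (μ i) := by
      intro i hi
      apply le_antisymm
      · exact inf_le_inf_right _ inf_le_left
      · intro v hv
        refine ⟨⟨hv.1, ?_⟩, hv.2⟩
        change aeval T q v = 0
        have h1 : q = (∏ k ∈ s.erase i, (X - C (μ k))) * (X - C (μ i)) := by
          rw [hq, mul_comm, Finset.mul_prod_erase s (fun k => (X - C (μ k))) hi]
        rw [h1, ← hcomm]
        have h2 : aeval T (X - C (μ i)) v = 0 := by
          rw [map_sub, aeval_X, aeval_C, LinearMap.sub_apply, Module.algebraMap_end_apply, mem_Eg.1 hv.2, sub_self]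
        rw [h2, map_zero]
    obtain ⟨x, y, hxy⟩ := hcop
    have hsplit : ∀ v ∈ U, ∃ v₁ ∈ U ⊓ Eg T (μ j), ∃ v₂ ∈ U', v = v₁ + v₂ := by
      intro v hv
      refine ⟨aeval T (y * q) v, ⟨aeval_mem T hU _ hv, ?_⟩, aeval T (x * (X - C (μ j))) v,
        ⟨aeval_mem T hU _ hv, ?_⟩, ?_⟩
      · change aeval T (y * q) v ∈ Eg T (μ j)
        rw [mem_Eg, ← sub_eq_zero, ← hlin, hcomm]
        have h1 : (X - C (μ j)) * (y * q) = y * ((X - C (μ j)) * q) := by ring
        rw [h1, ← hcomm]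
        have h2 := h0 v hv
        rw [Finset.prod_insert hj] at h2
        rw [h2, map_zero]
      · change aeval T q (aeval T (x * (X - C (μ j))) v) = 0
        rw [hcomm]
        have h1 : q * (x * (X - C (μ j))) = x * ((X - C (μ j)) * q) := by ring
        rw [h1, ← hcomm]
        have h2 := h0 v hv
        rw [Finset.prod_insert hj] at h2
        rw [h2, map_zero]
      · rw [← LinearMap.add_apply, ← map_add, add_comm (y * q), hxy, map_one]
        rfl
    have hsup : U = (U ⊓ Eg T (μ j)) ⊔ U' := by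
      apply le_antisymm
      · intro v hv
        obtain ⟨v₁, h1, v₂, h2, rfl⟩ := hsplit v hv
        exact Submodule.add_mem_sup h1 h2
      · exact sup_le inf_le_left inf_le_left
    have hinf : (U ⊓ Eg T (μ j)) ⊓ U' = ⊥ := by
      rw [eq_bot_iff]
      rintro v ⟨h1, h2⟩
      rw [Submodule.mem_bot]
      have h3 : v = aeval T (x * (X - C (μ j)) + y * q) v := by rw [hxy, map_one]; rfl
      have h4 : aeval T q v = 0 := h2.2
      rw [h3, map_add, LinearMap.add_apply, ← hcomm, ← hcomm, h4, hlin, mem_Eg.1 h1.2, sub_self,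
        map_zero, map_zero, add_zero]
    constructor
    · conv_lhs => rw [hsup]
      rw [Finset.iSup_insert]
      apply sup_le_sup le_rfl
      refine ih1.trans ?_
      apply iSup₂_mono
      intro i hi
      exact (hEg i hi).le
    · rw [Finset.sum_insert hj]
      have h1 := Submodule.finrank_sup_add_finrank_inf_eq (U ⊓ Eg T (μ j)) U'
      rw [hinf, finrank_bot, add_zero, ← hsup] at h1
      rw [h1, ih2]
      congr 1
      exact Finset.sum_congr rfl fun i hi => by rw [hEg i hi]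

end decomp

/-- a form-preserving operator pairs `E μ` with `E μ⁻¹` -/
theorem perp_of {ι : Type*} {B : V →ₗ[K] V →ₗ[K] K} {T : V →ₗ[K] V} (hB : ∀ v w, B (T v) (T w) = B v w) {μ : ι → K}
    {s : Finset ι} {U : Submodule K V} (hU : U ≤ ⨆ i ∈ s, (U ⊓ Eg T (μ i))) {κ κ' : K} (hκ : κ * κ' = 1) {v : V}
    (hv : T v = κ • v) (h : ∀ w ∈ U ⊓ Eg T κ', B v w = 0) : ∀ w ∈ U, B v w = 0 := by
  intro w hw
  have h1 : ∀ i ∈ s, U ⊓ Eg T (μ i) ≤ LinearMap.ker (B v) := by
    intro i _ w hw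
    rw [LinearMap.mem_ker]
    by_cases hi : κ * μ i = 1
    · have : μ i = κ' := by
        have hκ0 : κ ≠ 0 := by rintro rfl; rw [zero_mul] at hκ; exact zero_ne_one hκ
        exact mul_left_cancel₀ hκ0 (hi.trans hκ.symm)
      rw [this] at hw
      exact h w hw
    · have h2 := hB v w
      rw [hv, mem_Eg.1 hw.2, map_smul, map_smul, LinearMap.smul_apply, smul_eq_mul, smul_eq_mul, ← mul_assoc] at h2
      have h3 : (κ * μ i - 1) * B v w = 0 := by linear_combination h2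
      exact (mul_eq_zero.1 h3).resolve_left (sub_ne_zero.2 hi)
  exact (hU.trans (iSup₂_le h1)) hw

end Cfsg.Agent.H935.A7Q
end

-- part: H935/A7Q/Base
section
/-!
# `2.A₇` with an invariant symmetric form: the setting (helper935)
-/

set_option autoImplicit false
set_option linter.unusedSectionVars false

namespace Cfsg.Agent.H935.A7Q

open Module Equiv.Perm Cfsg.Agent.H637.A7Grp Cfsg.Agent.H637.A7Cov

/-- the setting: `D` is a double cover of `A₇`, `ρ` a faithful irreducible representation with a symmetric form -/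
structure Ctx {K V D : Type*} [Field K] [AddCommGroup V] [Module K V] [Group D] (π : D →* alternatingGroup (Fin 7))
    (g : Fin 5 → D) (z : D) (ρ : D →* Module.End K V) (B : V →ₗ[K] V →ₗ[K] K) : Prop where
  good : Good π g z
  rz : ∀ v, ρ z v = -v
  sym : ∀ v w, B v w = B w v
  inv : ∀ d v w, B (ρ d v) (ρ d w) = B v w
  nd : ∀ v, (∀ w, B v w = 0) → v = 0
  irr : ∀ U : Submodule K V, (∀ d, ∀ v ∈ U, ρ d v ∈ U) → U = ⊥ ∨ U = ⊤
  two : (2 : K) ≠ 0

section group

variable {D : Type*} [Group D] {π : D →* alternatingGroup (Fin 7)} {g : Fin 5 → D} {z : D} (H : Good π g z)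
include H

theorem zpow_odd {n : ℕ} (hn : Odd n) : z ^ n = z := by
  obtain ⟨k, rfl⟩ := hn
  rw [pow_succ, pow_mul, pow_two, H.zz, one_pow, one_mul]

/-- lifts of odd order are unique -/
theorem eq_odd {n : ℕ} (hn : Odd n) {x y : D} (h : π x = π y) (hx : x ^ n = 1) (hy : y ^ n = 1) : x = y := by
  rcases H.eq_or h with h1 | h1
  · exact h1
  · have hc : Commute z y := H.zc y
    have h2 : x ^ n = z := by rw [h1, hc.mul_pow, hy, mul_one, zpow_odd H hn]
    rw [hx] at h2
    rw [h1, ← h2, one_mul]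

/-- the lift of odd order -/
theorem lift_pow {n : ℕ} (hn : Odd n) {x : D} (h : π x ^ n = 1) : (x ^ (n + 1)) ^ n = 1 ∧ π (x ^ (n + 1)) = π x := by
  refine ⟨?_, ?_⟩
  · rw [← pow_mul, mul_comm, pow_mul]
    obtain ⟨k, hk⟩ := hn
    have h2 : n + 1 = 2 * (k + 1) := by omega
    rcases H.ker (x ^ n) (by rw [map_pow, h]) with h1 | h1
    · rw [h1, one_pow]
    · rw [h1, h2, pow_mul, pow_two, H.zz, one_pow]
  · rw [map_pow, pow_succ, h, one_mul]

theorem pi_word (l : List (Fin 5)) : π ((l.map g).prod) = (l.map s).prod := by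
  induction l with
  | nil => simp only [_root_.List.map_nil, _root_.List.prod_nil, _root_.map_one]
  | cons i l ih => rw [List.map_cons, List.prod_cons, map_mul, ih, H.gP, List.map_cons, List.prod_cons]

end group

variable {K V D : Type*} [Field K] [AddCommGroup V] [Module K V] [Group D] {π : D →* alternatingGroup (Fin 7)}
  {g : Fin 5 → D} {z : D} {ρ : D →* Module.End K V} {B : V →ₗ[K] V →ₗ[K] K} (C : Ctx π g z ρ B)

/-- the representation is given by invertible operators -/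
theorem rho_mul (x y : D) (v : V) : ρ (x * y) v = ρ x (ρ y v) := by rw [map_mul]; rfl

theorem rho_inj (x : D) {v : V} (h : ρ x v = 0) : v = 0 := by
  have h1 : ρ (x⁻¹ * x) v = 0 := by rw [rho_mul, h, map_zero]
  rw [inv_mul_cancel, map_one] at h1
  exact h1

include C

/-- an element whose square is `z` acts without fixed vectors -/
theorem no_fix {y : D} (hy : y * y = z) {v : V} (h : ρ y v = v) : v = 0 := by
  have h1 : ρ z v = v := by rw [← hy, rho_mul, h, h]
  rw [C.rz] at h1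
  have h2 : (2 : K) • v = 0 := by
    rw [two_smul]
    nth_rewrite 1 [← h1]
    exact neg_add_cancel v
  exact (smul_eq_zero.1 h2).resolve_left C.two

theorem B_neg {y : D} (hy : y * y = z) (v w : V) : B v (ρ y w) = -B w (ρ y v) := by
  rw [← C.inv y v, ← rho_mul, hy, C.rz, map_neg, C.sym]

/-- a multiplicity space swapped with its dual by an element of square `z` has even dimension -/
theorem even_finrank [FiniteDimensional K V] {y : D} (hy : y * y = z) {U U' : Submodule K V} (h1 : ∀ v ∈ U, ρ y v ∈ U')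
    (h2 : ∀ v ∈ U', ρ y v ∈ U) (hnd : ∀ v ∈ U, (∀ w ∈ U', B v w = 0) → v = 0) : Even (finrank K U) := by
  refine even_of_skew C.two U (B.compl₂ (ρ y)) ?_ ?_
  · intro v _ w _
    rw [LinearMap.compl₂_apply, LinearMap.compl₂_apply]
    exact B_neg C hy v w
  · intro v hv h
    refine hnd v hv fun w hw => ?_
    have h3 := h (ρ y w) (h2 w hw)
    rw [LinearMap.compl₂_apply, ← rho_mul, hy, C.rz, map_neg, neg_eq_zero] at h3
    exact h3

theorem finrank_le_rho [FiniteDimensional K V] (x : D) {U U' : Submodule K V} (h : ∀ v ∈ U, ρ x v ∈ U') :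
    finrank K U ≤ finrank K U' :=
  finrank_le_map (ρ x) (fun _ _ h0 => rho_inj x h0) h

end Cfsg.Agent.H935.A7Q
end

-- part: H935/A7Q/Cross
section
/-!
# `2.A₇` in dimension twelve with a symmetric form, characteristic not three (helper935)
-/

set_option autoImplicit false
set_option linter.unusedSectionVars false

namespace Cfsg.Agent.H935.A7Q

open Module Equiv.Perm Cfsg.Agent.H637.A7Grp Cfsg.Agent.H637.A7Cov Polynomial

/-! ### elements of `A₇` -/

/-- `(3 4 5)` -/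
def bb : alternatingGroup (Fin 7) := s 1 * s 2 * s 3 * s 1 * s 2

/-- `(0 3)(1 4 2 5)` -/
def sg : alternatingGroup (Fin 7) := s 1 * s 3 * s 0 * s 0 * s 2

/-- `(3 4)(5 6)` -/
def qq : alternatingGroup (Fin 7) := ⟨c[3, 4] * c[5, 6], mem_alternatingGroup.2 (by decide +kernel)⟩

theorem bb_cube : bb ^ 3 = 1 := by decide +kernel
theorem sg_s : sg * s 0 = bb * sg := by decide +kernel
theorem sg_bb : sg * bb = s 0 * s 0 * sg := by decide +kernel
theorem sg_four : sg * sg * (sg * sg) = 1 := by decide +kernel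
theorem sg_two : sg * sg ≠ 1 := by decide +kernel
theorem s_bb : s 0 * bb = bb * s 0 := by decide +kernel
theorem qq_s : qq * s 0 = s 0 * qq := by decide +kernel
theorem qq_bb : bb * (qq * (bb * bb) * qq⁻¹) * (bb * (qq * (bb * bb) * qq⁻¹)) = 1 := by decide +kernel
theorem qq_bb' : bb * (qq * (bb * bb) * qq⁻¹) ≠ 1 := by decide +kernel

variable {K V D : Type*} [Field K] [AddCommGroup V] [Module K V] [Group D] {π : D →* alternatingGroup (Fin 7)}
  {g : Fin 5 → D} {z : D} {ρ : D →* Module.End K V} {B : V →ₗ[K] V →ₗ[K] K}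

/-- the elements -/
structure El (π : D →* alternatingGroup (Fin 7)) (z a b σ q : D) : Prop where
  a3 : a ^ 3 = 1
  b3 : b ^ 3 = 1
  pa : π a = s 0
  pb : π b = bb
  as : a * σ = σ * b ^ 2
  bs : b * σ = σ * a
  ab : a * b = b * a
  s4 : σ * σ * (σ * σ) = z
  qa : q * a = a * q
  bq : b * (q * b ^ 2 * q⁻¹) * (b * (q * b ^ 2 * q⁻¹)) = z

theorem exists_el (H : Good π g z) : ∃ b σ q : D, El π z (g 0) b σ q ∧ σ = g 1 * g 3 * g 0 * g 0 * g 2 ∧
    b = (g 1 * g 2 * g 3 * g 1 * g 2) ^ 4 := by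
  obtain ⟨b, hb⟩ : ∃ b, b = (g 1 * g 2 * g 3 * g 1 * g 2) ^ 4 := ⟨_, rfl⟩
  obtain ⟨σ, hσ⟩ : ∃ σ, σ = g 1 * g 3 * g 0 * g 0 * g 2 := ⟨_, rfl⟩
  obtain ⟨q, hq⟩ := H.surj qq
  have hb0 : π (g 1 * g 2 * g 3 * g 1 * g 2) = bb := by
    simp only [map_mul, H.gP]; rfl
  have hsg : π σ = sg := by
    rw [hσ]; simp only [map_mul, H.gP]; rfl
  obtain ⟨h1, h2⟩ := lift_pow H (n := 3) ⟨1, rfl⟩ (x := g 1 * g 2 * g 3 * g 1 * g 2) (by rw [hb0, bb_cube])
  have h1' : b ^ 3 = 1 := by rw [hb]; exact h1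
  have h2' : π b = bb := by rw [← hb0, hb]; exact h2
  have cj3 : ∀ x y : D, x ^ 3 = 1 → (y * x * y⁻¹) ^ 3 = 1 := by
    intro x y hx
    rw [conj_pow, hx, mul_one, mul_inv_cancel]
  have e1 : σ * g 0 * σ⁻¹ = b := by
    refine eq_odd H ⟨1, rfl⟩ ?_ (cj3 _ _ (H.cube 0)) h1'
    rw [map_mul, map_mul, map_inv, hsg, H.gP, h2', sg_s, mul_inv_cancel_right]
  have e2 : σ * b * σ⁻¹ = g 0 ^ 2 := by
    refine eq_odd H (n := 3) ⟨1, rfl⟩ ?_ (cj3 _ _ h1') (by rw [← pow_mul, mul_comm, pow_mul, H.cube, one_pow])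
    rw [map_mul, map_mul, map_inv, hsg, map_pow, H.gP, h2', sg_bb, mul_inv_cancel_right, pow_two]
  have e3 : g 0 * b * (g 0)⁻¹ = b := by
    refine eq_odd H ⟨1, rfl⟩ ?_ (cj3 _ _ h1') h1'
    rw [map_mul, map_mul, map_inv, H.gP, h2', s_bb, mul_inv_cancel_right]
  have e4 : q * g 0 * q⁻¹ = g 0 := by
    refine eq_odd H ⟨1, rfl⟩ ?_ (cj3 _ _ (H.cube 0)) (H.cube 0)
    rw [map_mul, map_mul, map_inv, H.gP, hq, qq_s, mul_inv_cancel_right]
  refine ⟨b, σ, q, ⟨H.cube 0, h1', H.gP 0, h2', ?_, ?_, ?_, ?_, ?_, ?_⟩, hσ, hb⟩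
  · have h3 : g 0 = (σ * b * σ⁻¹) ^ 2 := by
      rw [e2, ← pow_mul, show 2 * 2 = 3 + 1 from rfl, pow_succ, H.cube, one_mul]
    rw [conj_pow] at h3
    nth_rewrite 1 [h3]
    rw [inv_mul_cancel_right]
  · rw [← e1, inv_mul_cancel_right]
  · exact mul_inv_eq_iff_eq_mul.1 e3
  · apply H.sq_eq
    · rw [map_mul, hsg]; exact sg_four
    · rw [map_mul, hsg]; exact sg_two
  · exact mul_inv_eq_iff_eq_mul.1 e4
  · apply H.sq_eq
    · simp only [map_mul, map_inv, hq, h2', pow_two]; exact qq_bb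
    · simp only [map_mul, map_inv, hq, h2', pow_two]; exact qq_bb'

section cross

variable (C : Ctx π g z ρ B) {a b σ q : D} (E : El π z a b σ q)
include C E

/-- `b` is not trivial on an eigenspace of `a` -/
theorem nontriv {μ : K} (h : ∀ v ∈ Eg (ρ a) μ, ρ b v = v) : Eg (ρ a) μ = ⊥ := by
  rw [eq_bot_iff]
  intro v hv
  have hq : ∀ v ∈ Eg (ρ a) μ, ρ q⁻¹ v ∈ Eg (ρ a) μ := by
    intro v hv
    rw [mem_Eg, ← rho_mul]
    have h1 : a * q⁻¹ = q⁻¹ * a := by
      rw [eq_inv_mul_iff_mul_eq, ← mul_assoc, E.qa, mul_inv_cancel_right]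
    rw [h1, rho_mul, mem_Eg.1 hv, map_smul]
  refine no_fix C E.bq ?_
  rw [rho_mul, rho_mul, rho_mul]
  have h1 := hq v hv
  have h2 : ρ (b ^ 2) (ρ q⁻¹ v) = ρ q⁻¹ v := by rw [pow_two, rho_mul, h _ h1, h _ h1]
  rw [h2]
  have h3 : ρ q (ρ q⁻¹ v) = v := by rw [← rho_mul, mul_inv_cancel, map_one]; rfl
  rw [h3, h v hv]

/-- the step `(μ, ν) → (ν⁻¹, μ)` -/
theorem mem_step {μ ν ν' : K} (hν : ν ^ 2 = ν') {v : V} (h : v ∈ Eg (ρ a) μ ⊓ Eg (ρ b) ν) :
    ρ σ v ∈ Eg (ρ a) ν' ⊓ Eg (ρ b) μ := by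
  obtain ⟨h1, h2⟩ := h
  have h1' := mem_Eg.1 h1
  have h2' := mem_Eg.1 h2
  refine ⟨?_, ?_⟩
  · change ρ σ v ∈ Eg (ρ a) ν'
    rw [mem_Eg, ← rho_mul, E.as, rho_mul, pow_two, rho_mul, h2', map_smul, h2', map_smul, map_smul, smul_smul, ← pow_two,
      hν]
  · change ρ σ v ∈ Eg (ρ b) μ
    rw [mem_Eg, ← rho_mul, E.bs, rho_mul, h1', map_smul]

theorem step [FiniteDimensional K V] {μ ν ν' : K} (hν : ν ^ 2 = ν') : finrank K ↥(Eg (ρ a) μ ⊓ Eg (ρ b) ν) ≤
    finrank K ↥(Eg (ρ a) ν' ⊓ Eg (ρ b) μ) :=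
  finrank_le_rho C σ fun _ h => mem_step C E hν h

end cross

theorem aeval_cube {T : V →ₗ[K] V} {ω : K} (hω : ω ^ 2 + ω + 1 = 0) (hT : ∀ v, T (T (T v)) = v) (v : V) :
    aeval T (∏ i : Fin 3, (X - C ((![1, ω, ω ^ 2] : Fin 3 → K) i))) v = 0 := by
  have h1 : (∏ i : Fin 3, (X - C ((![1, ω, ω ^ 2] : Fin 3 → K) i))) = X ^ 3 - (1 : K[X]) := by
    rw [Fin.prod_univ_three]
    simp only [Matrix.cons_val_zero, Matrix.cons_val_one, Matrix.cons_val, map_one, map_pow]
    have h2 : (C ω : K[X]) ^ 2 + C ω + 1 = 0 := by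
      rw [← C_pow, ← C_add, ← C_1, ← C_add, hω, C_0]
    linear_combination (X * C ω - X ^ 2 + 1 - C ω) * h2
  rw [h1, map_sub, map_pow, aeval_X, map_one, LinearMap.sub_apply]
  change T (T (T v)) - v = 0
  rw [hT, sub_self]

theorem mu_inj {ω : K} (hω : ω ^ 2 + ω + 1 = 0) (h3 : (3 : K) ≠ 0) :
    Function.Injective (![1, ω, ω ^ 2] : Fin 3 → K) := by
  have h1 : (1 : K) ≠ ω := by
    rintro rfl
    apply h3
    linear_combination hω
  have h2 : (1 : K) ≠ ω ^ 2 := by
    intro h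
    apply h3
    linear_combination (-(ω - 2)) * hω - (ω - 1) * h
  have h3' : ω ≠ ω ^ 2 := by
    intro h
    apply h1
    linear_combination (1 - ω) * hω - (1 + ω) * h
  intro i j h
  fin_cases i <;> fin_cases j
  map_tacs [(rfl); (exact absurd h h1); (exact absurd h h2); (exact absurd h.symm h1); (rfl); (exact absurd h h3'); (exact absurd h.symm h2);
   (exact absurd h.symm h3'); (rfl)]

/-- **Characteristic not three.** -/
theorem cross (C : Ctx π g z ρ B) [FiniteDimensional K V] (h12 : finrank K V = 12) {ω : K} (hω : ω ^ 2 + ω + 1 = 0)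
    (h3 : (3 : K) ≠ 0) : False := by
  obtain ⟨b, σ, q, E, -, -⟩ := exists_el C.good
  set a := g 0 with ha
  have hω3 : ω ^ 3 = 1 := by linear_combination (ω - 1) * hω
  set μ : Fin 3 → K := ![1, ω, ω ^ 2] with hμ
  have hμi : Function.Injective μ := mu_inj hω h3
  have cube : ∀ {x : D}, x ^ 3 = 1 → ∀ v, ρ x (ρ x (ρ x v)) = v := by
    intro x hx v
    have h1 : x * x * x = 1 := by rw [← hx, pow_succ, pow_two]
    rw [← rho_mul, ← rho_mul, h1, map_one]
    rfl
  have dec : ∀ {x : D}, x ^ 3 = 1 → ∀ U : Submodule K V, (∀ v ∈ U, ρ x v ∈ U) →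
      U ≤ ⨆ i ∈ Finset.univ, (U ⊓ Eg (ρ x) (μ i)) ∧ finrank K U = ∑ i, finrank K ↥(U ⊓ Eg (ρ x) (μ i)) := by
    intro x hx U hU
    exact decomp (ρ x) μ hμi Finset.univ U hU (fun v _ => aeval_cube hω (cube hx) v)
  have hbU : ∀ κ : K, ∀ v ∈ Eg (ρ a) κ, ρ b v ∈ Eg (ρ a) κ := by
    intro κ v hv
    rw [mem_Eg, ← rho_mul, E.ab, rho_mul, mem_Eg.1 hv, map_smul]
  obtain ⟨d1, d2⟩ := dec E.a3 ⊤ (fun _ _ => Submodule.mem_top)
  have dE := fun κ : K => dec E.b3 (Eg (ρ a) κ) (hbU κ)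
  -- the pairing
  have pair : ∀ {κ κ' l l' : K}, κ * κ' = 1 → l * l' = 1 → ∀ v ∈ Eg (ρ a) κ ⊓ Eg (ρ b) l,
      (∀ w ∈ Eg (ρ a) κ' ⊓ Eg (ρ b) l', B v w = 0) → v = 0 := by
    intro κ κ' l l' h1 h2 v hv h
    apply C.nd
    intro w
    refine perp_of (C.inv a) d1 h1 (mem_Eg.1 hv.1) ?_ w Submodule.mem_top
    rintro w ⟨-, hw⟩
    exact perp_of (C.inv b) (dE κ').1 h2 (mem_Eg.1 hv.2) h w hw
  -- parity
  have par : ∀ {κ κ' l l' : K}, κ ^ 2 = κ' → l ^ 2 = l' → κ' ^ 2 = κ → l' ^ 2 = l → κ * κ' = 1 → l * l' = 1 →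
      Even (finrank K ↥(Eg (ρ a) κ ⊓ Eg (ρ b) l)) := by
    intro κ κ' l l' h1 h2 h3 h4 h5 h6
    refine even_finrank C E.s4 (U' := Eg (ρ a) κ' ⊓ Eg (ρ b) l') ?_ ?_ (pair h5 h6)
    · intro v hv
      rw [rho_mul]
      exact mem_step C E h1 (mem_step C E h2 hv)
    · intro v hv
      rw [rho_mul]
      exact mem_step C E h3 (mem_step C E h4 hv)
  have hω4 : (ω ^ 2) ^ 2 = ω := by linear_combination ω * hω3
  -- the multiplicities
  rw [Fin.sum_univ_three, finrank_top, h12] at d2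
  have htop : ∀ W : Submodule K V, finrank K ↥(⊤ ⊓ W) = finrank K ↥W := fun W => by rw [top_inf_eq]
  rw [htop, htop, htop] at d2
  have e0 := (dE 1).2
  have e1 := (dE ω).2
  have e2 := (dE (ω ^ 2)).2
  rw [Fin.sum_univ_three] at e0 e1 e2
  have μ0 : μ 0 = 1 := rfl
  have μ1 : μ 1 = ω := rfl
  have μ2 : μ 2 = ω ^ 2 := rfl
  rw [μ0, μ1, μ2] at d2 e0 e1 e2
  have one2 : (1 : K) ^ 2 = 1 := one_pow 2
  have s1 := step C E (μ := 1) (ν := ω) (ν' := ω ^ 2) rfl
  have s2 := step C E (μ := ω ^ 2) (ν := 1) (ν' := 1) one2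
  have s3 := step C E (μ := 1) (ν := ω ^ 2) (ν' := ω) hω4
  have s4 := step C E (μ := ω) (ν := 1) (ν' := 1) one2
  have t1 := step C E (μ := ω) (ν := ω) (ν' := ω ^ 2) rfl
  have t2 := step C E (μ := ω ^ 2) (ν := ω) (ν' := ω ^ 2) rfl
  have t3 := step C E (μ := ω ^ 2) (ν := ω ^ 2) (ν' := ω) hω4
  have t4 := step C E (μ := ω) (ν := ω ^ 2) (ν' := ω) hω4
  have p1 := par (κ := 1) (l := ω) (κ' := 1) (l' := ω ^ 2) one2 rfl one2 hω4 (one_mul 1) (by rw [← hω3]; ring)
  have p2 := par (κ := ω) (l := ω) (κ' := ω ^ 2) (l' := ω ^ 2) rfl rfl hω4 hω4 (by rw [← hω3]; ring) (by rw [← hω3]; ring)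
  -- non-triviality
  have nt : ∀ κ : K, finrank K ↥(Eg (ρ a) κ) ≠ 0 →
      finrank K ↥(Eg (ρ a) κ ⊓ Eg (ρ b) ω) ≠ 0 ∨ finrank K ↥(Eg (ρ a) κ ⊓ Eg (ρ b) (ω ^ 2)) ≠ 0 := by
    intro κ h0
    by_contra hcon
    push Not at hcon
    have h1 := (dE κ).2
    rw [Fin.sum_univ_three, μ0, μ1, μ2, hcon.1, hcon.2, add_zero, add_zero] at h1
    have h2 : Eg (ρ a) κ ⊓ Eg (ρ b) 1 = Eg (ρ a) κ := Submodule.eq_of_le_of_finrank_eq inf_le_left h1.symm
    apply h0
    rw [nontriv C E (μ := κ) ?_, finrank_bot]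
    intro v hv
    rw [← h2] at hv
    have h3 := mem_Eg.1 hv.2
    rwa [one_smul] at h3
  have n0 := nt 1
  have n1 := nt ω
  rw [e0] at n0 d2
  rw [e1] at n1 d2
  rw [e2] at d2
  obtain ⟨x, hx⟩ := p1
  obtain ⟨y, hy⟩ := p2
  (clear * - d2 e1 s1 s2 s3 s4 t1 t2 t3 t4 n0 n1 hx hy; omega)

end Cfsg.Agent.H935.A7Q
end

-- part: H935/A7Q/Lagr
section
/-!
# The totally singular `2.A₆`-invariant subspace of dimension six in characteristic three (helper935)
-/

set_option autoImplicit false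
set_option linter.unusedSectionVars false

namespace Cfsg.Agent.H935.A7Q

open Module Equiv.Perm Cfsg.Agent.H637.A7Grp Cfsg.Agent.H637.A7Cov

/-! ### the transversal of `3² : 4` in `A₆` consisting of the identity and nine involutions -/

/-- the transversal -/
def nb : Fin 10 → alternatingGroup (Fin 7) :=
  ![1, s 0 * s 1, s 0 * s 2, s 0 * s 3, s 1 * s 0, s 1 * s 2, s 1 * s 3, s 2 * s 0, s 2 * s 3, s 3 * s 0]

/-- the table of the left multiplication with the generators -/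
def tb : Fin 4 → Fin 10 → Fin 10 × ℕ × ℕ × ℕ :=
  ![![(0, 1, 0, 0), (8, 2, 1, 3), (6, 0, 0, 1), (5, 0, 0, 3), (1, 1, 0, 0), (9, 2, 0, 1), (7, 2, 0, 3), (2, 1, 0, 0),
      (4, 0, 1, 1), (3, 1, 0, 0)],
    ![(4, 2, 0, 0), (0, 2, 0, 0), (7, 1, 1, 2), (9, 1, 2, 2), (1, 2, 0, 0), (2, 2, 1, 2), (3, 2, 2, 2), (5, 1, 0, 0),
      (8, 0, 1, 0), (6, 1, 0, 0)],
    ![(7, 2, 0, 0), (4, 1, 1, 2), (0, 2, 0, 0), (9, 1, 0, 2), (5, 0, 1, 2), (1, 1, 0, 0), (6, 0, 2, 0), (2, 2, 0, 0),
      (3, 2, 0, 2), (8, 1, 0, 0)],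
    ![(9, 2, 0, 0), (4, 1, 2, 2), (7, 1, 0, 2), (0, 2, 0, 0), (6, 0, 2, 2), (5, 0, 1, 0), (1, 1, 0, 0), (8, 0, 0, 2),
      (2, 1, 0, 0), (3, 2, 0, 0)]]

theorem tb_eq : ∀ i : Fin 4, ∀ j : Fin 10, s i.castSucc * nb j =
    nb (tb i j).1 * (s 0 ^ (tb i j).2.1 * bb ^ (tb i j).2.2.1 * sg ^ (tb i j).2.2.2) := by
  (set_option synthInstance.maxSize 9000 in open scoped Cfsg.Agent.Lib.FastPerm in decide +kernel)

theorem nb_sq : ∀ j, nb j * nb j = 1 := by decide +kernel

variable {K V D : Type*} [Field K] [AddCommGroup V] [Module K V] [Group D] {π : D →* alternatingGroup (Fin 7)}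
  {g : Fin 5 → D} {z : D} {ρ : D →* Module.End K V} {B : V →ₗ[K] V →ₗ[K] K}

/-! ### invariance -/

/-- `x` leaves `W` invariant -/
def Iv (ρ : D →* Module.End K V) (W : Submodule K V) (x : D) : Prop := ∀ v ∈ W, ρ x v ∈ W

theorem Iv.mul {W : Submodule K V} {x y : D} (hx : Iv ρ W x) (hy : Iv ρ W y) : Iv ρ W (x * y) := by
  intro v hv
  rw [rho_mul]
  exact hx _ (hy _ hv)

theorem Iv.one (W : Submodule K V) : Iv ρ W (1 : D) := by
  intro v hv
  rw [map_one]
  exact hv

theorem Iv.pow {W : Submodule K V} {x : D} (hx : Iv ρ W x) (n : ℕ) : Iv ρ W (x ^ n) := by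
  induction n with
  | zero => rw [pow_zero]; exact Iv.one W
  | succ n ih => rw [pow_succ]; exact ih.mul hx

theorem Iv.inv [Finite D] {W : Submodule K V} {x : D} (hx : Iv ρ W x) : Iv ρ W x⁻¹ := by
  have h1 : x⁻¹ = x ^ (orderOf x - 1) := by
    apply inv_eq_of_mul_eq_one_left
    rw [← pow_succ, Nat.sub_add_cancel (orderOf_pos x), pow_orderOf_eq_one]
  rw [h1]
  exact hx.pow _

theorem Iv.list {W : Submodule K V} {l : List (Fin 5)} (hl : ∀ i ∈ l, Iv ρ W (g i)) : Iv ρ W ((l.map g).prod) := by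
  induction l with
  | nil => exact Iv.one W
  | cons i l ih =>
    rw [List.map_cons, List.prod_cons]
    exact (hl i (by simp)).mul (ih fun j hj => hl j (by simp [hj]))

theorem Iv.congr (C : Ctx π g z ρ B) {W : Submodule K V} {x y : D} (hy : Iv ρ W y) (h : π x = π y) : Iv ρ W x := by
  rcases C.good.eq_or h with h1 | h1
  · rw [h1]; exact hy
  · rw [h1]
    intro v hv
    rw [rho_mul, C.rz]
    exact W.neg_mem (hy v hv)

theorem Iv.word (C : Ctx π g z ρ B) {W : Submodule K V} {l : List (Fin 5)} (hl : ∀ i ∈ l, Iv ρ W (g i)) {x : D}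
    (hx : π x = (l.map s).prod) : Iv ρ W x :=
  (Iv.list hl).congr C (hx.trans (pi_word C.good l).symm)

/-- the last vector outside -/
theorem last {W U : Submodule K V} (l : List (V →ₗ[K] V)) (hl : ∀ f ∈ l, ∀ v ∈ U, f v ∈ U) :
    ∀ v ∈ U, v ∉ W → l.foldl (fun v f => f v) v ∈ W → ∃ u ∈ U, u ∉ W ∧ ∃ f ∈ l, f u ∈ W := by
  induction l with
  | nil => intro v _ hv h; exact absurd h hv
  | cons f l ih =>
    intro v hv hv' h
    by_cases h1 : f v ∈ W
    · exact ⟨v, hv, hv', f, by simp, h1⟩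
    · obtain ⟨u, hu, hu', f', hf', h2⟩ := ih (fun f' hf' => hl f' (by simp [hf'])) (f v) (hl f (by simp) v hv) h1 h
      exact ⟨u, hu, hu', f', by simp [hf'], h2⟩

/-- the orthogonal space -/
def Pp (B : V →ₗ[K] V →ₗ[K] K) (W : Submodule K V) : Submodule K V where
  carrier := {v | ∀ w ∈ W, B v w = 0}
  add_mem' := by
    intro a b ha hb w hw
    rw [map_add, LinearMap.add_apply, ha w hw, hb w hw, add_zero]
  zero_mem' := by
    intro w _
    rw [map_zero, LinearMap.zero_apply]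
  smul_mem' := by
    intro c v hv w hw
    rw [map_smul, LinearMap.smul_apply, hv w hw, smul_zero]

theorem Iv.perp (C : Ctx π g z ρ B) [Finite D] {W : Submodule K V} {x : D} (hx : Iv ρ W x) : Iv ρ (Pp B W) x := by
  intro v hv w hw
  have h1 : w = ρ x (ρ x⁻¹ w) := by rw [← rho_mul, mul_inv_cancel, map_one]; rfl
  rw [h1, C.inv]
  exact hv _ (hx.inv w hw)

/-- the state of the search: `2.A₆`-invariant and totally singular -/
structure St (g : Fin 5 → D) (ρ : D →* Module.End K V) (B : V →ₗ[K] V →ₗ[K] K) (W : Submodule K V) : Prop where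
  iv : ∀ i, i ≠ 4 → Iv ρ W (g i)
  iso : ∀ v ∈ W, ∀ w ∈ W, B v w = 0

section lagr

variable (C : Ctx π g z ρ B) {W : Submodule K V} (S : St g ρ B W) {b σ q : D} (E : El π z (g 0) b σ q)
  (hσ : σ = g 1 * g 3 * g 0 * g 0 * g 2) (hb : b = (g 1 * g 2 * g 3 * g 1 * g 2) ^ 4)

include S hσ in
theorem iv_sigma : Iv ρ W σ := by
  rw [hσ]
  exact ((((S.iv 1 (by decide)).mul (S.iv 3 (by decide))).mul (S.iv 0 (by decide))).mul (S.iv 0 (by decide))).mul
    (S.iv 2 (by decide))

include S hb in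
theorem iv_b : Iv ρ W b := by
  rw [hb]
  exact (((((S.iv 1 (by decide)).mul (S.iv 2 (by decide))).mul (S.iv 3 (by decide))).mul (S.iv 1 (by decide))).mul
    (S.iv 2 (by decide))).pow 4

include C S E hσ hb

/-- the highest weight vector modulo `W` -/
theorem exists_hw (h3 : (3 : K) = 0) {l : K} (hl : l ^ 4 = -1) {v₀ : V} (hv₀ : v₀ ∈ Pp B W) (hv₀' : v₀ ∉ W) :
    ∃ w ∈ Pp B W, w ∉ W ∧ ρ (g 0) w - w ∈ W ∧ ρ b w - w ∈ W ∧ ∃ κ : K, κ ^ 4 = -1 ∧ ρ σ w - κ • w ∈ W := by
  have hfin := C.good.fin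
  have iva := S.iv 0 (by decide)
  have ivb := iv_b S hb
  have ivs := iv_sigma S hσ
  have cub : ∀ {x : D}, x ^ 3 = 1 → ∀ v : V,
      [ρ x - 1, ρ x - 1, ρ x - 1].foldl (fun v (f : V →ₗ[K] V) => f v) v = 0 := by
    intro x hx v
    have h1 : ρ x (ρ x (ρ x v)) = v := by
      rw [← rho_mul, ← rho_mul, show x * x * x = x ^ 3 by rw [pow_succ, pow_two], hx, map_one]
      rfl
    simp only [List.foldl_cons, List.foldl_nil, LinearMap.sub_apply, Module.End.one_apply, map_sub]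
    rw [h1]
    have h4 : (3 : K) • (ρ x v - ρ x (ρ x v)) = 0 := by rw [h3, zero_smul]
    rw [← h4]
    module
  -- first step
  have hU0 : ∀ f ∈ [ρ (g 0) - 1, ρ (g 0) - 1, ρ (g 0) - 1], ∀ v ∈ Pp B W, (f : V →ₗ[K] V) v ∈ Pp B W := by
    intro f hf v hv
    have h1 : f = ρ (g 0) - 1 := by simpa using hf
    rw [h1]
    exact (Pp B W).sub_mem (iva.perp C v hv) hv
  obtain ⟨u₁, hu₁, hu₁', f₁, hf₁, h1⟩ := last _ hU0 v₀ hv₀ hv₀' (by rw [cub (C.good.cube 0)]; exact W.zero_mem)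
  have h1' : ρ (g 0) u₁ - u₁ ∈ W := by
    have : f₁ = ρ (g 0) - 1 := by simpa using hf₁
    rw [this] at h1
    exact h1
  -- second step
  let U₁ : Submodule K V := Pp B W ⊓ W.comap (ρ (g 0) - 1)
  have hU1 : ∀ f ∈ [ρ b - 1, ρ b - 1, ρ b - 1], ∀ v ∈ U₁, (f : V →ₗ[K] V) v ∈ U₁ := by
    intro f hf v hv
    have h1 : f = ρ b - 1 := by simpa using hf
    rw [h1]
    refine ⟨(Pp B W).sub_mem (ivb.perp C v hv.1) hv.1, ?_⟩
    change ρ (g 0) (ρ b v - v) - (ρ b v - v) ∈ W
    have hva : ρ (g 0) v - v ∈ W := hv.2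
    have h2 : ρ (g 0) (ρ b v - v) - (ρ b v - v) = ρ b (ρ (g 0) v - v) - (ρ (g 0) v - v) := by
      rw [map_sub, map_sub, ← rho_mul, ← rho_mul, E.ab]
      abel
    rw [h2]
    exact W.sub_mem (ivb _ hva) hva
  obtain ⟨u₂, hu₂, hu₂', f₂, hf₂, h2⟩ := last _ hU1 u₁ ⟨hu₁, h1'⟩ hu₁' (by rw [cub E.b3]; exact W.zero_mem)
  have h2' : ρ b u₂ - u₂ ∈ W := by
    have : f₂ = ρ b - 1 := by simpa using hf₂
    rw [this] at h2
    exact h2
  -- third step
  let U₂ : Submodule K V := U₁ ⊓ W.comap (ρ b - 1)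
  have hU2 : ∀ v ∈ U₂, ρ σ v ∈ U₂ := by
    intro v hv
    have hva : ρ (g 0) v - v ∈ W := hv.1.2
    have hvb : ρ b v - v ∈ W := hv.2
    refine ⟨⟨ivs.perp C v hv.1.1, ?_⟩, ?_⟩
    · change ρ (g 0) (ρ σ v) - ρ σ v ∈ W
      have h3 : ρ (g 0) (ρ σ v) - ρ σ v = ρ σ (ρ b (ρ b v - v) + (ρ b v - v)) := by
        rw [← rho_mul, E.as, rho_mul, pow_two, rho_mul, ← map_sub, map_sub (ρ b)]
        congr 1
        abel
      rw [h3]
      exact ivs _ (W.add_mem (ivb _ hvb) hvb)
    · change ρ b (ρ σ v) - ρ σ v ∈ W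
      rw [← rho_mul, E.bs, rho_mul, ← map_sub]
      exact ivs _ hva
  let L : List (V →ₗ[K] V) := [ρ σ - l • 1, ρ σ - (-l) • 1, ρ σ - (l ^ 3) • 1, ρ σ - (-l ^ 3) • 1]
  have hL : ∀ f ∈ L, ∃ κ : K, κ ^ 4 = -1 ∧ f = ρ σ - κ • 1 := by
    intro f hf
    simp only [L, List.mem_cons, List.mem_nil_iff, or_false] at hf
    have h12 : (l ^ 3) ^ 4 = -1 := by rw [← pow_mul, mul_comm, pow_mul, hl]; norm_num
    rcases hf with h | h | h | h
    · exact ⟨l, hl, h⟩
    · exact ⟨-l, by rw [← hl]; ring, h⟩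
    · exact ⟨l ^ 3, h12, h⟩
    · exact ⟨-l ^ 3, by rw [← h12]; ring, h⟩
  have hU2' : ∀ f ∈ L, ∀ v ∈ U₂, (f : V →ₗ[K] V) v ∈ U₂ := by
    intro f hf v hv
    obtain ⟨κ, -, rfl⟩ := hL f hf
    exact U₂.sub_mem (hU2 v hv) (U₂.smul_mem κ hv)
  have hfold : L.foldl (fun v (f : V →ₗ[K] V) => f v) u₂ = 0 := by
    have h4 : ρ σ (ρ σ (ρ σ (ρ σ u₂))) = -u₂ := by
      rw [← rho_mul, ← rho_mul, ← rho_mul, show σ * σ * σ * σ = σ * σ * (σ * σ) by group, E.s4, C.rz]
    simp only [L, List.foldl_cons, List.foldl_nil, LinearMap.sub_apply, LinearMap.smul_apply, Module.End.one_apply,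
      map_sub, map_smul]
    rw [h4]
    have e1 : l * (l ^ 3) = -1 := by rw [← hl]; ring
    have e2 : l ^ 6 = -l ^ 2 := by linear_combination l ^ 2 * hl
    have e3 : l ^ 8 = 1 := by linear_combination (l ^ 4 - 1) * hl
    set x1 := ρ σ u₂
    set x2 := ρ σ x1
    set x3 := ρ σ x2
    have key : ∀ c3 c2 c1 c0 : K, c3 = 0 → c2 = 0 → c1 = 0 → c0 = 0 →
        c3 • x3 + c2 • x2 + c1 • x1 + c0 • u₂ = 0 := by
      rintro _ _ _ _ rfl rfl rfl rfl
      simp
    rw [← key 0 (-(l ^ 2) - l ^ 6) 0 (l ^ 8 - 1) rfl (by rw [e2]; ring) rfl (by rw [e3]; ring)]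
    module
  obtain ⟨w, hw, hw', f, hf, h4⟩ := last L hU2' u₂ ⟨hu₂, h2'⟩ hu₂' (by rw [hfold]; exact W.zero_mem)
  obtain ⟨κ, hκ, rfl⟩ := hL f hf
  exact ⟨w, hw.1.1, hw', hw.1.2, hw.2, κ, hκ, h4⟩

end lagr

end Cfsg.Agent.H935.A7Q
end

-- part: H935/A7Q/Lagr2
section
/-!
# A `2.A₆`-invariant Lagrangian subspace (helper935)
-/

set_option autoImplicit false
set_option linter.unusedSectionVars false

namespace Cfsg.Agent.H935.A7Q

open Module Equiv.Perm Cfsg.Agent.H637.A7Grp Cfsg.Agent.H637.A7Cov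

variable {K V D : Type*} [Field K] [AddCommGroup V] [Module K V] [Group D] {π : D →* alternatingGroup (Fin 7)}
  {g : Fin 5 → D} {z : D} {ρ : D →* Module.End K V} {B : V →ₗ[K] V →ₗ[K] K}

/-- eigenvector modulo `W` -/
def Cc (ρ : D →* Module.End K V) (W : Submodule K V) (w : V) (h : D) : Prop :=
  Iv ρ W h ∧ ∃ χ : K, ρ h w - χ • w ∈ W

theorem Cc.mul {W : Submodule K V} {w : V} {x y : D} (hx : Cc ρ W w x) (hy : Cc ρ W w y) : Cc ρ W w (x * y) := by
  obtain ⟨ix, χ, h1⟩ := hx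
  obtain ⟨iy, χ', h2⟩ := hy
  refine ⟨ix.mul iy, χ' * χ, ?_⟩
  have h3 : ρ (x * y) w - (χ' * χ) • w = ρ x (ρ y w - χ' • w) + χ' • (ρ x w - χ • w) := by
    rw [rho_mul, map_sub, map_smul, smul_sub, smul_smul]
    abel
  rw [h3]
  exact W.add_mem (ix _ h2) (W.smul_mem _ h1)

theorem Cc.one {W : Submodule K V} {w : V} : Cc ρ W w (1 : D) := by
  refine ⟨Iv.one W, 1, ?_⟩
  rw [map_one, one_smul]
  have : (1 : Module.End K V) w - w = 0 := sub_self w
  rw [this]
  exact W.zero_mem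

theorem Cc.pow {W : Submodule K V} {w : V} {x : D} (hx : Cc ρ W w x) (n : ℕ) : Cc ρ W w (x ^ n) := by
  induction n with
  | zero => rw [pow_zero]; exact Cc.one
  | succ n ih => rw [pow_succ]; exact ih.mul hx

/-- the group `2.A₆` -/
def H6 (g : Fin 5 → D) : Subgroup D := Subgroup.closure (Set.range fun i : Fin 4 => g i.castSucc)

theorem iv_H6 {W : Submodule K V} [Finite D] (h : ∀ i, i ≠ 4 → Iv ρ W (g i)) {x : D} (hx : x ∈ H6 g) : Iv ρ W x := by
  induction hx using Subgroup.closure_induction with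
  | mem x hx =>
    obtain ⟨i, rfl⟩ := hx
    exact h _ (by have := i.2; intro h; have h2 := congrArg Fin.val h; simp at h2; omega)
  | one => exact Iv.one W
  | mul x y _ _ hx hy => exact hx.mul hy
  | inv x _ hx => exact hx.inv

section

variable (C : Ctx π g z ρ B) {W : Submodule K V} (S : St g ρ B W) {b σ q : D} (E : El π z (g 0) b σ q)
include C E

theorem cover (hsg : π σ = sg) {w : V} (ca : Cc ρ W w (g 0)) (cb : Cc ρ W w b) (cs : Cc ρ W w σ) {x : D}
    (hx : x ∈ H6 g) : ∃ (j : Fin 10) (h : D), Cc ρ W w h ∧ π x = nb j * π h := by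
  have step : ∀ (i : Fin 4) (y : D), (∃ (j : Fin 10) (h : D), Cc ρ W w h ∧ π y = nb j * π h) →
      ∃ (j : Fin 10) (h : D), Cc ρ W w h ∧ π (g i.castSucc * y) = nb j * π h := by
    rintro i y ⟨j, h, hC, hy⟩
    refine ⟨(tb i j).1, (g 0) ^ (tb i j).2.1 * b ^ (tb i j).2.2.1 * σ ^ (tb i j).2.2.2 * h,
      (((ca.pow _).mul (cb.pow _)).mul (cs.pow _)).mul hC, ?_⟩
    rw [map_mul, hy, C.good.gP, ← mul_assoc, tb_eq, map_mul, map_mul, map_mul, map_pow, map_pow, map_pow, E.pb, hsg,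
      C.good.gP]
    simp only [mul_assoc]
  unfold H6 at hx
  induction hx using Subgroup.closure_induction_left with
  | one => exact ⟨0, 1, Cc.one, by rw [map_one]; rfl⟩
  | mul_left x hx y _ ih =>
    obtain ⟨i, rfl⟩ := hx
    exact step i y ih
  | inv_mul_cancel x hx y _ ih =>
    obtain ⟨i, rfl⟩ := hx
    have h1 : (g i.castSucc)⁻¹ * y = g i.castSucc * (g i.castSucc * y) := by
      rw [← mul_assoc]
      congr 1
      apply inv_eq_of_mul_eq_one_left
      rw [← C.good.cube i.castSucc, pow_succ, pow_two]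
    change ∃ (j : Fin 10) (h : D), Cc ρ W w h ∧ π ((g i.castSucc)⁻¹ * y) = nb j * π h
    rw [h1]
    exact step i _ (step i y ih)

include S

/-- the orbit of the highest weight vector is totally singular -/
theorem key (hsg : π σ = sg) {w : V} (hw : w ∈ Pp B W) (ca : Cc ρ W w (g 0)) (cb : Cc ρ W w b) {κ : K}
    (hκ : κ ^ 4 = -1) (is : Iv ρ W σ) (cs : ρ σ w - κ • w ∈ W) {x : D} (hx : x ∈ H6 g) : B w (ρ x w) = 0 := by
  have hfin := C.good.fin
  have hW : ∀ u ∈ W, B w u = 0 := hw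
  -- the vector is singular
  have hww : B w w = 0 := by
    have h1 := C.inv σ w w
    have h2 : ρ σ w = (ρ σ w - κ • w) + κ • w := by abel
    have h3 : B w (ρ σ w - κ • w) = 0 := hW _ cs
    have h4 : B (ρ σ w - κ • w) w = 0 := by rw [C.sym]; exact h3
    have h5 : B (ρ σ w - κ • w) (ρ σ w - κ • w) = 0 := S.iso _ cs _ cs
    rw [h2] at h1
    simp only [map_add, LinearMap.add_apply, map_smul, LinearMap.smul_apply, smul_eq_mul, h3, h4, h5] at h1
    have h6 : (κ * κ - 1) * B w w = 0 := by linear_combination h1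
    rcases mul_eq_zero.1 h6 with h | h
    · exfalso
      apply C.two
      have h7 : κ ^ 4 = 1 := by linear_combination (κ * κ + 1) * h
      rw [hκ] at h7
      linear_combination -h7
    · exact h
  obtain ⟨j, h, ⟨ih, χ, hχ⟩, hj⟩ := cover C E hsg ca cb ⟨is, κ, cs⟩ hx
  set n := x * h⁻¹ with hn
  have hxn : x = n * h := by rw [hn, inv_mul_cancel_right]
  have hπn : π n = nb j := by rw [hn, map_mul, map_inv, hj, mul_inv_cancel_right]
  have ivn : Iv ρ W n := (iv_H6 S.iv hx).mul ih.inv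
  have hnw : B w (ρ n w) = 0 := by
    by_cases h1 : π n = 1
    · rcases C.good.ker n h1 with h2 | h2
      · rw [h2, map_one]; exact hww
      · rw [h2, C.rz, map_neg, hww, neg_zero]
    · have h2 : n * n = z := C.good.sq_eq (by rw [hπn]; exact nb_sq j) h1
      have h3 := B_neg C h2 w w
      have h4 : (2 : K) * B w (ρ n w) = 0 := by linear_combination h3
      exact (mul_eq_zero.1 h4).resolve_left C.two
  have h1 : ρ x w = χ • ρ n w + ρ n (ρ h w - χ • w) := by
    rw [hxn, rho_mul, map_sub, map_smul]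
    abel
  rw [h1, map_add, map_smul, hnw, smul_zero, zero_add]
  exact hW _ (ivn _ hχ)

/-- enlarging the space -/
theorem extend (hsg : π σ = sg) {w : V} (hw : w ∈ Pp B W) (ca : Cc ρ W w (g 0)) (cb : Cc ρ W w b) {κ : K}
    (hκ : κ ^ 4 = -1) (is : Iv ρ W σ) (cs : ρ σ w - κ • w ∈ W) :
    St g ρ B (W ⊔ Submodule.span K (Set.range fun x : H6 g => ρ x w)) := by
  have hfin := C.good.fin
  set O := Submodule.span K (Set.range fun x : H6 g => ρ x w) with hO
  have hk : ∀ x ∈ H6 g, B w (ρ x w) = 0 := fun x hx => key C S E hsg hw ca cb hκ is cs hx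
  have hOP : O ≤ Pp B W := by
    rw [hO, Submodule.span_le]
    rintro _ ⟨x, rfl⟩
    exact (iv_H6 S.iv x.2).perp C w hw
  have hOO : ∀ o ∈ O, ∀ o' ∈ O, B o o' = 0 := by
    intro o ho
    have h1 : ∀ x ∈ H6 g, B o (ρ x w) = 0 := by
      intro x hx
      rw [hO] at ho
      induction ho using Submodule.span_induction with
      | mem o ho =>
        obtain ⟨y, rfl⟩ := ho
        have h2 : ρ x w = ρ y (ρ ((y : D)⁻¹ * x) w) := by rw [← rho_mul, mul_inv_cancel_left]
        change B (ρ y w) (ρ x w) = 0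
        rw [h2, C.inv]
        exact hk _ (mul_mem (inv_mem y.2) hx)
      | zero => rw [map_zero, LinearMap.zero_apply]
      | add u v _ _ hu hv => rw [map_add, LinearMap.add_apply, hu, hv, add_zero]
      | smul c u _ hu => rw [map_smul, LinearMap.smul_apply, hu, smul_zero]
    intro o' ho'
    rw [hO] at ho'
    induction ho' using Submodule.span_induction with
    | mem o' ho' =>
      obtain ⟨y, rfl⟩ := ho'
      exact h1 y y.2
    | zero => rw [map_zero]
    | add u v _ _ hu hv => rw [map_add, hu, hv, add_zero]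
    | smul c u _ hu => rw [map_smul, hu, smul_zero]
  constructor
  · intro i hi v hv
    have hgi : g i ∈ H6 g := by
      refine Subgroup.subset_closure ⟨⟨i.1, ?_⟩, rfl⟩
      have := i.2
      have h2 : i.1 ≠ 4 := fun h => hi (Fin.ext h)
      omega
    have hOi : ∀ o ∈ O, ρ (g i) o ∈ O := by
      intro o ho
      rw [hO] at ho
      induction ho using Submodule.span_induction with
      | mem o ho =>
        obtain ⟨y, rfl⟩ := ho
        refine Submodule.subset_span ⟨⟨g i * y, mul_mem hgi y.2⟩, ?_⟩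
        change ρ (g i * y) w = ρ (g i) (ρ y w)
        rw [rho_mul]
      | zero => rw [map_zero]; exact O.zero_mem
      | add u v _ _ hu hv => rw [map_add]; exact O.add_mem hu hv
      | smul c u _ hu => rw [map_smul]; exact O.smul_mem _ hu
    obtain ⟨w₁, hw₁, o, ho, rfl⟩ := Submodule.mem_sup.1 hv
    rw [map_add]
    exact Submodule.add_mem_sup (S.iv i hi w₁ hw₁) (hOi o ho)
  · intro v hv v' hv'
    obtain ⟨w₁, hw₁, o, ho, rfl⟩ := Submodule.mem_sup.1 hv
    obtain ⟨w₂, hw₂, o', ho', rfl⟩ := Submodule.mem_sup.1 hv'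
    simp only [map_add, LinearMap.add_apply]
    rw [S.iso _ hw₁ _ hw₂, hOO o ho o' ho', hOP ho w₂ hw₂, C.sym w₁ o', hOP ho' w₁ hw₁]
    simp

end

/-- **The Lagrangian subspace.** -/
theorem exists_lagr (C : Ctx π g z ρ B) [FiniteDimensional K V] (h3 : (3 : K) = 0) {l : K} (hl : l ^ 4 = -1) :
    ∃ W : Submodule K V, St g ρ B W ∧ Pp B W = W := by
  obtain ⟨b, σ, q, E, hσ, hb⟩ := exists_el C.good
  have hsg : π σ = sg := by
    rw [hσ]; simp only [map_mul, C.good.gP]; rfl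
  have hne : {W : Submodule K V | St g ρ B W}.Nonempty := by
    refine ⟨⊥, ⟨fun i _ v hv => ?_, fun v hv w _ => ?_⟩⟩
    · rw [Submodule.mem_bot] at hv ⊢
      rw [hv, map_zero]
    · rw [(Submodule.mem_bot K).1 hv, map_zero, LinearMap.zero_apply]
  obtain ⟨W, S, hmax⟩ := WellFounded.has_min (wellFounded_gt (α := Submodule K V)) _ hne
  have S' : St g ρ B W := S
  refine ⟨W, S, le_antisymm ?_ (fun v hv w hw => S'.iso v hv w hw)⟩
  by_contra hcon
  obtain ⟨v₀, hv₀, hv₀'⟩ := Set.not_subset.1 hcon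
  obtain ⟨w, hw, hw', ha, hb', κ, hκ, hs⟩ := exists_hw C S' E hσ hb h3 hl hv₀ hv₀'
  have ca : Cc ρ W w (g 0) := ⟨S'.iv 0 (by decide), 1, by rw [one_smul]; exact ha⟩
  have cb : Cc ρ W w b := ⟨iv_b S' hb, 1, by rw [one_smul]; exact hb'⟩
  have h1 := extend C S' E hsg hw ca cb hκ (iv_sigma S' hσ) hs
  refine hmax _ h1 (lt_of_le_of_ne le_sup_left ?_)
  intro h2
  apply hw'
  rw [h2]
  refine Submodule.mem_sup_right (Submodule.subset_span ⟨1, ?_⟩)
  change ρ ((1 : H6 g) : D) w = w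
  rw [Subgroup.coe_one, map_one]
  rfl

/-- the dimension of a Lagrangian subspace -/
theorem finrank_lagr (C : Ctx π g z ρ B) [FiniteDimensional K V] {W : Submodule K V} (h : Pp B W = W) :
    2 * finrank K W = finrank K V := by
  have hnd : LinearMap.BilinForm.Nondegenerate B := by
    constructor
    · intro v hv; exact C.nd v hv
    · intro v hv; exact C.nd v (fun w => by rw [C.sym]; exact hv w)
  have h1 : LinearMap.BilinForm.orthogonal B W = W := by
    conv_rhs => rw [← h]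
    ext v
    rw [LinearMap.BilinForm.mem_orthogonal_iff]
    constructor
    · intro h w hw; rw [C.sym]; exact h w hw
    · intro h w hw; rw [C.sym]; exact h w hw
  have h2 := LinearMap.BilinForm.finrank_orthogonal hnd W
  rw [h1] at h2
  have h3 := Submodule.finrank_le W
  omega

end Cfsg.Agent.H935.A7Q
end

-- part: H935/A7Q/Three
section
/-!
# `2.A₇` in dimension twelve with a symmetric form, characteristic three (helper935)
-/

set_option autoImplicit false
set_option linter.unusedSectionVars false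

namespace Cfsg.Agent.H935.A7Q

open Module Equiv.Perm Cfsg.Agent.H637.A7Grp Cfsg.Agent.H637.A7Cov Polynomial

/-- `(1 2 4 3)(5 6)` -/
def tt : alternatingGroup (Fin 7) := ⟨c[1, 2, 4, 3] * c[5, 6], mem_alternatingGroup.2 (by decide +kernel)⟩

/-- `(0 1 2 3 4)` -/
def cc : alternatingGroup (Fin 7) := s 2 * s 1 * s 1 * s 0

/-- `(1 2)(3 4)` -/
def yy : alternatingGroup (Fin 7) := ⟨c[1, 2] * c[3, 4], mem_alternatingGroup.2 (by decide +kernel)⟩

theorem cc_five : cc ^ 5 = 1 := by decide +kernel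
theorem tt_cc : tt * cc * tt⁻¹ = cc * cc := by decide +kernel
theorem tt_sq : tt * tt = ([0, 1, 1, 0, 2].map s).prod := by decide +kernel
theorem tt_four : tt * tt * (tt * tt) = 1 := by decide +kernel
theorem tt_ne : tt * tt ≠ 1 := by decide +kernel
theorem tt_1 : tt⁻¹ * s 1 * tt = ([2, 1, 1].map s).prod := by decide +kernel
theorem tt_4 : s 4 = tt * ([3, 1, 1].map s).prod * tt⁻¹ := by decide +kernel
theorem tt_c : tt⁻¹ * cc * tt = ([2, 1, 1, 0, 2, 1, 1, 0, 2, 1, 1, 0].map s).prod := by decide +kernel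
theorem yy_sq : yy * yy = 1 := by decide +kernel
theorem yy_ne : yy ≠ 1 := by decide +kernel
theorem yt_sq : yy * tt * (yy * tt) = 1 := by decide +kernel
theorem yt_ne : yy * tt ≠ 1 := by decide +kernel
theorem cx_sq : cc * (s 1 * (cc * cc) * (s 1)⁻¹) * (cc * (s 1 * (cc * cc) * (s 1)⁻¹)) = 1 := by decide +kernel
theorem cx_ne : cc * (s 1 * (cc * cc) * (s 1)⁻¹) ≠ 1 := by decide +kernel

variable {K V D : Type*} [Field K] [AddCommGroup V] [Module K V] [Group D] {π : D →* alternatingGroup (Fin 7)}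
  {g : Fin 5 → D} {z : D} {ρ : D →* Module.End K V} {B : V →ₗ[K] V →ₗ[K] K}

/-- elements -/
structure El3 (π : D →* alternatingGroup (Fin 7)) (g : Fin 5 → D) (z t c y : D) : Prop where
  pt : π t = tt
  pc : π c = cc
  c5 : c ^ 5 = 1
  tc : c * t = t * c ^ 3
  t4 : t * t * (t * t) = z
  yy : y * y = z
  yt : t * y = y * t⁻¹
  cx : c * (g 1 * c ^ 2 * (g 1)⁻¹) * (c * (g 1 * c ^ 2 * (g 1)⁻¹)) = z

theorem exists_el3 (H : Good π g z) : ∃ t c y : D, El3 π g z t c y := by
  obtain ⟨t, ht⟩ := H.surj tt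
  obtain ⟨y, hy⟩ := H.surj yy
  obtain ⟨c₀, hc₀⟩ := H.surj cc
  obtain ⟨h1, h2⟩ := lift_pow H (n := 5) ⟨2, rfl⟩ (x := c₀) (by rw [hc₀, cc_five])
  obtain ⟨c, hc⟩ : ∃ c, c = c₀ ^ (5 + 1) := ⟨_, rfl⟩
  rw [← hc] at h1 h2
  rw [hc₀] at h2
  have hyy : y * y = z := H.sq_eq (by rw [hy]; exact yy_sq) (by rw [hy]; exact yy_ne)
  have e1 : t * c * t⁻¹ = c ^ 2 := by
    refine eq_odd H (n := 5) ⟨2, rfl⟩ ?_ (by rw [conj_pow, h1, mul_one, mul_inv_cancel])
      (by rw [← pow_mul, mul_comm, pow_mul, h1, one_pow])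
    rw [map_mul, map_mul, map_inv, ht, map_pow, h2, tt_cc, pow_two]
  refine ⟨t, c, y, ⟨ht, h2, h1, ?_, ?_, hyy, ?_, ?_⟩⟩
  · have h3 : c = (t * c * t⁻¹) ^ 3 := by
      rw [e1, ← pow_mul, show 2 * 3 = 5 + 1 from rfl, pow_succ, h1, one_mul]
    rw [conj_pow] at h3
    nth_rewrite 1 [h3]
    rw [inv_mul_cancel_right]
  · apply H.sq_eq
    · rw [map_mul, ht]; exact tt_four
    · rw [map_mul, ht]; exact tt_ne
  · have h3 : y * t * (y * t) = z := H.sq_eq (by rw [map_mul, hy, ht]; exact yt_sq) (by rw [map_mul, hy, ht]; exact yt_ne)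
    rw [← hyy] at h3
    have h4 : t * y * t = y := by
      have h5 : y * (t * y * t) = y * y := by rw [← h3]; group
      exact mul_left_cancel h5
    rw [eq_mul_inv_iff_mul_eq]
    exact h4
  · apply H.sq_eq
    · simp only [map_mul, map_inv, H.gP, h2, pow_two]; exact cx_sq
    · simp only [map_mul, map_inv, H.gP, h2, pow_two]; exact cx_ne

theorem aeval_five {T : V →ₗ[K] V} {ζ : K} (hζ : ζ ^ 4 + ζ ^ 3 + ζ ^ 2 + ζ + 1 = 0)
    (hT : ∀ v, T (T (T (T (T v)))) = v) (v : V) :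
    aeval T (∏ i : Fin 5, (X - C ((![1, ζ, ζ ^ 2, ζ ^ 3, ζ ^ 4] : Fin 5 → K) i))) v = 0 := by
  have h1 : (∏ i : Fin 5, (X - C ((![1, ζ, ζ ^ 2, ζ ^ 3, ζ ^ 4] : Fin 5 → K) i))) = X ^ 5 - (1 : K[X]) := by
    rw [Fin.prod_univ_five]
    simp only [Matrix.cons_val_zero, Matrix.cons_val_one, Matrix.cons_val, map_one, map_pow]
    obtain ⟨w, hw⟩ : ∃ w : K[X], w = C ζ := ⟨_, rfl⟩
    have h2 : w ^ 4 + w ^ 3 + w ^ 2 + w + 1 = 0 := by
      rw [hw, ← C_pow, ← C_pow, ← C_pow, ← C_add, ← C_add, ← C_add, ← C_1, ← C_add, hζ, C_0]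
    rw [← hw]
    linear_combination (-X ^ 4 + X ^ 3 * w ^ 3 + X ^ 3 * w - X ^ 2 * w ^ 5 - X ^ 2 * w ^ 3 + X * w ^ 6 - w ^ 6 + w ^ 5 -
      w + 1) * h2
  rw [h1, map_sub, map_pow, aeval_X, map_one, LinearMap.sub_apply]
  change T (T (T (T (T v)))) - v = 0
  rw [hT, sub_self]

theorem aeval_eight {T : V →ₗ[K] V} {l : K} (hl : l ^ 4 = -1)
    (hT : ∀ v, T (T (T (T v))) = -v) (v : V) :
    aeval T (∏ i : Fin 4, (X - C ((![l, -l, l ^ 3, -l ^ 3] : Fin 4 → K) i))) v = 0 := by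
  have h1 : (∏ i : Fin 4, (X - C ((![l, -l, l ^ 3, -l ^ 3] : Fin 4 → K) i))) = X ^ 4 + (1 : K[X]) := by
    rw [Fin.prod_univ_four]
    simp only [Matrix.cons_val_zero, Matrix.cons_val_one, Matrix.cons_val, map_neg, map_pow]
    obtain ⟨w, hw⟩ : ∃ w : K[X], w = C l := ⟨_, rfl⟩
    have h2 : w ^ 4 = -1 := by
      rw [hw, ← C_pow, hl, C_neg, C_1]
    rw [← hw]
    linear_combination (-w ^ 2 * X ^ 2 + w ^ 4 - 1) * h2
  rw [h1, map_add, map_pow, aeval_X, map_one, LinearMap.add_apply]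
  change T (T (T (T v))) + v = 0
  rw [hT, neg_add_cancel]

theorem inj_eight {l : K} (hl : l ^ 4 = -1) (h2 : (2 : K) ≠ 0) :
    Function.Injective (![l, -l, l ^ 3, -l ^ 3] : Fin 4 → K) := by
  have l0 : l ≠ 0 := by
    rintro rfl
    apply h2
    linear_combination (2 : K) * hl
  have e1 : l ≠ -l := by
    intro h
    have : (2 : K) * l = 0 := by linear_combination h
    exact (mul_ne_zero h2 l0) this
  have e1' : l ^ 3 ≠ -l ^ 3 := by
    intro h
    have : (2 : K) * l ^ 3 = 0 := by linear_combination h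
    exact (mul_ne_zero h2 (pow_ne_zero 3 l0)) this
  have e2 : l ≠ l ^ 3 := by
    intro h
    have h3 : l * (l ^ 2 - 1) = 0 := by linear_combination -h
    have h4 := (mul_eq_zero.1 h3).resolve_left l0
    apply h2
    linear_combination hl - (l ^ 2 + 1) * h4
  have e3 : l ≠ -l ^ 3 := by
    intro h
    have h3 : l * (l ^ 2 + 1) = 0 := by linear_combination h
    have h4 := (mul_eq_zero.1 h3).resolve_left l0
    apply h2
    linear_combination hl - (l ^ 2 - 1) * h4
  have e4 : -l ≠ l ^ 3 := fun h => e3 (by rw [← h, neg_neg])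
  have e5 : -l ≠ -l ^ 3 := fun h => e2 (neg_injective h)
  intro i j h
  fin_cases i <;> fin_cases j
  map_tacs [(rfl); (exact absurd h e1); (exact absurd h e2); (exact absurd h e3); (exact absurd h.symm e1); (rfl); (exact absurd h e4); (exact absurd h e5);
   (exact absurd h.symm e2); (exact absurd h.symm e4); (rfl); (exact absurd h e1'); (exact absurd h.symm e3); (exact absurd h.symm e5);
   (exact absurd h.symm e1'); (rfl)]

theorem inj_five {ζ : K} (hζ : ζ ^ 4 + ζ ^ 3 + ζ ^ 2 + ζ + 1 = 0) (h5 : (5 : K) ≠ 0) :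
    Function.Injective (![1, ζ, ζ ^ 2, ζ ^ 3, ζ ^ 4] : Fin 5 → K) := by
  have h51 : ζ ^ 5 = 1 := by linear_combination (ζ - 1) * hζ
  have z0 : ζ ≠ 0 := by
    rintro rfl
    apply h5
    linear_combination (5 : K) * hζ
  have e1 : (1 : K) ≠ ζ := by
    rintro rfl
    apply h5
    linear_combination hζ
  have e2 : (1 : K) ≠ ζ ^ 2 := by
    intro h
    apply e1
    linear_combination -(ζ ^ 2 + 1) * ζ * h - h51
  have e3 : (1 : K) ≠ ζ ^ 3 := by
    intro h
    apply e2
    linear_combination - ζ ^ 2 * h - h51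
  have e4 : (1 : K) ≠ ζ ^ 4 := by
    intro h
    apply e1
    linear_combination - ζ * h - h51
  have f1 : ζ ≠ ζ ^ 2 := fun h => e1 (mul_left_cancel₀ z0 (by linear_combination h))
  have f2 : ζ ≠ ζ ^ 3 := fun h => e2 (mul_left_cancel₀ z0 (by linear_combination h))
  have f3 : ζ ≠ ζ ^ 4 := fun h => e3 (mul_left_cancel₀ z0 (by linear_combination h))
  have f4 : ζ ^ 2 ≠ ζ ^ 3 := fun h => f1 (mul_left_cancel₀ z0 (by linear_combination h))
  have f5 : ζ ^ 2 ≠ ζ ^ 4 := fun h => f2 (mul_left_cancel₀ z0 (by linear_combination h))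
  have f6 : ζ ^ 3 ≠ ζ ^ 4 := fun h => f4 (mul_left_cancel₀ z0 (by linear_combination h))
  intro i j h
  fin_cases i <;> fin_cases j
  map_tacs [(rfl); (exact absurd h e1); (exact absurd h e2); (exact absurd h e3); (exact absurd h e4); (exact absurd h.symm e1); (rfl); (exact absurd h f1);
   (exact absurd h f2); (exact absurd h f3); (exact absurd h.symm e2); (exact absurd h.symm f1); (rfl); (exact absurd h f4); (exact absurd h f5);
   (exact absurd h.symm e3); (exact absurd h.symm f2); (exact absurd h.symm f4); (rfl); (exact absurd h f6); (exact absurd h.symm e4);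
   (exact absurd h.symm f3); (exact absurd h.symm f5); (exact absurd h.symm f6); (rfl)]

end Cfsg.Agent.H935.A7Q
end

-- part: H935/A7Q/Three2
section
/-!
# `2.A₇` in dimension twelve with a symmetric form, characteristic three: the end (helper935)
-/

set_option autoImplicit false
set_option linter.unusedSectionVars false

namespace Cfsg.Agent.H935.A7Q

open Module Equiv.Perm Cfsg.Agent.H637.A7Grp Cfsg.Agent.H637.A7Cov Polynomial

variable {K V D : Type*} [Field K] [AddCommGroup V] [Module K V] [Group D] {π : D →* alternatingGroup (Fin 7)}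
  {g : Fin 5 → D} {z : D} {ρ : D →* Module.End K V} {B : V →ₗ[K] V →ₗ[K] K}

theorem rho_inv_mul (x : D) (v : V) : ρ x⁻¹ (ρ x v) = v := by
  rw [← rho_mul, inv_mul_cancel, map_one]
  rfl

theorem rho_mul_inv (x : D) (v : V) : ρ x (ρ x⁻¹ v) = v := by
  rw [← rho_mul, mul_inv_cancel, map_one]
  rfl

section

variable (C : Ctx π g z ρ B) [FiniteDimensional K V] (h12 : finrank K V = 12) {W : Submodule K V} (S : St g ρ B W)
  (hP : Pp B W = W) {t c y : D} (E : El3 π g z t c y)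

include C S in
theorem iv6 {l : List (Fin 5)} (hl : ∀ i ∈ l, i ≠ 4) {x : D} (hx : π x = (l.map s).prod) : Iv ρ W x :=
  Iv.word C (fun i hi => S.iv i (hl i hi)) hx

include C h12 S hP E

/-- `W` is not invariant under `t` -/
theorem not_iv (h : Iv ρ W t) : False := by
  have hfin := C.good.fin
  have h4 : Iv ρ W (g 4) := by
    obtain ⟨x, hx⟩ : ∃ x, x = (([3, 1, 1] : List (Fin 5)).map g).prod := ⟨_, rfl⟩
    have hx' : π x = (([3, 1, 1] : List (Fin 5)).map s).prod := by rw [hx, pi_word C.good]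
    have ix : Iv ρ W x := iv6 C S (by decide) hx'
    refine ((h.mul ix).mul h.inv).congr C ?_
    rw [C.good.gP, map_mul, map_mul, map_inv, hx', E.pt]
    exact tt_4
  have hall : ∀ i, Iv ρ W (g i) := by
    intro i
    by_cases hi : i = 4
    · rw [hi]; exact h4
    · exact S.iv i hi
  have hD : ∀ d, Iv ρ W d := by
    intro d
    have hd : d ∈ Subgroup.closure (Set.range g) := by rw [C.good.gen]; trivial
    induction hd using Subgroup.closure_induction with
    | mem x hx =>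
      obtain ⟨i, rfl⟩ := hx
      exact hall i
    | one => exact Iv.one W
    | mul x y _ _ hx hy => exact hx.mul hy
    | inv x _ hx => exact hx.inv
  have h6 := finrank_lagr C hP
  rcases C.irr W (fun d v hv => hD d v hv) with h | h
  · rw [h, finrank_bot] at h6
    omega
  · rw [h, finrank_top] at h6
    omega

/-- the intersection -/
theorem iv_tt : Iv ρ W (t * t) := by
  refine iv6 C S (l := [0, 1, 1, 0, 2]) (by decide) ?_
  rw [map_mul, E.pt]
  exact tt_sq

/-- the case of trivial intersection -/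
theorem case_bot {l : K} (hl : l ^ 4 = -1) (h : W ⊓ W.comap (ρ t⁻¹) = ⊥) : False := by
  have itt := iv_tt C h12 S hP E
  have h6 := finrank_lagr C hP
  rw [h12] at h6
  have ht4 : ∀ v, ρ t (ρ t (ρ t (ρ t v))) = -v := by
    intro v
    rw [← rho_mul, ← rho_mul, ← rho_mul, show t * t * t * t = t * t * (t * t) by group, E.t4, C.rz]
  obtain ⟨d1, d2⟩ := decomp (ρ t) _ (inj_eight hl C.two) Finset.univ ⊤ (fun _ _ => Submodule.mem_top)
    (fun v _ => aeval_eight hl ht4 v)
  -- the complement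
  have hc6 : finrank K ↥(W.comap (ρ t⁻¹)) = 6 := by
    apply le_antisymm
    · have h1 := finrank_le_rho C t⁻¹ (U := W.comap (ρ t⁻¹)) (U' := W) (fun v hv => hv)
      omega
    · have h1 := finrank_le_rho C t (U := W) (U' := W.comap (ρ t⁻¹)) (fun v hv => by
        rw [Submodule.mem_comap, rho_inv_mul]; exact hv)
      omega
  have hcompl : IsCompl W (W.comap (ρ t⁻¹)) := by
    refine ⟨disjoint_iff.2 h, codisjoint_iff.2 ?_⟩
    apply Submodule.eq_top_of_finrank_eq
    have h1 := Submodule.finrank_sup_add_finrank_inf_eq W (W.comap (ρ t⁻¹))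
    rw [h, finrank_bot, hc6] at h1
    rw [h12]
    omega
  -- the involution
  let P := Submodule.projectionOnto W (W.comap (ρ t⁻¹)) hcompl
  let ε : V →ₗ[K] V := (2 : K) • (W.subtype ∘ₗ P) - LinearMap.id
  have hε : ∀ w₁ ∈ W, ∀ w₂ ∈ W.comap (ρ t⁻¹), ε (w₁ + w₂) = w₁ - w₂ := by
    intro w₁ h1 w₂ h2
    have e1 : P w₁ = ⟨w₁, h1⟩ := Submodule.projectionOnto_apply_left hcompl ⟨w₁, h1⟩
    have e2 : P w₂ = 0 := (Submodule.projectionOnto_apply_eq_zero_iff hcompl).2 h2
    have e3 : ε (w₁ + w₂) = (2 : K) • ((P w₁ : V) + (P w₂ : V)) - (w₁ + w₂) := by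
      simp only [ε, LinearMap.sub_apply, LinearMap.smul_apply, LinearMap.comp_apply, LinearMap.id_apply, map_add,
        Submodule.subtype_apply]
      module
    rw [e3, e1, e2, ZeroMemClass.coe_zero, add_zero, two_smul]
    abel
  have hdec : ∀ v, ∃ w₁ ∈ W, ∃ w₂ ∈ W.comap (ρ t⁻¹), v = w₁ + w₂ := by
    intro v
    have h1 : v ∈ W ⊔ W.comap (ρ t⁻¹) := by rw [hcompl.sup_eq_top]; trivial
    obtain ⟨w₁, h1, w₂, h2, h3⟩ := Submodule.mem_sup.1 h1
    exact ⟨w₁, h1, w₂, h2, h3.symm⟩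
  have hswap : ∀ v, ρ t (ε v) = -ε (ρ t v) := by
    intro v
    obtain ⟨w₁, h1, w₂, h2, rfl⟩ := hdec v
    have h3 : ρ t w₁ ∈ W.comap (ρ t⁻¹) := by rw [Submodule.mem_comap, rho_inv_mul]; exact h1
    have h4 : ρ t w₂ ∈ W := by
      have h5 : ρ t w₂ = ρ (t * t) (ρ t⁻¹ w₂) := by rw [rho_mul, rho_mul_inv]
      rw [h5]
      exact itt _ h2
    rw [hε _ h1 _ h2, map_add, add_comm (ρ t w₁), hε _ h4 _ h3, map_sub]
    abel
  have hneg : ∀ κ : K, finrank K ↥(Eg (ρ t) κ) ≤ finrank K ↥(Eg (ρ t) (-κ)) := by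
    intro κ
    refine finrank_le_map ε ?_ ?_
    · intro v _ h0
      obtain ⟨w₁, h1, w₂, h2, rfl⟩ := hdec v
      rw [hε _ h1 _ h2, sub_eq_zero] at h0
      have h3 : w₁ ∈ W ⊓ W.comap (ρ t⁻¹) := ⟨h1, by rw [h0]; exact h2⟩
      rw [h, Submodule.mem_bot] at h3
      rw [← h0, h3, add_zero]
    · intro v hv
      rw [mem_Eg, hswap, mem_Eg.1 hv, map_smul, neg_smul]
  have hy : ∀ {κ κ' : K}, κ * κ' = 1 → ∀ v ∈ Eg (ρ t) κ, ρ y v ∈ Eg (ρ t) κ' := by
    intro κ κ' hκ v hv
    have h1 : ρ t⁻¹ v = κ' • v := by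
      have h2 := mem_Eg.1 hv
      have h3 : v = κ' • ρ t v := by rw [h2, smul_smul, mul_comm, hκ, one_smul]
      nth_rewrite 1 [h3]
      rw [map_smul, rho_inv_mul]
    rw [mem_Eg, ← rho_mul, E.yt, rho_mul, h1, map_smul]
  have hpar : ∀ {κ κ' : K}, κ * κ' = 1 → Even (finrank K ↥(Eg (ρ t) κ)) := by
    intro κ κ' hκ
    refine even_finrank C E.yy (U' := Eg (ρ t) κ') (hy hκ) (hy (by rw [mul_comm]; exact hκ)) ?_
    intro v hv hv'
    apply C.nd
    intro w
    refine perp_of (C.inv t) d1 hκ (mem_Eg.1 hv) ?_ w Submodule.mem_top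
    rintro w ⟨-, hw⟩
    exact hv' w hw
  have htop : ∀ W : Submodule K V, finrank K ↥(⊤ ⊓ W) = finrank K ↥W := fun W => by rw [top_inf_eq]
  rw [Fin.sum_univ_four, finrank_top, h12, htop, htop, htop, htop] at d2
  change 12 = finrank K ↥(Eg (ρ t) l) + finrank K ↥(Eg (ρ t) (-l)) + finrank K ↥(Eg (ρ t) (l ^ 3)) +
    finrank K ↥(Eg (ρ t) (-l ^ 3)) at d2
  have n1 := hneg l
  have n2 := hneg (-l)
  have n3 := hneg (l ^ 3)
  have n4 := hneg (-l ^ 3)
  rw [neg_neg] at n2 n4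
  have hll : l * -l ^ 3 = 1 := by linear_combination -hl
  have i1 := finrank_le_rho C y (hy hll)
  have i2 := finrank_le_rho C y (hy (by rw [mul_comm]; exact hll))
  obtain ⟨k, hk⟩ := hpar hll
  omega

/-- the general case -/
theorem case_mid {ζ : K} (hζ : ζ ^ 4 + ζ ^ 3 + ζ ^ 2 + ζ + 1 = 0) (h5 : (5 : K) ≠ 0)
    (h0 : W ⊓ W.comap (ρ t⁻¹) ≠ ⊥) (h1 : W ⊓ W.comap (ρ t⁻¹) ≠ W) : False := by
  have hfin := C.good.fin
  obtain ⟨U, hU⟩ : ∃ U, U = W ⊓ W.comap (ρ t⁻¹) := ⟨_, rfl⟩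
  rw [← hU] at h0 h1
  have hUW : U ≤ W := by rw [hU]; exact inf_le_left
  have h51 : ζ ^ 5 = 1 := by linear_combination (ζ - 1) * hζ
  have itt := iv_tt C h12 S hP E
  -- invariance of the intersection
  have iU : ∀ {x : D}, Iv ρ W x → Iv ρ W (t⁻¹ * x * t) → Iv ρ U x := by
    intro x i1 i2 v hv
    rw [hU] at hv ⊢
    refine ⟨i1 v hv.1, ?_⟩
    change ρ t⁻¹ (ρ x v) ∈ W
    have h3 : ρ t⁻¹ (ρ x v) = ρ (t⁻¹ * x * t) (ρ t⁻¹ v) := by
      rw [rho_mul, rho_mul_inv, rho_mul]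
    rw [h3]
    exact i2 _ hv.2
  have iUt : Iv ρ U t := by
    intro v hv
    rw [hU] at hv ⊢
    refine ⟨?_, ?_⟩
    · have h3 : ρ t v = ρ (t * t) (ρ t⁻¹ v) := by rw [rho_mul, rho_mul_inv]
      change ρ t v ∈ W
      rw [h3]
      exact itt _ hv.2
    · change ρ t⁻¹ (ρ t v) ∈ W
      rw [rho_inv_mul]
      exact hv.1
  have iWc : Iv ρ W c := iv6 C S (l := [2, 1, 1, 0]) (by decide) (by rw [E.pc]; decide +kernel)
  have iUc : Iv ρ U c := by
    refine iU iWc (iv6 C S (l := [2, 1, 1, 0, 2, 1, 1, 0, 2, 1, 1, 0]) (by decide) ?_)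
    rw [map_mul, map_mul, map_inv, E.pt, E.pc]
    exact tt_c
  have iW1 : Iv ρ W (g 1) := S.iv 1 (by decide)
  have iU1 : Iv ρ U (g 1) := by
    refine iU iW1 (iv6 C S (l := [2, 1, 1]) (by decide) ?_)
    rw [map_mul, map_mul, map_inv, E.pt, C.good.gP]
    exact tt_1
  -- the eigenspaces of `c`
  have hc5 : ∀ v, ρ c (ρ c (ρ c (ρ c (ρ c v)))) = v := by
    intro v
    rw [← rho_mul, ← rho_mul, ← rho_mul, ← rho_mul, show c * c * c * c * c = c ^ 5 by
      simp only [pow_succ, pow_zero, one_mul], E.c5, map_one]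
    rfl
  have dec : ∀ X : Submodule K V, Iv ρ X c → X ≤ ⨆ i ∈ Finset.univ, (X ⊓ Eg (ρ c) ((![1, ζ, ζ ^ 2, ζ ^ 3, ζ ^ 4] : Fin 5 → K) i)) ∧
      finrank K X = ∑ i, finrank K ↥(X ⊓ Eg (ρ c) ((![1, ζ, ζ ^ 2, ζ ^ 3, ζ ^ 4] : Fin 5 → K) i)) := by
    intro X hX
    exact decomp (ρ c) _ (inj_five hζ h5) Finset.univ X hX (fun v _ => aeval_five hζ hc5 v)
  have tm : ∀ {κ κ' : K}, κ ^ 3 = κ' → ∀ v ∈ Eg (ρ c) κ, ρ t v ∈ Eg (ρ c) κ' := by
    intro κ κ' hκ v hv
    have h3 := mem_Eg.1 hv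
    have h4 : ρ (c ^ 3) v = κ' • v := by
      rw [pow_succ, pow_two, rho_mul, rho_mul, h3, map_smul, h3, map_smul, map_smul, h3, smul_smul, smul_smul, ← hκ]
      congr 1
      ring
    rw [mem_Eg, ← rho_mul, E.tc, rho_mul, h4, map_smul]
  have tm2 : ∀ {κ κ' : K}, κ ^ 9 = κ' → ∀ v ∈ Eg (ρ c) κ, ρ (t * t) v ∈ Eg (ρ c) κ' := by
    intro κ κ' hκ v hv
    rw [rho_mul]
    exact tm (κ := κ ^ 3) (by rw [← pow_mul]; exact hκ) _ (tm rfl v hv)
  obtain ⟨d1, d2⟩ := dec ⊤ (fun _ _ => Submodule.mem_top)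
  have pair : ∀ {κ κ' : K}, κ * κ' = 1 → ∀ v ∈ Eg (ρ c) κ, (∀ w ∈ Eg (ρ c) κ', B v w = 0) → v = 0 := by
    intro κ κ' hκ v hv hv'
    apply C.nd
    intro w
    refine perp_of (C.inv c) d1 hκ (mem_Eg.1 hv) ?_ w Submodule.mem_top
    rintro w ⟨-, hw⟩
    exact hv' w hw
  have z3 : (ζ ^ 3) ^ 3 = ζ ^ 4 := by linear_combination ζ ^ 4 * h51
  have z4 : (ζ ^ 4) ^ 3 = ζ ^ 2 := by linear_combination (ζ ^ 7 + ζ ^ 2) * h51
  have z2 : (ζ ^ 2) ^ 3 = ζ := by linear_combination ζ * h51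
  have z9 : ζ ^ 9 = ζ ^ 4 := by linear_combination ζ ^ 4 * h51
  have z9' : (ζ ^ 4) ^ 9 = ζ := by
    have : (ζ ^ 4) ^ 9 = (ζ ^ 5) ^ 7 * ζ := by ring
    rw [this, h51, one_pow, one_mul]
  have z14 : ζ * ζ ^ 4 = 1 := by rw [← h51]; ring
  have z23 : ζ ^ 2 * ζ ^ 3 = 1 := by rw [← h51]; ring
  have htop : ∀ X : Submodule K V, finrank K ↥(⊤ ⊓ X) = finrank K ↥X := fun X => by rw [top_inf_eq]
  rw [Fin.sum_univ_five, finrank_top, h12, htop, htop, htop, htop, htop] at d2
  change 12 = finrank K ↥(Eg (ρ c) 1) + finrank K ↥(Eg (ρ c) ζ) + finrank K ↥(Eg (ρ c) (ζ ^ 2)) +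
    finrank K ↥(Eg (ρ c) (ζ ^ 3)) + finrank K ↥(Eg (ρ c) (ζ ^ 4)) at d2
  have m1 := finrank_le_rho C t (tm (κ := ζ) rfl)
  have m3 := finrank_le_rho C t (tm z3)
  have m4 := finrank_le_rho C t (tm z4)
  have m2 := finrank_le_rho C t (tm z2)
  obtain ⟨k, hk⟩ := even_finrank C E.t4 (U := Eg (ρ c) ζ) (U' := Eg (ρ c) (ζ ^ 4)) (tm2 z9) (tm2 z9') (pair z14)
  -- the eigenspaces in the intersection
  have du := (dec U iUc).2
  rw [Fin.sum_univ_five] at du
  change finrank K U = finrank K ↥(U ⊓ Eg (ρ c) 1) + finrank K ↥(U ⊓ Eg (ρ c) ζ) + finrank K ↥(U ⊓ Eg (ρ c) (ζ ^ 2)) +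
    finrank K ↥(U ⊓ Eg (ρ c) (ζ ^ 3)) + finrank K ↥(U ⊓ Eg (ρ c) (ζ ^ 4)) at du
  have um : ∀ {κ κ' : K}, κ ^ 3 = κ' → finrank K ↥(U ⊓ Eg (ρ c) κ) ≤ finrank K ↥(U ⊓ Eg (ρ c) κ') := by
    intro κ κ' hκ
    refine finrank_le_rho C t ?_
    rintro v ⟨hv1, hv2⟩
    exact ⟨iUt v hv1, tm hκ v hv2⟩
  have u1 := um (κ := ζ) rfl
  have u3 := um z3
  have u4 := um z4
  have u2 := um z2
  have hpos : finrank K ↥(U ⊓ Eg (ρ c) ζ) ≠ 0 := by
    intro hz
    have hU1 : finrank K U = finrank K ↥(U ⊓ Eg (ρ c) 1) := by omega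
    have hU2 : U ⊓ Eg (ρ c) 1 = U := Submodule.eq_of_le_of_finrank_eq inf_le_left hU1.symm
    have hUc : ∀ v ∈ U, ρ c v = v := by
      intro v hv
      rw [← hU2] at hv
      have h3 := mem_Eg.1 hv.2
      rwa [one_smul] at h3
    apply h0
    rw [eq_bot_iff]
    intro v hv
    refine no_fix C E.cx ?_
    have h3 : ρ (g 1)⁻¹ v ∈ U := iU1.inv v hv
    have h4 : ρ (c ^ 2) (ρ (g 1)⁻¹ v) = ρ (g 1)⁻¹ v := by rw [pow_two, rho_mul, hUc _ h3, hUc _ h3]
    rw [rho_mul, rho_mul, rho_mul, h4, rho_mul_inv, hUc v hv]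
  -- comparison with `W`
  have cmp : ∀ {κ κ' : K}, κ * κ' = 1 → finrank K ↥(Eg (ρ c) κ) ≤ 2 → finrank K ↥(U ⊓ Eg (ρ c) κ) ≠ 0 →
      finrank K ↥(U ⊓ Eg (ρ c) κ') ≠ 0 → U ⊓ Eg (ρ c) κ = W ⊓ Eg (ρ c) κ := by
    intro κ κ' hκ h2 h3 h4
    apply Submodule.eq_of_le_of_finrank_le (inf_le_inf_right _ hUW)
    have h5 : finrank K ↥(W ⊓ Eg (ρ c) κ) < finrank K ↥(Eg (ρ c) κ) := by
      apply Submodule.finrank_lt_finrank_of_lt
      refine lt_of_le_of_ne inf_le_right ?_
      intro h6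
      apply h4
      have h7 : U ⊓ Eg (ρ c) κ' = ⊥ := by
        rw [eq_bot_iff]
        rintro v ⟨hv1, hv2⟩
        refine pair (κ := κ') (κ' := κ) (by rw [mul_comm]; exact hκ) v hv2 ?_
        intro w hw
        rw [← h6] at hw
        exact S.iso _ (hUW hv1) _ hw.1
      rw [h7, finrank_bot]
    omega
  have c1 := cmp z14 (by omega) hpos (by omega)
  have c4 := cmp (κ := ζ ^ 4) (κ' := ζ) (by rw [mul_comm]; exact z14) (by omega) (by omega) hpos
  have c2 := cmp z23 (by omega) (by omega) (by omega)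
  have c3 := cmp (κ := ζ ^ 3) (κ' := ζ ^ 2) (by rw [mul_comm]; exact z23) (by omega) (by omega) (by omega)
  -- `c` acts trivially on `W / U`
  have hcU : ∀ w ∈ W, ρ c w - w ∈ U := by
    intro w hw
    have h2 : W ≤ U.comap (ρ c - 1) := by
      refine (dec W iWc).1.trans (iSup₂_le fun i _ => ?_)
      have aux : ∀ {κ : K}, U ⊓ Eg (ρ c) κ = W ⊓ Eg (ρ c) κ → W ⊓ Eg (ρ c) κ ≤ U.comap (ρ c - 1) := by
        intro κ hκ v hv
        rw [← hκ] at hv
        exact U.sub_mem (iUc v hv.1) hv.1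
      fin_cases i
      · intro v hv
        have h3 := mem_Eg.1 hv.2
        change ρ c v - v ∈ U
        rw [h3]
        change (1 : K) • v - v ∈ U
        rw [one_smul, sub_self]
        exact U.zero_mem
      · exact aux c1
      · exact aux c2
      · exact aux c3
      · exact aux c4
    exact h2 hw
  have hc2 : ∀ w ∈ W, ρ (c ^ 2) w - w ∈ U := by
    intro w hw
    have h2 : ρ (c ^ 2) w - w = ρ c (ρ c w - w) + (ρ c w - w) := by
      rw [pow_two, rho_mul, map_sub]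
      abel
    rw [h2]
    exact U.add_mem (iUc _ (hcU w hw)) (hcU w hw)
  obtain ⟨u, hu⟩ : ∃ u, u = g 1 * c ^ 2 * (g 1)⁻¹ := ⟨_, rfl⟩
  have hcu : ∀ w ∈ W, ρ u w - w ∈ U := by
    intro w hw
    have h2 : ρ u w - w = ρ (g 1) (ρ (c ^ 2) (ρ (g 1)⁻¹ w) - ρ (g 1)⁻¹ w) := by
      rw [hu, rho_mul, rho_mul, map_sub, rho_mul_inv]
    rw [h2]
    exact iU1 _ (hc2 _ (iW1.inv w hw))
  have hy : ∀ w ∈ W, ρ (c * u) w - w ∈ U := by
    intro w hw
    have h2 : ρ (c * u) w - w = ρ c (ρ u w - w) + (ρ c w - w) := by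
      rw [rho_mul, map_sub]
      abel
    rw [h2]
    exact U.add_mem (iUc _ (hcu w hw)) (hcU w hw)
  have iUu : Iv ρ U u := by
    rw [hu]
    exact (iU1.mul (iUc.pow 2)).mul iU1.inv
  apply h1
  refine le_antisymm hUW fun w hw => ?_
  have h2 : ρ (c * u) (ρ (c * u) w - w) + (ρ (c * u) w - w) ∈ U :=
    U.add_mem ((iUc.mul iUu) _ (hy w hw)) (hy w hw)
  have h3 : ρ (c * u) (ρ (c * u) w - w) + (ρ (c * u) w - w) = -((2 : K) • w) := by
    have h4 : ρ (c * u) (ρ (c * u) w) = -w := by rw [← rho_mul, hu, E.cx, C.rz]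
    rw [map_sub, h4, two_smul]
    abel
  rw [h3] at h2
  have h4 := U.neg_mem h2
  rw [neg_neg] at h4
  have h6 := U.smul_mem (2 : K)⁻¹ h4
  rwa [smul_smul, inv_mul_cancel₀ C.two, one_smul] at h6

end

/-- **Characteristic three.** -/
theorem three (C : Ctx π g z ρ B) [FiniteDimensional K V] (h12 : finrank K V = 12) (h3 : (3 : K) = 0) {l : K}
    (hl : l ^ 4 = -1) {ζ : K} (hζ : ζ ^ 4 + ζ ^ 3 + ζ ^ 2 + ζ + 1 = 0) : False := by
  have hfin := C.good.fin
  have h5 : (5 : K) ≠ 0 := by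
    intro h
    apply C.two
    linear_combination h - h3
  obtain ⟨W, S, hP⟩ := exists_lagr C h3 hl
  obtain ⟨t, c, y, E⟩ := exists_el3 C.good
  by_cases h0 : W ⊓ W.comap (ρ t⁻¹) = ⊥
  · exact case_bot C h12 S hP E hl h0
  by_cases h1 : W ⊓ W.comap (ρ t⁻¹) = W
  · apply not_iv C h12 S hP E
    have h2 : Iv ρ W t⁻¹ := by
      intro v hv
      rw [← h1] at hv
      exact hv.2
    have h4 := h2.inv
    rwa [inv_inv] at h4
  · exact case_mid C h12 S hP E hζ h5 h0 h1

end Cfsg.Agent.H935.A7Q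
end

-- part: H935/A7Q/Main
section
/-!
# `2.A₇` has no absolutely irreducible orthogonal representation of degree twelve (helper935)

`no_fixQ`: a core `P` of degree twelve with `Soc P ≅ A₇` and `-1 ∈ P`, in odd characteristic, fixes no non-degenerate
quadratic form.
-/

set_option autoImplicit false
set_option linter.unusedSectionVars false

namespace Cfsg.Agent.H935.A7Q

open Cfsg Cfsg.Geo Matrix Module Cfsg.Agent.H637.A7Main Cfsg.Agent.H637.A7Cov Cfsg.Agent.H915.LD

universe u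

variable {ι : Type} [Fintype ι] [DecidableEq ι] {F : Type u} [Field F] {P : Subgroup (GL ι F)} {Q : (ι → F) → F}

theorem gram_conj (hQ : IsNondegenerateQuadraticForm Q) (hfix : FixesQuadForm (matrixSet P) Q) {g : GL ι F}
    (hg : g ∈ P) : (g : Matrix ι ι F)ᵀ * gramMatrix (QuadraticMap.polar Q) * (g : Matrix ι ι F) =
      gramMatrix (QuadraticMap.polar Q) := by
  have hf : ∀ v, Q ((g : Matrix ι ι F) *ᵥ v) = Q v := fun v => hfix _ ⟨g, hg, rfl⟩ v
  ext i j
  have h1 : QuadraticMap.polar Q ((g : Matrix ι ι F) *ᵥ Pi.single i 1) ((g : Matrix ι ι F) *ᵥ Pi.single j 1) =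
      QuadraticMap.polar Q (Pi.single i 1) (Pi.single j 1) := by
    rw [QuadraticMap.polar, ← mulVec_add, hf, hf, hf]
    rfl
  rw [H933.O10.polar_eq_dot hQ] at h1
  have h2 : (((g : Matrix ι ι F)ᵀ * gramMatrix (QuadraticMap.polar Q) * (g : Matrix ι ι F) : Matrix ι ι F)) i j =
      ((g : Matrix ι ι F) *ᵥ Pi.single i 1) ⬝ᵥ
        (gramMatrix (QuadraticMap.polar Q) *ᵥ ((g : Matrix ι ι F) *ᵥ Pi.single j 1)) := by
    rw [mulVec_mulVec, mulVec_single_one, mulVec_single_one, Matrix.mul_assoc, Matrix.mul_apply]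
    rfl
  rw [h2, h1]
  rfl

theorem gram_symm (Q : (ι → F) → F) : (gramMatrix (QuadraticMap.polar Q))ᵀ = gramMatrix (QuadraticMap.polar Q) := by
  ext i j
  exact QuadraticMap.polar_comm _ _ _

/-- an absolutely irreducible group stays irreducible over the extension -/
theorem irr_mK [Nonempty ι] (K : Type u) [Field K] [Algebra F K] (h : ActsAbsolutelyIrreducibly (matrixSet P))
    (X : Submodule K (ι → K)) (hX : ∀ g : P, ∀ v ∈ X, mK K P g *ᵥ v ∈ X) : X = ⊥ ∨ X = ⊤ := by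
  have h1 : ∀ M : Matrix ι ι K, ∀ v ∈ X, M *ᵥ v ∈ X := by
    intro M v hv
    have hM : M ∈ Submodule.span K (Set.range (mK K P)) := by rw [span_mK K h]; trivial
    induction hM using Submodule.span_induction with
    | mem x hx =>
      obtain ⟨g, rfl⟩ := hx
      exact hX g v hv
    | zero =>
      rw [Matrix.zero_mulVec]
      exact X.zero_mem
    | add x y _ _ hx hy =>
      rw [Matrix.add_mulVec]
      exact X.add_mem hx hy
    | smul c x _ hx =>
      rw [Matrix.smul_mulVec]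
      exact X.smul_mem _ hx
  by_cases hb : X = ⊥
  · exact Or.inl hb
  · right
    obtain ⟨v, hv, hv0⟩ := Submodule.exists_mem_ne_zero_of_ne_bot hb
    obtain ⟨j, hj⟩ : ∃ j, v j ≠ 0 := by
      by_contra hcon
      push Not at hcon
      exact hv0 (funext hcon)
    rw [eq_top_iff]
    intro w _
    have h2 := h1 (Matrix.vecMulVec w (Pi.single j (v j)⁻¹)) v hv
    rw [Matrix.vecMulVec_mulVec, single_dotProduct, inv_mul_cancel₀ hj] at h2
    simpa using h2

/-- **`2.A₇` is not orthogonal in degree twelve.** -/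
theorem no_fixQ (hι : Fintype.card ι = 12) (hC : Core P) (e : Soc P ≃* alternatingGroup (Fin 7))
    (hm : ∃ g ∈ P, (g : Matrix ι ι F) = -1) (h2 : (2 : F) ≠ 0) (hQ : FixQ P) : False := by
  classical
  obtain ⟨Q, hQ, hfix⟩ := hQ
  obtain ⟨g₀, hg₀, hg₀'⟩ := hm
  let K := AlgebraicClosure F
  have hne : Nonempty ι := hC.nonempty
  have hinj : Function.Injective (algebraMap F K) := (algebraMap F K).injective
  have h2K : (2 : K) ≠ 0 := by
    intro h
    apply h2
    apply hinj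
    rw [map_ofNat, map_zero]
    exact h
  let π : P →* alternatingGroup (Fin 7) := e.toMonoidHom.comp (toSoc P)
  have hπ : Function.Surjective π := e.surjective.comp (toSoc_surjective P)
  have hker : π.ker = (scalars ι F).subgroupOf P := ker_comp e
  have hk : ∀ k, π k = 1 → (∀ g, k * g = g * k) ∧ k * k = 1 := by
    intro k hk
    have h1 : k ∈ (scalars ι F).subgroupOf P := by rw [← hker]; exact hk
    refine ⟨fun g => (Subgroup.mem_center_iff.1 (scalars_le_center h1) g).symm, ?_⟩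
    obtain ⟨c, hc⟩ := (mem_scalars_iff _).1 (Subgroup.mem_subgroupOf.1 h1)
    obtain ⟨v, hv⟩ := H879.TL.exists_ne_of_nondeg hQ
    have h3 : Q (((k : GL ι F) : Matrix ι ι F) *ᵥ v) = Q v := hfix _ ⟨k, k.2, rfl⟩ v
    rw [hc, Matrix.smul_mulVec, Matrix.one_mulVec, hQ.smul] at h3
    have h4 : ((c : F) ^ 2 - 1) * Q v = 0 := by rw [sub_mul, h3, one_mul, sub_self]
    have h5 : (c : F) ^ 2 = 1 := sub_eq_zero.1 ((mul_eq_zero.1 h4).resolve_right hv)
    apply Subtype.ext
    apply Units.ext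
    rw [Subgroup.coe_mul, Units.val_mul, hc, Matrix.smul_mul, Matrix.one_mul, smul_smul, ← pow_two, h5, one_smul]
    rfl
  obtain ⟨D, g, z, H, hs, -, -⟩ := exists_good π hπ hk hC.commutator_top (Q := Unit) (S := fun _ => 1) (m := 1)
    (fun _ => rfl) (fun _ _ _ => rfl) rfl (fun _ => rfl)
  let α : D →* P := (MonoidHom.fst _ _).comp D.subtype
  have hα : Function.Surjective α := hs
  have H' : Good (π.comp α) g z := H
  -- the central element
  have hz : mK K P (α z) = -1 := by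
    obtain ⟨d, hd⟩ := hα ⟨g₀, hg₀⟩
    have h3 : (π.comp α) d = 1 := by
      have h4 : α d ∈ π.ker := by
        rw [hker, hd, Subgroup.mem_subgroupOf, mem_scalars_iff]
        exact ⟨-1, by rw [hg₀']; simp⟩
      exact h4
    rcases H'.ker d h3 with h | h
    · exfalso
      rw [h, map_one] at hd
      have h5 : (1 : Matrix ι ι F) = -1 := by
        rw [← hg₀']
        exact congrArg (fun x : P => ((x : GL ι F) : Matrix ι ι F)) hd
      have h6 := congrFun (congrFun h5 (Classical.arbitrary ι)) (Classical.arbitrary ι)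
      rw [Matrix.neg_apply, Matrix.one_apply_eq] at h6
      apply h2
      linear_combination h6
    · rw [← h, hd]
      show (g₀ : Matrix ι ι F).map (algebraMap F K) = -1
      rw [hg₀']
      ext i j
      rw [Matrix.map_apply, Matrix.neg_apply, Matrix.neg_apply, map_neg, Matrix.one_apply, Matrix.one_apply]
      split_ifs
      · rw [map_one]
      · rw [map_zero]
  let ρ : D →* Module.End K (ι → K) :=
    (Matrix.toLinAlgEquiv' (R := K) (n := ι)).toAlgHom.toRingHom.toMonoidHom.comp ((mK K P).comp α)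
  have hρ : ∀ d v, ρ d v = mK K P (α d) *ᵥ v := fun d v => rfl
  let M : Matrix ι ι K := (gramMatrix (QuadraticMap.polar Q)).map (algebraMap F K)
  let B : (ι → K) →ₗ[K] (ι → K) →ₗ[K] K := Matrix.toLinearMap₂' K M
  have hB : ∀ v w, B v w = v ⬝ᵥ (M *ᵥ w) := fun v w => Matrix.toLinearMap₂'_apply' M v w
  have C : Ctx (π.comp α) g z ρ B := by
    refine ⟨H', ?_, ?_, ?_, ?_, ?_, h2K⟩
    · intro v
      rw [hρ, hz, Matrix.neg_mulVec, Matrix.one_mulVec]
    · intro v w
      have hM : Mᵀ = M := by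
        show ((gramMatrix (QuadraticMap.polar Q)).map (algebraMap F K))ᵀ = _
        rw [← Matrix.transpose_map, gram_symm]
      rw [hB, hB, dotProduct_mulVec, ← mulVec_transpose, hM, dotProduct_comm]
    · intro d v w
      have h3 : (mK K P (α d))ᵀ * M * mK K P (α d) = M := by
        have h4 := congrArg (fun X : Matrix ι ι F => X.map (algebraMap F K)) (gram_conj hQ hfix (α d).2)
        simp only [Matrix.map_mul] at h4
        exact h4
      rw [hB, hB, hρ, hρ]
      have h5 : (mK K P (α d) *ᵥ v) ⬝ᵥ (M *ᵥ (mK K P (α d) *ᵥ w)) = v ⬝ᵥ (((mK K P (α d))ᵀ * M * mK K P (α d)) *ᵥ w) := by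
        rw [Matrix.mul_assoc, ← Matrix.mulVec_mulVec, ← Matrix.mulVec_mulVec, Matrix.dotProduct_mulVec v,
          Matrix.vecMul_transpose]
      rw [h5, h3]
    · intro v hv
      have hU : IsUnit M := (H933.O10.isUnit_gram hQ).map (algebraMap F K).mapMatrix
      have h3 : v ᵥ* M = 0 := by
        funext i
        have h4 := hv (Pi.single i 1)
        rw [hB, dotProduct_mulVec, dotProduct_single, mul_one] at h4
        exact h4
      have h5 := Matrix.vecMul_injective_iff_isUnit.2 hU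
      apply h5
      show v ᵥ* M = 0 ᵥ* M
      rw [h3, Matrix.zero_vecMul]
    · intro X hX
      refine irr_mK K hC.absIrred X fun x v hv => ?_
      obtain ⟨d, rfl⟩ := hα x
      exact hX d v hv
  have h12 : finrank K (ι → K) = 12 := by rw [Module.finrank_fintype_fun_eq_card, hι]
  by_cases h3 : (3 : K) = 0
  · obtain ⟨l, hl⟩ := IsAlgClosed.exists_pow_nat_eq (-1 : K) (n := 4) (by norm_num)
    obtain ⟨ζ, hζ⟩ := IsAlgClosed.exists_root
      (Polynomial.X ^ 4 + Polynomial.X ^ 3 + Polynomial.X ^ 2 + Polynomial.X + 1 : Polynomial K) (by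
        have h1 : (Polynomial.X ^ 4 + Polynomial.X ^ 3 + Polynomial.X ^ 2 + Polynomial.X + 1 : Polynomial K).degree = 4 := by
          compute_degree!
        rw [h1]; decide)
    refine three C h12 h3 hl (ζ := ζ) ?_
    rw [Polynomial.IsRoot.def] at hζ
    simpa only [Polynomial.eval_add, Polynomial.eval_pow, Polynomial.eval_X, Polynomial.eval_one] using hζ
  · obtain ⟨ω, hω⟩ := IsAlgClosed.exists_root (Polynomial.X ^ 2 + Polynomial.X + 1 : Polynomial K) (by
        have h1 : (Polynomial.X ^ 2 + Polynomial.X + 1 : Polynomial K).degree = 2 := by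
          compute_degree!
        rw [h1]; decide)
    refine cross C h12 (ω := ω) ?_ h3
    rw [Polynomial.IsRoot.def] at hω
    simpa only [Polynomial.eval_add, Polynomial.eval_pow, Polynomial.eval_X, Polynomial.eval_one] using hω

end Cfsg.Agent.H935.A7Q
end

-- part: H114/O12/Final
section
/-!
# S5872 and S5875: the final theorem (helper114)
-/

set_option autoImplicit false
set_option linter.unusedSectionVars false

namespace Cfsg.Agent.H114.O12

open Cfsg Cfsg.Geo Matrix Cfsg.Agent.H915.LD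

universe u

variable {F : Type u} [Field F] [Fintype F]

theorem row_a7 {p : ℕ} {Q : (Fin 12 → F) → F} {H P : Subgroup (GL (Fin 12) F)} (h : Cx p Q H P)
    (he : Nonempty (Soc P ≃* alternatingGroup (Fin 7))) : False := by
  obtain ⟨e⟩ := he
  have := Fact.mk h.prime
  have := h.char
  by_cases hbot : (scalars (Fin 12) F).subgroupOf P = ⊥
  · exact H906.A7T.a7_simple p h.core (by rw [Fintype.card_fin]) e hbot
  · obtain ⟨z, hz1⟩ := Subgroup.ne_bot_iff_exists_ne_one.1 hbot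
    have hs : ((z : P) : GL (Fin 12) F) ∈ scalars (Fin 12) F := Subgroup.mem_subgroupOf.1 z.2
    have hz1' : ((z : P) : GL (Fin 12) F) ≠ 1 := fun h0 => hz1 (Subtype.ext (Subtype.ext h0))
    rcases h.scalar_pm (z : P).2 hs with h1 | h1
    · exact hz1' (Units.ext h1)
    · have h2 : (2 : F) ≠ 0 := by
        intro h0
        apply hz1'
        apply Units.ext
        rw [h1]
        have h3 : (-1 : F) = 1 := by linear_combination (-1 : F) * h0
        ext i j
        rw [Units.val_one, Matrix.neg_apply, Matrix.one_apply]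
        split_ifs
        · exact h3
        · rw [neg_zero]
      exact H935.A7Q.no_fixQ (by rw [Fintype.card_fin]) h.core e ⟨_, (z : P).2, h1⟩ h2 h.fixQ

/-- **The conclusion for a core.** -/
theorem concl {p : ℕ} {Q : (Fin 12 → F) → F} {H P : Subgroup (GL (Fin 12) F)} (h : Cx p Q H P)
    (hk : IsKnownSimple' (Soc P)) : Concl Q P p := by
  have := Fact.mk h.prime
  have := h.char
  by_cases hL : IsLieTypeChar p (Soc P)
  · exact (H922.Own.dc_false h hL).elim
  · exact cross h (H936.List12.list₂ le_rfl h.core hk hL) hL (row_a7 h)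
      (fun hp2 hT => m22_twelve h.core p hp2 hT (by rw [Fintype.card_fin]))

theorem final (hk : ∀ (T : Type u) [Group T] [Finite T] [IsSimpleGroup T], IsKnownSimple' T)
    {Q : (Fin 12 → F) → F} (hQ : IsNondegenerateQuadraticForm Q) {H : Subgroup (GL (Fin 12) F)}
    (hH : IsMaximalIn (omegaGL Q) H) (hS : InOrthogonalResidualClass H) :
    ∃ (P : Subgroup (GL (Fin 12) F)) (p : ℕ), IsResidualCore H P ∧ p.Prime ∧ CharP F p ∧ Concl Q P p := by
  obtain ⟨P, hc, -⟩ := hS
  obtain ⟨p, hp⟩ := CharP.exists F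
  have hpp := CharP.char_is_prime F p
  have h : Cx p Q H P := ⟨hpp, hp, hQ, hH, hc⟩
  have := h.core.simple
  exact ⟨P, p, hc, hpp, hp, concl h (hk (Soc P))⟩

end Cfsg.Agent.H114.O12
end
end
end
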